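import Cfsg.Agent.OddHalf.Table.OutFi22

/-!
# ODD half, D8, `K = Fi22`: an automorphism centralising a Sylow 2-subgroup is inner (helper368)

An automorphism fixing the members of a heptad (odd number of commuting transpositions with product one) is
inner: otherwise its lift to `2.Fi22` multiplies the lifts of the members by the central involution.
-/

set_option autoImplicit false
set_option linter.constructorNameAsVariable false

namespace Cfsg.Agent.OddHalf.D8.Fi22.SylAut

open Cfsg Cfsg.Spor Cfsg.Agent.R08 Cfsg.Agent.R08.LiftCls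
open Cfsg.Agent.R08.AutT (T)
open Cfsg.Agent.Fischer.Fi23Class (K)
open Cfsg.Agent.Fischer.Fi23Cover (kgen)
open Cfsg.Agent.R08.FiTwentyThree (pi zK S)
open Cfsg.Agent.OddHalf.Table.OutFi22
open scoped Pointwise

theorem exists_lift_list {C : Type*} [Group C] {π : C →* Spor.Fi22} {z : C} {D : Set C}
    (h : Cls π z D) (l : List Spor.Fi22) (hl : ∀ x ∈ l, x ∈ T) :
    ∃ m : List C, (∀ x ∈ m, x ∈ D) ∧ m.map π = l := by
  induction l with
  | nil => exact ⟨[], by simp, rfl⟩
  | cons x l ih =>
    obtain ⟨m, h1, h2⟩ := ih (fun y hy => hl y (List.mem_cons_of_mem _ hy))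
    obtain ⟨y, hy, hyx⟩ := h.bij.2.2 (hl x List.mem_cons_self)
    refine ⟨y :: m, ?_, by rw [List.map_cons, h2, hyx]⟩
    intro w hw
    rcases List.mem_cons.1 hw with rfl | hw
    · exact hy
    · exact h1 w hw

theorem prod_mul_central {C : Type*} [Group C] {z : C} (hz : ∀ c : C, c * z = z * c) (m : List C) :
    (m.map (fun x => x * z)).prod = m.prod * z ^ m.length := by
  induction m with
  | nil => simp
  | cons x m ih =>
    rw [List.map_cons, List.prod_cons, ih, List.prod_cons, List.length_cons, pow_succ']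
    calc x * z * (m.prod * z ^ m.length) = x * (z * m.prod) * z ^ m.length := by group
      _ = x * (m.prod * z) * z ^ m.length := by rw [hz m.prod]
      _ = x * m.prod * (z * z ^ m.length) := by group

/-- An automorphism fixing the members of an odd relation between transpositions is inner. -/
theorem inner_of_fix {β : Spor.Fi22 ≃* Spor.Fi22} {l : List Spor.Fi22} (hodd : Odd l.length)
    (hT : ∀ x ∈ l, x ∈ T) (hprod : l.prod = 1) (hfix : ∀ x ∈ l, β x = x) :
    ∃ x : Spor.Fi22, β = MulAut.conj x := by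
  obtain ⟨φ, hφ⟩ := exists_lift β
  have h := LemmaVInst.clsK
  have hz : φ zK = zK := aut_z h.ext φ
  have ha : kgen .a ∈ S := (XBridge.mem_S _).2 (IsConj.refl _)
  rcases h.aut_cases φ hz with h1 | h1
  · obtain ⟨c, hc⟩ := h.trans ha (h1 _ ha)
    exact inner_of_lift hφ (isConj_iff.2 ⟨c, hc⟩)
  · exfalso
    obtain ⟨m, hmD, hm⟩ := exists_lift_list h l hT
    have hφm : ∀ x ∈ m, φ x = x * zK := by
      intro x hx
      have h2 : φ x * zK ∈ S := h1 x (hmD x hx)
      have h3 : pi (φ x * zK) = pi x := by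
        rw [map_mul_z h.ext, hφ]
        exact hfix _ (by rw [← hm]; exact List.mem_map_of_mem hx)
      have h4 : φ x * zK = x := h.bij.2.1 h2 (hmD x hx) h3
      calc φ x = φ x * zK * zK := by rw [mul_assoc, h.ext.zz, mul_one]
        _ = x * zK := by rw [h4]
    have h2 : φ m.prod = m.prod * zK := by
      rw [map_list_prod, List.map_congr_left hφm, prod_mul_central h.ext.comm]
      have hlen : m.length = l.length := by rw [← hm, List.length_map]
      obtain ⟨k, hk⟩ := hodd
      rw [hlen, hk, pow_succ, pow_mul, pow_two, h.ext.zz, one_pow, one_mul]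
    have h3 : pi m.prod = 1 := by
      rw [map_list_prod, hm, hprod]
    rcases (h.ext.ker _).1 h3 with h4 | h4
    · rw [h4, map_one, one_mul] at h2
      exact h.ext.zne h2.symm
    · rw [h4, hz, h.ext.zz] at h2
      exact h.ext.zne h2

theorem isPGroup_closure {X : Type*} [Group X] {A : Set X} (hA : ∀ x ∈ A, x * x = 1)
    (hc : ∀ x ∈ A, ∀ y ∈ A, x * y = y * x) : IsPGroup 2 (Subgroup.closure A) := by
  have hcomm : IsMulCommutative (Subgroup.closure A) :=
    Subgroup.isMulCommutative_closure fun x hx y hy => hc x hx y hy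
  have key : ∀ x ∈ Subgroup.closure A, x * x = 1 := by
    intro x hx
    induction hx using Subgroup.closure_induction with
    | mem x hx => exact hA x hx
    | one => exact mul_one 1
    | mul x y hx hy h1 h2 =>
      have h3 : (⟨x, hx⟩ : Subgroup.closure A) * ⟨y, hy⟩ = ⟨y, hy⟩ * ⟨x, hx⟩ := mul_comm' _ _
      have h4 : x * y = y * x := congrArg Subtype.val h3
      calc x * y * (x * y) = x * (y * x) * y := by group
        _ = x * (x * y) * y := by rw [h4]
        _ = (x * x) * (y * y) := by group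
        _ = 1 := by rw [h1, h2, one_mul]
    | inv x _ h1 => rw [← mul_inv_rev, h1, inv_one]
  rintro ⟨x, hx⟩
  refine ⟨1, Subtype.ext ?_⟩
  show x ^ (2 ^ 1) = 1
  rw [pow_one, pow_two]
  exact key x hx

/-- A Sylow 2-subgroup of `Fi22` contains a heptad. -/
theorem exists_heptad_sylow (S : Sylow 2 Spor.Fi22) : ∃ l : List Spor.Fi22, Odd l.length ∧
    (∀ x ∈ l, x ∈ T) ∧ l.prod = 1 ∧ ∀ x ∈ l, x ∈ S := by
  have hfin : Finite Spor.Fi22 := Cfsg.Agent.R01.Fi22Facts.finite
  obtain ⟨l, h1, h2, h3, h4, -⟩ := Cfsg.Agent.R01.Fi22Facts.exists_heptad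
  have hp : IsPGroup 2 (Subgroup.closure {x | x ∈ l}) := by
    apply isPGroup_closure
    · intro x hx
      exact AutT.tFacts.sq x (h2 x hx)
    · intro x hx y hy
      exact List.Pairwise.forall_of_forall (R := Commute) (fun x _ => Commute.refl x) h3 hx hy
  obtain ⟨S', hS'⟩ := hp.exists_le_sylow
  obtain ⟨g, hg⟩ := MulAction.exists_smul_eq Spor.Fi22 S' S
  refine ⟨l.map (MulAut.conj g), by rwa [List.length_map], ?_, ?_, ?_⟩
  · intro x hx
    obtain ⟨y, hy, rfl⟩ := List.mem_map.1 hx
    exact AutT.tFacts.conj g y (h2 y hy)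
  · have := congrArg (MulAut.conj g) h4
    rw [map_list_prod, map_one] at this
    exact this
  · intro x hx
    obtain ⟨y, hy, rfl⟩ := List.mem_map.1 hx
    rw [← hg]
    show MulAut.conj g • y ∈ (MulAut.conj g • (S' : Subgroup Spor.Fi22))
    exact Subgroup.smul_mem_pointwise_smul _ _ _ (hS' (Subgroup.subset_closure hy))

/-- **(T1s)** An automorphism of `Fi22` centralising a Sylow 2-subgroup is inner. -/
theorem inner_of_sylow (S : Sylow 2 Spor.Fi22) (β : Spor.Fi22 ≃* Spor.Fi22)
    (h : ∀ x ∈ S, β x = x) : ∃ x : Spor.Fi22, β = MulAut.conj x := by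
  obtain ⟨l, h1, h2, h3, h4⟩ := exists_heptad_sylow S
  exact inner_of_fix h1 h2 h3 fun x hx => h x (h4 x hx)

section transport

variable {X : Type*} [Group X] (e : X ≃* Spor.Fi22)

include e

/-- **(T1s)**, for the groups isomorphic to `Fi22` -/
theorem inner_of_sylow' (S : Sylow 2 X) (β : MulAut X) (h : ∀ x ∈ S, β x = x) :
    ∃ x : X, β = MulAut.conj x := by
  have hfin : Finite Spor.Fi22 := Cfsg.Agent.R01.Fi22Facts.finite
  have hfinX : Finite X := Finite.of_equiv _ e.symm.toEquiv
  -- the image of `S`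
  have hinj : Function.Injective e.symm.toMonoidHom := e.symm.injective
  let S' : Sylow 2 Spor.Fi22 := S.comapOfInjective e.symm.toMonoidHom hinj (by
    intro x _
    exact ⟨e x, e.symm_apply_apply x⟩)
  obtain ⟨y, hy⟩ := inner_of_sylow S' ((e.symm.trans β).trans e) (by
    intro x hx
    have h1 : e.symm x ∈ S := hx
    show e (β (e.symm x)) = x
    rw [h _ h1, e.apply_symm_apply])
  refine ⟨e.symm y, ?_⟩
  ext x
  have h1 := DFunLike.congr_fun hy (e x)
  have h2 : e (β (e.symm (e x))) = y * e x * y⁻¹ := h1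
  rw [e.symm_apply_apply] at h2
  apply e.injective
  rw [h2, MulAut.conj_apply, map_mul, map_mul, map_inv, e.apply_symm_apply]

/-- the product of two outer automorphisms is inner -/
theorem mul_outer' (α β : MulAut X) (hα : ∀ x : X, α ≠ MulAut.conj x)
    (hβ : ∀ x : X, β ≠ MulAut.conj x) : ∃ x : X, α * β = MulAut.conj x := by
  have hg : ∀ x : X, MulAut.congr e (MulAut.conj x) = MulAut.conj (e x) := by
    intro x
    ext y
    show e (x * e.symm y * x⁻¹) = e x * y * (e x)⁻¹
    rw [map_mul, map_mul, map_inv, e.apply_symm_apply]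
  have key : ∀ γ : MulAut X, (∀ x : X, γ ≠ MulAut.conj x) →
      ∀ x, MulAut.congr e γ ≠ MulAut.conj x := by
    intro γ hγ x hx
    apply hγ (e.symm x)
    apply (MulAut.congr e).injective
    rw [hx, hg, e.apply_symm_apply]
  obtain ⟨x, hx⟩ := mul_outer _ _ (key α hα) (key β hβ)
  refine ⟨e.symm x, ?_⟩
  apply (MulAut.congr e).injective
  rw [map_mul, hx, hg, e.apply_symm_apply]

end transport

end Cfsg.Agent.OddHalf.D8.Fi22.SylAut
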