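import Cfsg.Agent.OddHalf.Clean

/-!
# Groups with `|Out| ≤ 2` (helper921)

If the product of two outer automorphisms of `X` is inner, then `|Aut X : Inn X| ≤ 2` and `Aut(X)' ≤ Inn X`.
-/

set_option autoImplicit false

namespace Cfsg.Agent.OddHalf.D8.Fi22.OutIdx

open Subgroup

/-- the product of two outer automorphisms is inner -/
def MulOuter (X : Type*) [Group X] : Prop :=
  ∀ a b : MulAut X, (∀ x : X, a ≠ MulAut.conj x) → (∀ x : X, b ≠ MulAut.conj x) →
    ∃ x : X, a * b = MulAut.conj x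

theorem MulOuter.congr {X Q : Type*} [Group X] [Group Q] (e : X ≃* Q) (h : MulOuter Q) : MulOuter X := by
  have hg : ∀ x : X, MulAut.congr e (MulAut.conj x) = MulAut.conj (e x) := by
    intro x
    ext y
    simp [MulAut.congr]
  have hout : ∀ a : MulAut X, (∀ x : X, a ≠ MulAut.conj x) → ∀ q : Q, MulAut.congr e a ≠ MulAut.conj q := by
    intro a ha q hq
    apply ha (e.symm q)
    apply (MulAut.congr e).injective
    rw [hg, e.apply_symm_apply, hq]
  intro a b ha hb
  obtain ⟨q, hq⟩ := h _ _ (hout a ha) (hout b hb)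
  refine ⟨e.symm q, (MulAut.congr e).injective ?_⟩
  rw [map_mul, hq, hg, e.apply_symm_apply]

variable {X : Type*} [Group X]

theorem MulOuter.index_le (h : MulOuter X) : (MulAut.conj : X →* MulAut X).range.index = 1 ∨
    (MulAut.conj : X →* MulAut X).range.index = 2 := by
  classical
  set I : Subgroup (MulAut X) := (MulAut.conj : X →* MulAut X).range with hI
  have hmem : ∀ a : MulAut X, a ∉ I → ∀ x : X, a ≠ MulAut.conj x := fun a ha x hx => ha ⟨x, hx.symm⟩
  by_cases htop : I = ⊤
  · left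
    rw [htop, index_top]
  · right
    obtain ⟨a, -, ha⟩ := SetLike.exists_of_lt (lt_top_iff_ne_top.2 htop)
    rw [index_eq_two_iff]
    refine ⟨a, fun b => ?_⟩
    by_cases hb : b ∈ I
    · right
      refine ⟨hb, fun hba => ha ?_⟩
      have := I.mul_mem (I.inv_mem hb) hba
      rwa [inv_mul_cancel_left] at this
    · left
      obtain ⟨x, hx⟩ := h b a (hmem b hb) (hmem a ha)
      exact ⟨⟨x, hx.symm⟩, hb⟩

theorem MulOuter.out (h : MulOuter X) : ¬ 4 ∣ (MulAut.conj : X →* MulAut X).range.index := by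
  rcases h.index_le with h1 | h1 <;> rw [h1] <;> decide

theorem MulOuter.schreier (h : MulOuter X) :
    ∃ n, TR.dser n (⊤ : Subgroup (MulAut X)) ≤ (MulAut.conj : X →* MulAut X).range := by
  set I : Subgroup (MulAut X) := (MulAut.conj : X →* MulAut X).range with hI
  refine ⟨1, ?_⟩
  change ⁅(⊤ : Subgroup (MulAut X)), (⊤ : Subgroup (MulAut X))⁆ ≤ I
  rcases h.index_le with h1 | h1
  · rw [show I = ⊤ from index_eq_one.1 h1]
    exact le_top
  · rw [commutator_le]
    intro a _ b _
    have hm : ∀ x y : MulAut X, x * y ∈ I ↔ (x ∈ I ↔ y ∈ I) := fun x y => mul_mem_iff_of_index_two h1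
    change a * b * a⁻¹ * b⁻¹ ∈ I
    rw [hm, hm, hm, inv_mem_iff, inv_mem_iff]
    tauto

end Cfsg.Agent.OddHalf.D8.Fi22.OutIdx
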