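import Cfsg.Agent.OddHalf.D8.Sheet
import Cfsg.Agent.KFacts.FiTT.Defs

/-!
# ODD half, D8, `K = Fi22`: the sheet (helper921)

`Basic (d d') (C_K(d, d'))` from the facts `FiTT.Facts` on `K` and the facts on automorphisms.
-/

set_option autoImplicit false

namespace Cfsg.Agent.OddHalf.D8.Fi22.Sheet22

open Subgroup Cfsg.Agent.KFacts.FiTT Cfsg.Agent.OddHalf.D8.Sheet

variable {K : Type*} [Group K] {d d' : K} {R : Subgroup K}

theorem mem_P {x : K} : x ∈ centralizer ({d, d'} : Set K) ↔ x * d = d * x ∧ x * d' = d' * x := by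
  rw [mem_centralizer_iff]
  constructor
  · intro h
    exact ⟨(h d (by simp)).symm, (h d' (by simp)).symm⟩
  · rintro ⟨h1, h2⟩ y hy
    rcases hy with rfl | hy
    · exact h1.symm
    · rw [Set.mem_singleton_iff.1 hy]
      exact h2.symm

/-- the facts on automorphisms of `K` -/
structure AutFacts (K : Type*) [Group K] (z : K) : Prop where
  out : ¬ 4 ∣ (MulAut.conj : K →* MulAut K).range.index
  schreier : ∃ n, TR.dser n (⊤ : Subgroup (MulAut K)) ≤ (MulAut.conj : K →* MulAut K).range
  sylAut : ∀ S : Sylow 2 K, (∀ x ∈ S, x * z = z * x) → ∀ α : MulAut K, IsPGroup 2 (zpowers α) →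
    (∀ x ∈ S, α x = x) → ∃ k : K, α = MulAut.conj k

theorem z_comm {x : K} (hx : x ∈ centralizer ({d, d'} : Set K)) :
    x * (d * d') = d * d' * x := by
  obtain ⟨h1, h2⟩ := mem_P.1 hx
  calc x * (d * d') = (x * d) * d' := by group
    _ = d * (x * d') := by rw [h1]; group
    _ = d * d' * x := by rw [h2]; group

theorem zz (F : Facts K d d' R) : d * d' * (d * d') = 1 := by
  calc d * d' * (d * d') = d * (d' * d) * d' := by group
    _ = d * (d * d') * d' := by rw [F.comm]
    _ = (d * d) * (d' * d') := by group
    _ = 1 := by rw [F.dd, F.dd', one_mul]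

theorem z_ne (F : Facts K d d' R) : d * d' ≠ 1 := by
  intro h
  apply F.ne
  have h1 := F.dd'
  calc d = d * (d' * d') := by rw [h1, mul_one]
    _ = d * d' * d' := by group
    _ = d' := by rw [h, one_mul]

theorem finite (F : Facts K d d' R) : Finite K :=
  Nat.finite_of_card_ne_zero (by rw [F.card]; norm_num)

/-- **the sheet of `Fi22`** -/
theorem basic (F : Facts K d d' R) (A : AutFacts K (d * d')) :
    Basic (d * d') (centralizer ({d, d'} : Set K)) where
  zz := zz F
  z1 := z_ne F
  syl := by
    have := finite F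
    obtain ⟨S', hS'⟩ : ∃ S : Sylow 2 K, (S : Subgroup K) ≤ centralizer ({d * d'} : Set K) := by
      obtain ⟨U⟩ : Nonempty (Sylow 2 (centralizer ({d * d'} : Set K))) := inferInstance
      have hU : IsPGroup 2 ↥((U : Subgroup (centralizer ({d * d'} : Set K))).map
          (centralizer ({d * d'} : Set K)).subtype) := U.isPGroup'.map _
      obtain ⟨S, hS⟩ := hU.exists_le_sylow
      have : Fact (Nat.Prime 2) := ⟨Nat.prime_two⟩
      have hcard : Nat.card (U : Subgroup (centralizer ({d * d'} : Set K))) = Nat.card (S : Subgroup K) := by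
        rw [U.card_eq_multiplicity, S.card_eq_multiplicity]
        congr 1
        have h1 : (centralizer ({d * d'} : Set K)).index * Nat.card (centralizer ({d * d'} : Set K)) =
            Nat.card K := index_mul_card _
        have h2 : (centralizer ({d * d'} : Set K)).index.factorization 2 = 0 := by
          apply Nat.factorization_eq_zero_of_not_dvd
          exact F.odd.not_two_dvd_nat
        rw [← h1, Nat.factorization_mul index_ne_zero_of_finite (Nat.card_pos).ne', Finsupp.add_apply, h2,
          zero_add]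
      have heq : (U : Subgroup (centralizer ({d * d'} : Set K))).map
          (centralizer ({d * d'} : Set K)).subtype = (S : Subgroup K) := by
        apply eq_of_le_of_card_ge hS
        rw [← hcard, card_map_of_injective (subtype_injective _)]
      refine ⟨S, ?_⟩
      rw [← heq]
      rintro _ ⟨y, -, rfl⟩
      exact y.2
    have hz : ∀ x ∈ S', x * (d * d') = d * d' * x := fun x hx => mem_centralizer_singleton_iff.1 (hS' hx)
    refine ⟨S', ?_, hz, ?_⟩
    · -- `z` is in `S'` by maximality
      have hz2 : IsPGroup 2 ↥(zpowers (d * d')) := by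
        rintro ⟨x, hx⟩
        obtain ⟨i, rfl⟩ := mem_zpowers_iff.1 hx
        refine ⟨1, Subtype.ext ?_⟩
        show ((d * d') ^ i) ^ (2 ^ 1) = 1
        rw [pow_one, pow_two, ← (Commute.refl (d * d')).mul_zpow, zz F, one_zpow]
      have hsup : IsPGroup 2 ↥((S' : Subgroup K) ⊔ zpowers (d * d')) := by
        apply IsPGroup.to_sup_of_normal_right' S'.isPGroup' hz2
        intro x hx
        rw [mem_normalizer_iff]
        intro y
        have e : y ∈ zpowers (d * d') → x * y * x⁻¹ = y := by
          intro hy
          obtain ⟨i, rfl⟩ := mem_zpowers_iff.1 hy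
          have := (show Commute x (d * d') from hz x hx).zpow_right i
          rw [this.eq]; group
        constructor
        · intro hy
          rw [e hy]; exact hy
        · intro hy
          have hxi : x⁻¹ * (x * y * x⁻¹) * x = x * y * x⁻¹ := by
            obtain ⟨i, hi⟩ := mem_zpowers_iff.1 hy
            rw [← hi]
            have := (show Commute x (d * d') from hz x hx).zpow_right i
            rw [mul_assoc, ← this.eq]; group
          have e2 : x⁻¹ * (x * y * x⁻¹) * x = y := by group
          rw [← e2, hxi]; exact hy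
      have := S'.is_maximal' hsup le_sup_left
      have h3 : d * d' ∈ (S' : Subgroup K) ⊔ zpowers (d * d') :=
        (le_sup_right : zpowers (d * d') ≤ _) (mem_zpowers _)
      rw [this] at h3
      exact h3
    · intro y hy h
      exact F.center_S S' hS' y hy fun x hx => (h x hx).symm
  zP := mem_P.2 ⟨by
    calc d * d' * d = d * (d' * d) := by group
      _ = d * (d * d') := by rw [F.comm], by
    calc d * d' * d' = (d * d') * d' := rfl
      _ = (d' * d) * d' := by rw [F.comm]
      _ = d' * (d * d') := by group⟩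
  cen := fun x hx => z_comm hx
  perf := by
    have h := F.perfect
    rw [commutator_def] at h
    have h1 := congrArg (Subgroup.map (centralizer ({d, d'} : Set K)).subtype) h
    rwa [map_commutator, ← MonoidHom.range_eq_map, range_subtype] at h1
  der := by
    refine ⟨1, ?_⟩
    change ⁅centralizer ({d * d'} : Set K), centralizer ({d * d'} : Set K)⁆ ≤ _
    rw [commutator_le]
    intro a ha b hb
    have h1 := F.cz a (mem_centralizer_singleton_iff.1 ha)
    have h2 := F.cz b (mem_centralizer_singleton_iff.1 hb)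
    change a * b * a⁻¹ * b⁻¹ ∈ _
    rw [mem_P]
    have fix : ∀ x y : K, x * y = y * x → x * y * x⁻¹ = y ∧ x⁻¹ * y * x = y := by
      intro x y h
      constructor
      · rw [h]; group
      · rw [mul_assoc, ← h]; group
    have inv : ∀ x y w : K, x * y * x⁻¹ = w → x⁻¹ * w * x = y := by
      intro x y w h
      rw [← h]; group
    have key : ∀ x y : K, x * y * x⁻¹ = y → x * y = y * x := by
      intro x y h
      calc x * y = (x * y * x⁻¹) * x := by group
        _ = y * x := by rw [h]
    have e : ∀ y : K, (a * b * a⁻¹ * b⁻¹) * y * (a * b * a⁻¹ * b⁻¹)⁻¹ =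
        a * (b * (a⁻¹ * (b⁻¹ * y * b) * a) * b⁻¹) * a⁻¹ := by
      intro y
      group
    rcases h1 with ⟨h1, h1'⟩ | ⟨h1, h1'⟩ <;> rcases h2 with ⟨h2, h2'⟩ | ⟨h2, h2'⟩ <;>
      constructor <;> apply key <;> rw [e]
    · rw [(fix _ _ h2).2, (fix _ _ h1).2, (fix _ _ h2).1, (fix _ _ h1).1]
    · rw [(fix _ _ h2').2, (fix _ _ h1').2, (fix _ _ h2').1, (fix _ _ h1').1]
    · rw [inv _ _ _ h2', (fix _ _ h1').2, h2', (fix _ _ h1).1]
    · rw [inv _ _ _ h2, (fix _ _ h1).2, h2, (fix _ _ h1').1]
    · rw [(fix _ _ h2).2, inv _ _ _ h1', (fix _ _ h2').1, h1']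
    · rw [(fix _ _ h2').2, inv _ _ _ h1, (fix _ _ h2).1, h1]
    · rw [inv _ _ _ h2', inv _ _ _ h1, h2, h1']
    · rw [inv _ _ _ h2, inv _ _ _ h1', h2', h1]
  out := A.out
  schreier := A.schreier
  sylAut := A.sylAut

end Cfsg.Agent.OddHalf.D8.Fi22.Sheet22
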