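import Cfsg.Agent.OddHalf.D8.Fi22.GeoOf
import Cfsg.Agent.OddHalf.D8.Fi22.OutIdx
import Cfsg.Agent.OddHalf.D8.Fi22.Sheet22

/-!
# ODD half, D8, `K = Fi22`: all the facts on `K` together (helper368)
-/

set_option autoImplicit false

namespace Cfsg.Agent.OddHalf.D8.Fi22

open Cfsg Cfsg.Agent.R01 Subgroup

universe v

variable {K : Type v} [Group K]

/-- the facts on automorphisms -/
theorem KTrans.autFacts {T : Set K} (h : KTrans K T) (z : K) : Sheet22.AutFacts K z where
  out := OutIdx.MulOuter.out h.out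
  schreier := OutIdx.MulOuter.schreier h.out
  sylAut S _ α _ hα := h.t1s S α hα

/-- everything at a given pair of commuting transpositions -/
structure All (K : Type v) [Group K] (T : Set K) (d d' : K) (R : Subgroup K) : Prop where
  d_mem : d ∈ T
  d'_mem : d' ∈ T
  kt : KTrans K T
  geo : Geo T
  facts : KFacts.FiTT.Facts K d d' R
  aut : Sheet22.AutFacts K (d * d')

/-- the sheet -/
theorem All.basic {T : Set K} {d d' : K} {R : Subgroup K} (h : All K T d d' R) :
    Sheet.Basic (d * d') (centralizer ({d, d'} : Set K)) := Sheet22.basic h.facts h.aut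

theorem all_of_iso (e : K ≃* Spor.Fi22) {d d' : K} (hd : d ∈ e.symm '' Fi22Facts.T)
    (hd' : d' ∈ e.symm '' Fi22Facts.T) (hne : d ≠ d') (hc : d * d' = d' * d) :
    ∃ R : Subgroup K, All K (e.symm '' Fi22Facts.T) d d' R := by
  obtain ⟨R, hR⟩ := KFacts.FiTT.facts_of_iso e hd hd' hne hc
  exact ⟨R, hd, hd', kTrans e, geo e, hR, (kTrans e).autFacts _⟩

/-- **Everything on `K = Fi22`.** -/
theorem exists_all (h : Spor.IsoFi22 K) : ∃ (T : Set K) (d d' : K) (R : Subgroup K), All K T d d' R := by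
  obtain ⟨e⟩ := h
  obtain ⟨a, ha, b, hb, n, c⟩ := (kTrans e).pair
  obtain ⟨R, hR⟩ := all_of_iso e ha hb n c
  exact ⟨_, a, b, R, hR⟩

end Cfsg.Agent.OddHalf.D8.Fi22
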