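import Cfsg.Agent.OddHalf.D8.Fi22.Ord
import Cfsg.Agent.S1704

/-!
# ODD half, D8, `K = Fi₂₂`: the order of the Baby Monster (helper368)
-/

set_option autoImplicit false

namespace Cfsg.Agent.OddHalf.D8.Fi22.Ord

open Cfsg

universe u

theorem b {X : Type u} [Group X] (h : Spor.IsoB X) : ¬ Bad (Nat.card X) := by
  obtain ⟨e⟩ := h
  rw [Nat.card_congr e.toEquiv, S1704.result.2]
  intro hb
  have h1 := hb.2.1
  revert h1
  norm_num

end Cfsg.Agent.OddHalf.D8.Fi22.Ord
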