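import Cfsg.Agent.OddHalf.D8.Fi22.RowOf
import Cfsg.Agent.OddHalf.D8.Fi22.OrdB

/-!
# ODD half, D8: the row `K = Fi₂₂`, final form (helper921)
-/

set_option autoImplicit false

namespace Cfsg.Agent.OddHalf.D8.Fi22.RowEnd

open Subgroup Cfsg Cfsg.Agent.OddHalf.D9.Cut

universe u

theorem ordFacts : PumpAbs.OrdFacts.{u} := OrdFacts.of_b fun _ _ h => Ord.b h

/-- **the row `Fi₂₂`** from the multiplier facts -/
theorem row (M : Mult.{u}) : Rows.Row.{u} (fun K _ => Spor.IsoFi22 K) :=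
  Row.row_of (PumpAbs.pump M ordFacts)

end Cfsg.Agent.OddHalf.D8.Fi22.RowEnd
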