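import Cfsg.Agent.S0243
import Cfsg.Agent.S0245
import Cfsg.Agent.S0280
import Cfsg.Agent.S0292
import Cfsg.Agent.S0293
import Cfsg.Agent.S0294
import Cfsg.Agent.S1059
import Cfsg.Agent.S1062
import Cfsg.Agent.S1063
import Cfsg.Agent.S1064
import Cfsg.Agent.S1065
import Cfsg.Agent.S1066
import Cfsg.Agent.S1067
import Cfsg.Agent.ClassicalGeometry.AutPSpCount

/-!
# ODD half, D8, `K = Fi₂₂`: orders (helper957)

No simple group of Lie type in odd characteristic and no alternating group has an order which is divisible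
by `|U₆(2)|` and at most `|Fi₂₂| / 2`.
-/

set_option autoImplicit false

namespace Cfsg.Agent.OddHalf.D8.Fi22.Ord

open Subgroup Cfsg

/-- `|U₆(2)|` -/
abbrev n0 : ℕ := 9196830720
/-- `|Fi₂₂| / 2` -/
abbrev N0 : ℕ := 32280875827200

/-- the two conditions on the order -/
def Bad (c : ℕ) : Prop := n0 ∣ c ∧ c ≤ N0 ∧ 0 < c

theorem Bad.of_mul {c g G m : ℕ} (h : Bad c) (he : g * c = m) (hg : g ≤ G) : n0 ∣ m ∧ m ≤ G * N0 := by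
  refine ⟨he ▸ h.1.mul_left g, ?_⟩
  rw [← he]
  exact Nat.mul_le_mul hg h.2.1

/-! ### The families, numerically -/

theorem l2 {q c g : ℕ} (hq : Odd q) (h3 : 3 ≤ q) (h : Bad c) (hg : g ≤ 2)
    (he : g * c = q * (q ^ 2 - 1)) : False := by
  obtain ⟨hd, hN⟩ := h.of_mul he hg
  obtain ⟨k, rfl⟩ := hq
  have hk : k < 20100 := by
    by_contra hcon
    push Not at hcon
    have h1 : 40201 * (40201 ^ 2 - 1) ≤ (2 * k + 1) * ((2 * k + 1) ^ 2 - 1) := by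
      have : 40201 ≤ 2 * k + 1 := by omega
      gcongr
    have h2 := h1.trans hN
    norm_num at h2
  have h4 : (2 * k + 1) ^ 2 - 1 = 4 * (k * (k + 1)) := by
    have : (2 * k + 1) ^ 2 = 4 * (k * (k + 1)) + 1 := by ring
    rw [this, Nat.add_sub_cancel]
  rw [h4] at hd
  have h5 : 2 ^ 15 ∣ (2 * k + 1) * (4 * (k * (k + 1))) := (by norm_num : (2 ^ 15 : ℕ) ∣ n0).trans hd
  have h6 : 2 ^ 15 ∣ 4 * (k * (k + 1)) := by
    apply Nat.Coprime.dvd_of_dvd_mul_left _ h5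
    apply Nat.Coprime.pow_left
    rw [Nat.coprime_two_left]
    exact ⟨k, rfl⟩
  have h7 : 2 ^ 13 ∣ k * (k + 1) := by
    have : (2 ^ 15 : ℕ) = 4 * 2 ^ 13 := by norm_num
    rw [this] at h6
    exact Nat.dvd_of_mul_dvd_mul_left (by norm_num) h6
  have h8 : 2 ^ 13 ∣ k ∨ 2 ^ 13 ∣ k + 1 := by
    have hc : Nat.Coprime k (k + 1) := by simp
    rcases Nat.even_or_odd k with hk2 | hk2
    · left
      apply Nat.Coprime.dvd_of_dvd_mul_right _ h7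
      apply Nat.Coprime.pow_left
      rw [Nat.coprime_two_left]
      exact hk2.add_one
    · right
      apply Nat.Coprime.dvd_of_dvd_mul_left _ h7
      apply Nat.Coprime.pow_left
      rw [Nat.coprime_two_left]
      exact hk2
  have h9 : k = 8192 ∨ k = 16384 ∨ k = 8191 ∨ k = 16383 ∨ k = 0 := by
    rcases h8 with ⟨j, hj⟩ | ⟨j, hj⟩ <;> omega
  rcases h9 with rfl | rfl | rfl | rfl | rfl
  · revert hd; norm_num
  · revert hd; norm_num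
  · revert hd; norm_num
  · revert hd; norm_num
  · omega

theorem l3 {q c g : ℕ} (hq : Odd q) (h3 : 3 ≤ q) (h : Bad c) (hg : g ≤ 3)
    (he : g * c = q ^ 3 * (q ^ 3 - 1) * (q ^ 2 - 1)) : False := by
  obtain ⟨hd, hN⟩ := h.of_mul he hg
  have hk : q < 60 := by
    by_contra hcon
    push Not at hcon
    have h1 : 60 ^ 3 * (60 ^ 3 - 1) * (60 ^ 2 - 1) ≤ q ^ 3 * (q ^ 3 - 1) * (q ^ 2 - 1) := by gcongr
    have h2 := h1.trans hN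
    norm_num at h2
  have key : ∀ q < 60, Odd q → 3 ≤ q → ¬ n0 ∣ q ^ 3 * (q ^ 3 - 1) * (q ^ 2 - 1) := by decide +kernel
  exact key q hk hq h3 hd

theorem u3 {q c g : ℕ} (hq : Odd q) (h3 : 3 ≤ q) (h : Bad c) (hg : g ≤ 3)
    (he : g * c = q ^ 3 * (q ^ 3 + 1) * (q ^ 2 - 1)) : False := by
  obtain ⟨hd, hN⟩ := h.of_mul he hg
  have hk : q < 60 := by
    by_contra hcon
    push Not at hcon
    have h1 : 60 ^ 3 * (60 ^ 3 + 1) * (60 ^ 2 - 1) ≤ q ^ 3 * (q ^ 3 + 1) * (q ^ 2 - 1) := by gcongr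
    have h2 := h1.trans hN
    norm_num at h2
  have key : ∀ q < 60, Odd q → 3 ≤ q → ¬ n0 ∣ q ^ 3 * (q ^ 3 + 1) * (q ^ 2 - 1) := by decide +kernel
  exact key q hk hq h3 hd

theorem l4 {q c g : ℕ} (hq : Odd q) (h3 : 3 ≤ q) (h : Bad c) (hg : g ≤ 4)
    (he : g * c = q ^ 6 * (q ^ 3 - 1) * (q ^ 2 - 1) * (q ^ 4 - 1)) : False := by
  obtain ⟨hd, hN⟩ := h.of_mul he hg
  have hk : q < 15 := by
    by_contra hcon
    push Not at hcon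
    have h1 : 15 ^ 6 * (15 ^ 3 - 1) * (15 ^ 2 - 1) * (15 ^ 4 - 1) ≤
      q ^ 6 * (q ^ 3 - 1) * (q ^ 2 - 1) * (q ^ 4 - 1) := by gcongr
    have h2 := h1.trans hN
    norm_num at h2
  have key : ∀ q < 15, Odd q → 3 ≤ q → ¬ n0 ∣ q ^ 6 * (q ^ 3 - 1) * (q ^ 2 - 1) * (q ^ 4 - 1) := by
    decide +kernel
  exact key q hk hq h3 hd

theorem u4 {q c g : ℕ} (hq : Odd q) (h3 : 3 ≤ q) (h : Bad c) (hg : g ≤ 4)
    (he : g * c = q ^ 6 * (q ^ 3 + 1) * (q ^ 2 - 1) * (q ^ 4 - 1)) : False := by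
  obtain ⟨hd, hN⟩ := h.of_mul he hg
  have hk : q < 15 := by
    by_contra hcon
    push Not at hcon
    have h1 : 15 ^ 6 * (15 ^ 3 + 1) * (15 ^ 2 - 1) * (15 ^ 4 - 1) ≤
      q ^ 6 * (q ^ 3 + 1) * (q ^ 2 - 1) * (q ^ 4 - 1) := by gcongr
    have h2 := h1.trans hN
    norm_num at h2
  have key : ∀ q < 15, Odd q → 3 ≤ q → ¬ n0 ∣ q ^ 6 * (q ^ 3 + 1) * (q ^ 2 - 1) * (q ^ 4 - 1) := by
    decide +kernel
  exact key q hk hq h3 hd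

theorem l5 {q c g : ℕ} (hq : Odd q) (h3 : 3 ≤ q) (h : Bad c) (hg : g ≤ 5)
    (he : g * c = q ^ 10 * (q ^ 3 - 1) * (q ^ 2 - 1) * (q ^ 4 - 1) * (q ^ 5 - 1)) : False := by
  obtain ⟨hd, hN⟩ := h.of_mul he hg
  have hk : q < 5 := by
    by_contra hcon
    push Not at hcon
    have h1 : 5 ^ 10 * (5 ^ 3 - 1) * (5 ^ 2 - 1) * (5 ^ 4 - 1) * (5 ^ 5 - 1) ≤
      q ^ 10 * (q ^ 3 - 1) * (q ^ 2 - 1) * (q ^ 4 - 1) * (q ^ 5 - 1) := by gcongr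
    have h2 := h1.trans hN
    norm_num at h2
  have key : ∀ q < 5, Odd q → 3 ≤ q →
      ¬ n0 ∣ q ^ 10 * (q ^ 3 - 1) * (q ^ 2 - 1) * (q ^ 4 - 1) * (q ^ 5 - 1) := by
    decide +kernel
  exact key q hk hq h3 hd

theorem u5 {q c g : ℕ} (hq : Odd q) (h3 : 3 ≤ q) (h : Bad c) (hg : g ≤ 5)
    (he : g * c = q ^ 10 * (q ^ 3 + 1) * (q ^ 2 - 1) * (q ^ 4 - 1) * (q ^ 5 + 1)) : False := by
  obtain ⟨hd, hN⟩ := h.of_mul he hg
  have hk : q < 5 := by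
    by_contra hcon
    push Not at hcon
    have h1 : 5 ^ 10 * (5 ^ 3 + 1) * (5 ^ 2 - 1) * (5 ^ 4 - 1) * (5 ^ 5 + 1) ≤
      q ^ 10 * (q ^ 3 + 1) * (q ^ 2 - 1) * (q ^ 4 - 1) * (q ^ 5 + 1) := by gcongr
    have h2 := h1.trans hN
    norm_num at h2
  have key : ∀ q < 5, Odd q → 3 ≤ q →
      ¬ n0 ∣ q ^ 10 * (q ^ 3 + 1) * (q ^ 2 - 1) * (q ^ 4 - 1) * (q ^ 5 + 1) := by
    decide +kernel
  exact key q hk hq h3 hd

theorem s4 {q c g : ℕ} (hq : Odd q) (h3 : 3 ≤ q) (h : Bad c) (hg : g ≤ 2)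
    (he : g * c = q ^ 4 * (q ^ 2 - 1) * (q ^ 4 - 1)) : False := by
  obtain ⟨hd, hN⟩ := h.of_mul he hg
  have hk : q < 50 := by
    by_contra hcon
    push Not at hcon
    have h1 : 50 ^ 4 * (50 ^ 2 - 1) * (50 ^ 4 - 1) ≤ q ^ 4 * (q ^ 2 - 1) * (q ^ 4 - 1) := by gcongr
    have h2 := h1.trans hN
    norm_num at h2
  have key : ∀ q < 50, Odd q → 3 ≤ q → ¬ n0 ∣ q ^ 4 * (q ^ 2 - 1) * (q ^ 4 - 1) := by
    decide +kernel
  exact key q hk hq h3 hd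

theorem s6 {q c g : ℕ} (hq : Odd q) (h3 : 3 ≤ q) (h : Bad c) (hg : g ≤ 2)
    (he : g * c = q ^ 9 * (q ^ 2 - 1) * (q ^ 4 - 1) * (q ^ 6 - 1)) : False := by
  obtain ⟨hd, hN⟩ := h.of_mul he hg
  have hk : q < 7 := by
    by_contra hcon
    push Not at hcon
    have h1 : 7 ^ 9 * (7 ^ 2 - 1) * (7 ^ 4 - 1) * (7 ^ 6 - 1) ≤
      q ^ 9 * (q ^ 2 - 1) * (q ^ 4 - 1) * (q ^ 6 - 1) := by gcongr
    have h2 := h1.trans hN
    norm_num at h2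
  have key : ∀ q < 7, Odd q → 3 ≤ q → ¬ n0 ∣ q ^ 9 * (q ^ 2 - 1) * (q ^ 4 - 1) * (q ^ 6 - 1) := by
    decide +kernel
  exact key q hk hq h3 hd

theorem o8p {q c g : ℕ} (hq : Odd q) (h3 : 3 ≤ q) (h : Bad c) (hg : g ≤ 4)
    (he : g * c = q ^ 12 * (q ^ 4 - 1) * ((q ^ 2 - 1) * (q ^ 4 - 1) * (q ^ 6 - 1))) : False := by
  obtain ⟨hd, hN⟩ := h.of_mul he hg
  have hk : q < 5 := by
    by_contra hcon
    push Not at hcon
    have h1 : 5 ^ 12 * (5 ^ 4 - 1) * ((5 ^ 2 - 1) * (5 ^ 4 - 1) * (5 ^ 6 - 1)) ≤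
      q ^ 12 * (q ^ 4 - 1) * ((q ^ 2 - 1) * (q ^ 4 - 1) * (q ^ 6 - 1)) := by gcongr
    have h2 := h1.trans hN
    norm_num at h2
  have key : ∀ q < 5, Odd q → 3 ≤ q →
      ¬ n0 ∣ q ^ 12 * (q ^ 4 - 1) * ((q ^ 2 - 1) * (q ^ 4 - 1) * (q ^ 6 - 1)) := by
    decide +kernel
  exact key q hk hq h3 hd

theorem o8m {q c g : ℕ} (hq : Odd q) (h3 : 3 ≤ q) (h : Bad c) (hg : g ≤ 4)
    (he : g * c = q ^ 12 * (q ^ 4 + 1) * ((q ^ 2 - 1) * (q ^ 4 - 1) * (q ^ 6 - 1))) : False := by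
  obtain ⟨hd, hN⟩ := h.of_mul he hg
  have hk : q < 5 := by
    by_contra hcon
    push Not at hcon
    have h1 : 5 ^ 12 * (5 ^ 4 + 1) * ((5 ^ 2 - 1) * (5 ^ 4 - 1) * (5 ^ 6 - 1)) ≤
      q ^ 12 * (q ^ 4 + 1) * ((q ^ 2 - 1) * (q ^ 4 - 1) * (q ^ 6 - 1)) := by gcongr
    have h2 := h1.trans hN
    norm_num at h2
  have key : ∀ q < 5, Odd q → 3 ≤ q →
      ¬ n0 ∣ q ^ 12 * (q ^ 4 + 1) * ((q ^ 2 - 1) * (q ^ 4 - 1) * (q ^ 6 - 1)) := by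
    decide +kernel
  exact key q hk hq h3 hd

theorem g2 {q c : ℕ} (hq : Odd q) (h3 : 3 ≤ q) (h : Bad c)
    (he : c = q ^ 6 * (q ^ 2 - 1) * (q ^ 6 - 1)) : False := by
  obtain ⟨hd, hN⟩ := h.of_mul (g := 1) (G := 1) ((one_mul c).trans he) le_rfl
  have hk : q < 15 := by
    by_contra hcon
    push Not at hcon
    have h1 : 15 ^ 6 * (15 ^ 2 - 1) * (15 ^ 6 - 1) ≤ q ^ 6 * (q ^ 2 - 1) * (q ^ 6 - 1) := by gcongr
    have h2 := h1.trans hN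
    norm_num at h2
  have key : ∀ q < 15, Odd q → 3 ≤ q → ¬ n0 ∣ q ^ 6 * (q ^ 2 - 1) * (q ^ 6 - 1) := by
    decide +kernel
  exact key q hk hq h3 hd

theorem d4t {q c : ℕ} (hq : Odd q) (h3 : 3 ≤ q) (h : Bad c)
    (he : c = q ^ 12 * (q ^ 2 - 1) * (q ^ 6 - 1) * (q ^ 8 + q ^ 4 + 1)) : False := by
  obtain ⟨hd, hN⟩ := h.of_mul (g := 1) (G := 1) ((one_mul c).trans he) le_rfl
  have hk : q < 5 := by
    by_contra hcon
    push Not at hcon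
    have h1 : 5 ^ 12 * (5 ^ 2 - 1) * (5 ^ 6 - 1) * (5 ^ 8 + 5 ^ 4 + 1) ≤
      q ^ 12 * (q ^ 2 - 1) * (q ^ 6 - 1) * (q ^ 8 + q ^ 4 + 1) := by gcongr
    have h2 := h1.trans hN
    norm_num at h2
  have key : ∀ q < 5, Odd q → 3 ≤ q →
      ¬ n0 ∣ q ^ 12 * (q ^ 2 - 1) * (q ^ 6 - 1) * (q ^ 8 + q ^ 4 + 1) := by
    decide +kernel
  exact key q hk hq h3 hd

end Cfsg.Agent.OddHalf.D8.Fi22.Ord
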