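import Cfsg.Agent.OddHalf.D9.Cut
import Cfsg.Agent.OddHalf.D8.Fi22.Ord
import Cfsg.Agent.S1163

/-!
# ODD half, D8, `K = Fi₂₂`: orders of the exceptional quotients in even characteristic (helper921)

None of the exceptional quotients `Sp₆(2)`, `Ω₈⁺(2)`, `G₂(4)`, `F₄(2)`, `²E₆(2)`, `L₃(4)`, `Sz(q)` of `D9.Cut`
has an order which is divisible by `|U₆(2)|` and at most `|Fi₂₂| / 2`; `|U₆(2)| = 9196830720`.
-/

set_option autoImplicit false

namespace Cfsg.Agent.OddHalf.D8.Fi22.OrdEven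

open Subgroup Cfsg Cfsg.Agent.OddHalf.D9.Cut Cfsg.Agent.OddHalf.D8.Fi22.Ord

universe u

variable {X : Type u} [Group X]

theorem not_bad_of_lt {c : ℕ} (hc : c < n0) : ¬ Bad c := by
  rintro ⟨h1, -, h3⟩
  exact absurd (Nat.le_of_dvd h3 h1) (by omega)

theorem not_bad_of_gt {c : ℕ} (hc : N0 < c) : ¬ Bad c := by
  rintro ⟨-, h2, -⟩
  omega

theorem card_l34 (h : XL34 X) : Nat.card X = 20160 := by
  obtain ⟨F, _, _, hF, ⟨e⟩⟩ := h
  rw [Nat.card_congr e.toEquiv]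
  have h := Cfsg.Agent.S0243.result hF 3 (by norm_num)
  simp [Fin.prod_univ_three] at h
  omega

theorem card_u62 (h : XU62 X) : Nat.card X = 9196830720 := by
  obtain ⟨F, _, _, hF, ⟨e⟩⟩ := h
  rw [Nat.card_congr e.toEquiv]
  have h := Cfsg.Agent.S0280.result (q := 2) hF 6 (by norm_num)
  have e1 : (∏ i ∈ Finset.range 6, (if Even i then 2 ^ (i + 1) + 1 else 2 ^ (i + 1) - 1) : ℕ) =
      2525985 := by decide
  rw [e1] at h
  norm_num at h
  omega

theorem card_sp62 (h : XSp62 X) : Nat.card X = 1451520 := by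
  obtain ⟨F, _, _, hF, ⟨e⟩⟩ := h
  rw [Nat.card_congr e.toEquiv]
  have h := Cfsg.Agent.ClassicalGeometry.AutPSpCount.card_sp (F := F) (m := 3) (by norm_num)
  rw [Cfsg.Agent.S0245.result hF 3, hF] at h
  have e1 : (∏ i ∈ Finset.range 3, (2 ^ (2 * (i + 1)) - 1) : ℕ) = 2835 := by decide
  rw [e1] at h
  norm_num at h
  omega

theorem card_o82 (h : XO82 X) : Nat.card X = 174182400 := by
  obtain ⟨F, _, _, hF, ⟨e⟩⟩ := h
  rw [Nat.card_congr e.toEquiv]
  have h := Cfsg.Agent.S0293.result hF 4 (by norm_num)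
  have e1 : (∏ i ∈ Finset.range (4 - 1), (2 ^ (2 * (i + 1)) - 1) : ℕ) = 2835 := by decide
  rw [e1] at h
  norm_num at h
  omega

theorem card_g24 (h : XG24 X) : Nat.card X = 251596800 := by
  obtain ⟨F, _, _, hF, ⟨e⟩⟩ := h
  rw [Nat.card_congr e.toEquiv, Cfsg.Agent.S1059.result hF]
  norm_num

theorem card_f42 (h : XF42 X) : Nat.card X = 3311126603366400 := by
  obtain ⟨F, _, _, hF, ⟨e⟩⟩ := h
  rw [Nat.card_congr e.toEquiv, Cfsg.Agent.S1062.result hF]
  norm_num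

theorem card_2e62 (h : X2E62 X) : N0 < Nat.card X := by
  obtain ⟨F, _, _, hF, ⟨e⟩⟩ := h
  rw [Nat.card_congr e.toEquiv]
  have h := Cfsg.Agent.S1066.result (K := F) (q := 2) ⟨2, 1, Nat.prime_two.prime, one_pos, by norm_num⟩
    (by rw [hF]; norm_num)
  norm_num at h
  show 32280875827200 < _
  omega

theorem sz {X : Type u} [Group X] (h : XSz X) : ¬ 3 ∣ Nat.card X := by
  obtain ⟨F, _, _, m, hm, hF, ⟨e⟩⟩ := h
  rw [Nat.card_congr e.toEquiv, (Cfsg.Agent.S1163.result hm hF).1]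
  have h1 : 2 ^ (2 * m + 1) % 3 = 2 := by
    have : 2 ^ (2 * m + 1) = 4 ^ m * 2 := by rw [pow_succ, pow_mul]; norm_num
    rw [this, Nat.mul_mod, Nat.pow_mod]
    norm_num
  obtain ⟨k, hk⟩ : ∃ k, 2 ^ (2 * m + 1) = 3 * k + 2 := ⟨2 ^ (2 * m + 1) / 3, by omega⟩
  rw [hk]
  intro h3
  rcases (Nat.Prime.dvd_mul Nat.prime_three).mp h3 with h4 | h4
  · rcases (Nat.Prime.dvd_mul Nat.prime_three).mp h4 with h5 | h5
    · have := Nat.prime_three.dvd_of_dvd_pow h5
      omega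
    · omega
  · have h6 : (3 * k + 2) ^ 2 + 1 = 3 * (3 * k ^ 2 + 4 * k + 1) + 2 := by ring
    omega

theorem not_l34 (h : XL34 X) (hb : Bad (Nat.card X)) : False :=
  not_bad_of_lt (by rw [card_l34 h]; norm_num) hb

theorem not_sp62 (h : XSp62 X) (hb : Bad (Nat.card X)) : False :=
  not_bad_of_lt (by rw [card_sp62 h]; norm_num) hb

theorem not_o82 (h : XO82 X) (hb : Bad (Nat.card X)) : False :=
  not_bad_of_lt (by rw [card_o82 h]; norm_num) hb

theorem not_g24 (h : XG24 X) (hb : Bad (Nat.card X)) : False :=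
  not_bad_of_lt (by rw [card_g24 h]; norm_num) hb

theorem not_f42 (h : XF42 X) (hb : Bad (Nat.card X)) : False :=
  not_bad_of_gt (by rw [card_f42 h]; norm_num) hb

theorem not_2e62 (h : X2E62 X) (hb : Bad (Nat.card X)) : False :=
  not_bad_of_gt (card_2e62 h) hb

theorem not_sz (h : XSz X) (hb : Bad (Nat.card X)) : False :=
  sz h ((by norm_num : (3 : ℕ) ∣ n0).trans hb.1)

end Cfsg.Agent.OddHalf.D8.Fi22.OrdEven
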