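import Cfsg.Agent.OddHalf.D9.Cut
import Cfsg.Agent.SignalizersComponents.QsBasic
import Cfsg.Agent.SignalizersComponents.QuasisimpleQuotient

/-!
# A quotient with cyclic centre (helper956)

`D` finite quasisimple, `a ∈ Z(D)` an involution: there is `B ≤ Z(D)` with `a ∉ B` such that `D ⧸ B` is quasisimple with
centre a nontrivial cyclic 2-group, and `(D ⧸ B) / Z(D ⧸ B) ≃* D / Z(D)`.
-/

set_option autoImplicit false

namespace Cfsg.Agent.OddHalf.D8.Fi22.CycQuot

open Subgroup Cfsg Cfsg.Agent.SignalizersComponents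

universe u

/-- an abelian 2-group with at most one involution is cyclic -/
theorem isCyclic_of_one {A : Type*} [Group A] [Finite A] (hc : ∀ x y : A, x * y = y * x) (h2 : IsPGroup 2 A)
    {a : A} (ha : ∀ x : A, x * x = 1 → x = 1 ∨ x = a) : IsCyclic A := by
  classical
  have : Fintype A := Fintype.ofFinite A
  have key : ∀ k : ℕ, (Finset.univ.filter fun x : A => x ^ 2 ^ k = 1).card ≤ 2 ^ k := by
    intro k
    induction k with
    | zero =>
      have : (Finset.univ.filter fun x : A => x ^ 2 ^ 0 = 1) = {1} := by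
        ext x; simp
      rw [this]; simp
    | succ k ih =>
      have h3 : ∀ y ∈ (Finset.univ.filter fun x : A => x ^ 2 ^ (k + 1) = 1).image (fun x => x * x),
          ((Finset.univ.filter fun x : A => x ^ 2 ^ (k + 1) = 1).filter fun x => x * x = y).card ≤ 2 := by
        intro y hy
        obtain ⟨x0, -, rfl⟩ := Finset.mem_image.1 hy
        refine (Finset.card_le_card (t := {x0, x0 * a}) ?_).trans Finset.card_le_two
        intro x hx
        have h4 := (Finset.mem_filter.1 hx).2
        have h5 : (x0⁻¹ * x) * (x0⁻¹ * x) = 1 := by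
          calc (x0⁻¹ * x) * (x0⁻¹ * x) = x0⁻¹ * (x * x0⁻¹) * x := by group
            _ = x0⁻¹ * (x0⁻¹ * x) * x := by rw [hc x]
            _ = (x0 * x0)⁻¹ * (x * x) := by group
            _ = 1 := by rw [h4]; group
        rw [Finset.mem_insert, Finset.mem_singleton]
        rcases ha _ h5 with h6 | h6
        · left; rw [inv_mul_eq_one] at h6; exact h6.symm
        · right; rw [inv_mul_eq_iff_eq_mul] at h6; exact h6
      have h6 := Finset.card_le_mul_card_image _ 2 h3
      have h7 : ((Finset.univ.filter fun x : A => x ^ 2 ^ (k + 1) = 1).image (fun x => x * x)).card ≤ 2 ^ k := by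
        refine (Finset.card_le_card ?_).trans ih
        intro y hy
        obtain ⟨x, hx, rfl⟩ := Finset.mem_image.1 hy
        rw [Finset.mem_filter] at hx ⊢
        refine ⟨Finset.mem_univ _, ?_⟩
        have h8 := hx.2
        rw [pow_succ', pow_mul, pow_two] at h8
        exact h8
      calc _ ≤ 2 * _ := h6
        _ ≤ 2 * 2 ^ k := Nat.mul_le_mul_left 2 h7
        _ = 2 ^ (k + 1) := by rw [pow_succ']
  apply isCyclic_of_card_pow_eq_one_le
  intro n hn
  obtain ⟨k, m, hm, rfl⟩ := Nat.exists_eq_two_pow_mul_odd hn.ne'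
  have h1 : (Finset.univ.filter fun x : A => x ^ (2 ^ k * m) = 1) ⊆
      Finset.univ.filter fun x : A => x ^ 2 ^ k = 1 := by
    intro x hx
    rw [Finset.mem_filter] at hx ⊢
    refine ⟨Finset.mem_univ _, ?_⟩
    obtain ⟨j, hj⟩ := h2 (x ^ 2 ^ k)
    have h3 : (x ^ 2 ^ k) ^ m = 1 := by rw [← pow_mul]; exact hx.2
    have h4 : Nat.Coprime (2 ^ j) m := Nat.Coprime.pow_left _ (Nat.coprime_two_left.2 hm)
    have h5 := pow_gcd_eq_one.2 ⟨hj, h3⟩
    rwa [h4, pow_one] at h5
  calc _ ≤ _ := Finset.card_le_card h1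
    _ ≤ 2 ^ k := key k
    _ ≤ 2 ^ k * m := Nat.le_mul_of_pos_right _ hm.pos

/-- the centre of a quotient of a quasisimple group by a central subgroup -/
theorem center_quo {D : Type*} [Group D] (hD : IsQuasisimple D) (B : Subgroup D) [B.Normal]
    (hQ : IsQuasisimple (D ⧸ B)) : center (D ⧸ B) = (center D).map (QuotientGroup.mk' B) := by
  apply le_antisymm
  · have h1 : (center (D ⧸ B)).comap (QuotientGroup.mk' B) ≤ center D := by
      have : ((center (D ⧸ B)).comap (QuotientGroup.mk' B)).Normal := Normal.comap inferInstance _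
      apply QsBasic.normal_le_center_of_ne_top hD
      intro h
      have h2 : center (D ⧸ B) = ⊤ := by
        rw [eq_top_iff]
        intro x _
        obtain ⟨x, rfl⟩ := QuotientGroup.mk'_surjective B x
        exact mem_comap.1 (h ▸ mem_top x)
      have h3 := hQ.2.toNontrivial
      rw [h2] at h3
      exact not_subsingleton _ (QuotientGroup.subsingleton_quotient_top (G := D ⧸ B))
    intro x hx
    obtain ⟨x, rfl⟩ := QuotientGroup.mk'_surjective B x
    exact mem_map_of_mem _ (h1 hx)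
  · rintro _ ⟨x, hx, rfl⟩
    rw [mem_center_iff]
    intro y
    obtain ⟨y, rfl⟩ := QuotientGroup.mk'_surjective B y
    rw [← map_mul, ← map_mul, mem_center_iff.1 hx y]

/-- **a quotient with cyclic centre** -/
theorem exists_quo {D : Type u} [Group D] [Finite D] (hD : IsQuasisimple D) {a : D} (ha : a ∈ center D)
    (ha2 : orderOf a = 2) : ∃ (B : Subgroup D) (_ : B.Normal), B ≤ center D ∧ a ∉ B ∧ D9.Cut.QsCyc (D ⧸ B) ∧
      center (D ⧸ B) ≠ ⊥ ∧ Nonempty ((D ⧸ B) ⧸ center (D ⧸ B) ≃* D ⧸ center D) := by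
  classical
  have haa : a * a = 1 := by rw [← pow_two, ← ha2]; exact pow_orderOf_eq_one a
  have ha1 : a ≠ 1 := by
    rintro rfl
    rw [orderOf_one] at ha2
    omega
  -- `B` maximal
  obtain ⟨B, hB⟩ := (Set.toFinite {B : Subgroup D | B ≤ center D ∧ a ∉ B}).exists_maximal
    ⟨⊥, bot_le, fun h => ha1 (mem_bot.1 h)⟩
  have hBc : B ≤ center D := hB.prop.1
  have haB : a ∉ B := hB.prop.2
  have hmax : ∀ C : Subgroup D, C ≤ center D → B ≤ C → a ∉ C → C ≤ B := fun C h1 h2 h3 =>
    hB.le_of_ge ⟨h1, h3⟩ h2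
  have hN : B.Normal := ⟨fun n hn g => by
    have := mem_center_iff.1 (hBc hn) g
    rw [this, mul_inv_cancel_right]
    exact hn⟩
  have hQnt : Nontrivial (D ⧸ B) := by
    refine ⟨(a : D ⧸ B), 1, fun h => haB ?_⟩
    exact (QuotientGroup.eq_one_iff a).1 h
  have hQ : IsQuasisimple (D ⧸ B) := QuasisimpleQuotient.isQuasisimple_of_surjective (QuotientGroup.mk' B)
    (QuotientGroup.mk'_surjective B) hD
  have hcen := center_quo hD B hQ
  -- every subgroup of the centre that does not contain `a` is trivial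
  have hsub : ∀ x ∈ center (D ⧸ B), x ≠ 1 → (a : D ⧸ B) ∈ zpowers x := by
    intro x hx hx1
    by_contra hcon
    have h1 := hmax ((zpowers x).comap (QuotientGroup.mk' B)) (by
      intro y hy
      have h2 : QuotientGroup.mk' B y ∈ center (D ⧸ B) := (zpowers_le.2 hx) (mem_comap.1 hy)
      rw [hcen] at h2
      obtain ⟨z, hz, hzy⟩ := h2
      have h3 : z⁻¹ * y ∈ B := QuotientGroup.eq.1 hzy
      have h4 : y = z * (z⁻¹ * y) := by group
      rw [h4]
      exact mul_mem hz (hBc h3)) (by
      intro b hb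
      rw [mem_comap]
      have : QuotientGroup.mk' B b = 1 := (QuotientGroup.eq_one_iff b).2 hb
      rw [this]
      exact one_mem _) (fun h => hcon (mem_comap.1 h))
    obtain ⟨y, rfl⟩ := QuotientGroup.mk'_surjective B x
    apply hx1
    exact (QuotientGroup.eq_one_iff y).2 (h1 (mem_comap.2 (mem_zpowers _)))
  have ha' : (a : D ⧸ B) ∈ center (D ⧸ B) := by
    rw [hcen]
    exact mem_map_of_mem (QuotientGroup.mk' B) ha
  have ha1' : (a : D ⧸ B) ≠ 1 := fun h => haB ((QuotientGroup.eq_one_iff a).1 h)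
  have haa' : (a : D ⧸ B) * a = 1 := by
    rw [← QuotientGroup.mk_mul, haa, QuotientGroup.mk_one]
  have hao : orderOf (a : D ⧸ B) = 2 := orderOf_eq_prime (by rw [pow_two]; exact haa') ha1'
  -- the centre is a 2-group
  have h2g : IsPGroup 2 (center (D ⧸ B)) := by
    have : Fact (Nat.Prime 2) := ⟨Nat.prime_two⟩
    rw [IsPGroup.iff_card]
    have hpos : Nat.card (center (D ⧸ B)) ≠ 0 := Nat.card_pos.ne'
    refine ⟨_, Nat.eq_prime_pow_of_unique_prime_dvd hpos ?_⟩
    intro p hp hdvd
    have : Fact p.Prime := ⟨hp⟩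
    obtain ⟨x, hx⟩ := exists_prime_orderOf_dvd_card' (G := center (D ⧸ B)) p hdvd
    have hx1 : (x : D ⧸ B) ≠ 1 := by
      intro h
      have : x = 1 := Subtype.ext h
      rw [this, orderOf_one] at hx
      exact hp.one_lt.ne hx
    have h3 := hsub x x.2 hx1
    have h4 : orderOf (a : D ⧸ B) ∣ orderOf (x : D ⧸ B) := orderOf_dvd_of_mem_zpowers h3
    rw [hao, orderOf_coe, hx] at h4
    exact ((Nat.prime_dvd_prime_iff_eq Nat.prime_two hp).1 h4).symm
  have hcyc : IsCyclic (center (D ⧸ B)) := by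
    apply isCyclic_of_one (a := (⟨(a : D ⧸ B), ha'⟩ : center (D ⧸ B))) _ h2g
    · intro x hx
      by_cases hx1 : x = 1
      · exact Or.inl hx1
      right
      have hx1' : (x : D ⧸ B) ≠ 1 := fun h => hx1 (Subtype.ext h)
      have h3 := hsub x x.2 hx1'
      obtain ⟨k, hk⟩ := mem_zpowers_iff.1 h3
      have hxx : (x : D ⧸ B) * x = 1 := congrArg Subtype.val hx
      apply Subtype.ext
      show (x : D ⧸ B) = a
      rcases Int.even_or_odd k with ⟨j, rfl⟩ | ⟨j, rfl⟩
      · exfalso
        apply ha1'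
        have h5 : (x : D ⧸ B) ^ (j + j) = ((x : D ⧸ B) * x) ^ j := by
          rw [zpow_add, (Commute.refl (x : D ⧸ B)).mul_zpow]
        rw [← hk, h5, hxx, one_zpow]
      · rw [← hk, zpow_add, zpow_mul, zpow_one, zpow_ofNat, pow_two, hxx, one_zpow, one_mul]
    · intro x y
      exact Subtype.ext (mem_center_iff.1 y.2 x)
  refine ⟨B, hN, hBc, haB, ⟨inferInstance, hQ, h2g, hcyc⟩, ?_, ?_⟩
  · intro h
    rw [h, mem_bot] at ha'
    exact ha1' ha'
  · exact ⟨(QuotientGroup.quotientMulEquivOfEq hcen).trans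
      (QuotientGroup.quotientQuotientEquivQuotient B (center D) hBc)⟩

end Cfsg.Agent.OddHalf.D8.Fi22.CycQuot
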