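import Cfsg.Agent.StdFi22.TLev
import Cfsg.Agent.R01.Count

/-!
# ODD half, D8, `K = Fi22`: the transpositions not commuting with a given one (helper368)

`Lab.third`: `a`, `b` labelled elements which do not commute; a labelled element commuting with everything
which commutes with `a` and `b` is `a`, `b` or `a b a` (hyperbolic lines of the unitary space).
`Bas.third_mem`: the same in the link of a transposition of `Fi22`. Consequences (k3), (k7), (k8), (k9) of
helper956's list: common neighbours, rigidity and connectedness of the set of transpositions not commuting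
with `b`, in `C(a)` and in the whole group.
-/

set_option autoImplicit false
set_option linter.unusedSectionVars false

namespace Cfsg.Agent.OddHalf.D8.Fi22.Opp

open Cfsg Cfsg.Agent.R01 Cfsg.Agent.R01.FiFusion Cfsg.Agent.R01.FiFacts
open Cfsg.Agent.R01.Label Cfsg.Agent.R01.InvForm Cfsg.Agent.R01.Start Cfsg.Agent.R01.Lifts
open Cfsg.Agent.LieClassical.HermBasic Cfsg.Agent.SporadicStructure.UnitTwo
open Cfsg.Agent.StdFi22.TLev

section lab

variable {C : Type*} [Group C] {F : Type*} [Field F] [Fintype F]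
variable {hF : Fintype.card F = 2 ^ 2} {π : C →* PSU 6 F 2} {z ε : C} {lift : (Fin 6 → F) → C}

theorem conj_comm_iff {G : Type*} [Group G] (g a b : G) :
    Commute (g * a * g⁻¹) (g * b * g⁻¹) ↔ Commute a b := by
  constructor
  · intro h
    have h1 := h.map (MulAut.conj g⁻¹).toMonoidHom
    have e : ∀ x : G, (MulAut.conj g⁻¹).toMonoidHom (g * x * g⁻¹) = x := by
      intro x
      show g⁻¹ * (g * x * g⁻¹) * g⁻¹⁻¹ = x
      group
    rwa [e, e] at h1
  · intro h
    exact h.map (MulAut.conj g).toMonoidHom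

/-- the first vector of the standard hyperbolic pair -/
def x0 (F : Type*) [Field F] : Fin 6 → F := ![0, 0, 0, 0, 1, 1]

/-- the second vector of the standard hyperbolic pair -/
def y0 {F : Type*} [Field F] (k : F) : Fin 6 → F := ![0, 0, 0, 0, 1, k]

/-- vectors orthogonal to both -/
def p0 {F : Type*} [Field F] (k : F) : Fin 6 → F := ![1, k, 0, 0, 0, 0]

/-- vectors orthogonal to both -/
def p1 {F : Type*} [Field F] (k : F) : Fin 6 → F := ![0, 0, 1, k, 0, 0]

theorem herm_y0 (k l : F) : hermForm 6 F 2 (y0 k) (y0 l) = 1 + k * l ^ 2 := by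
  rw [herm_def, Fin.sum_univ_six]
  simp [y0]

theorem herm_p0_left (k : F) (w : Fin 6 → F) : hermForm 6 F 2 (p0 k) w = w 0 ^ 2 + k * w 1 ^ 2 := by
  rw [herm_def, Fin.sum_univ_six]
  simp [p0]

theorem herm_p1_left (k : F) (w : Fin 6 → F) : hermForm 6 F 2 (p1 k) w = w 2 ^ 2 + k * w 3 ^ 2 := by
  rw [herm_def, Fin.sum_univ_six]
  simp [p1]

theorem y0_ne (k : F) : y0 k ≠ 0 := fun h => by
  have := congrFun h 4
  simp [y0] at this

theorem p0_ne (k : F) : p0 k ≠ 0 := fun h => by
  have := congrFun h 0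
  simp [p0] at this

theorem p1_ne (k : F) : p1 k ≠ 0 := fun h => by
  have := congrFun h 2
  simp [p1] at this

theorem y0_iso {k : F} (h2 : (2 : F) = 0) (hk : k ^ 3 = 1) : hermForm 6 F 2 (y0 k) (y0 k) = 0 := by
  rw [herm_y0]
  linear_combination hk + h2

theorem p0_iso {k : F} (h2 : (2 : F) = 0) (hk : k ^ 3 = 1) : hermForm 6 F 2 (p0 k) (p0 k) = 0 := by
  rw [herm_p0_left]
  simp only [p0, Matrix.cons_val_zero, Matrix.cons_val_one]
  linear_combination hk + h2

theorem p1_iso {k : F} (h2 : (2 : F) = 0) (hk : k ^ 3 = 1) : hermForm 6 F 2 (p1 k) (p1 k) = 0 := by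
  rw [herm_p1_left]
  simp only [p1, Matrix.cons_val]
  linear_combination hk + h2

theorem herm_p0_y0 (k l : F) : hermForm 6 F 2 (p0 k) (y0 l) = 0 := by
  rw [herm_p0_left]; simp [y0]

theorem herm_p1_y0 (k l : F) : hermForm 6 F 2 (p1 k) (y0 l) = 0 := by
  rw [herm_p1_left]; simp [y0]

variable (L : Lab hF π z ε lift)

include L

/-- **The hyperbolic line.** -/
theorem third {a b c : C} (ha : a ∈ Dset lift) (hb : b ∈ Dset lift) (hc : c ∈ Dset lift)
    (hab : ¬ Commute a b) (h : ∀ p ∈ Dset lift, Commute p a → Commute p b → Commute p c) :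
    c = a ∨ c = b ∨ c = a * b * a := by
  obtain ⟨ω, hω⟩ := exists_omega hF
  have h2 : (2 : F) = 0 := two_eq_zero hF
  have hω3 : ω ^ 3 = 1 := by linear_combination (ω - 1) * hω
  have hω1 : 1 + ω ≠ 0 := by
    intro h1
    have : (1 : F) = 0 := by linear_combination hω - ω * h1
    exact one_ne_zero this
  have i1 := y0_iso (F := F) (k := 1) h2 (by ring)
  have iω := y0_iso (F := F) (k := ω) h2 hω3
  have hA : lift (y0 1) ∈ Dset lift := Lab.mem_D (y0_ne _) i1
  have hB : lift (y0 ω) ∈ Dset lift := Lab.mem_D (y0_ne _) iω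
  have hAB : ¬ Commute (lift (y0 1)) (lift (y0 ω)) := by
    rw [L.commute_iff i1 iω (y0_ne _) (y0_ne _), herm_y0]
    intro h1
    have : (1 : F) = 0 := by linear_combination hω - (ω + 1) * (hω - h1)
    exact one_ne_zero this
  -- the standard case
  have key : ∀ c ∈ Dset lift, (∀ p ∈ Dset lift, Commute p (lift (y0 1)) → Commute p (lift (y0 ω)) →
      Commute p c) → c = lift (y0 1) ∨ c = lift (y0 ω) ∨
        c = lift (y0 1) * lift (y0 ω) * lift (y0 1) := by
    rintro _ ⟨w, hw0, hw, rfl⟩ hp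
    have o : ∀ k : F, k ^ 3 = 1 → w 0 ^ 2 + k * w 1 ^ 2 = 0 ∧ w 2 ^ 2 + k * w 3 ^ 2 = 0 := by
      intro k hk
      constructor
      · rw [← herm_p0_left, ← L.commute_iff (p0_iso h2 hk) hw (p0_ne _) hw0]
        apply hp _ (Lab.mem_D (p0_ne _) (p0_iso h2 hk))
        · rw [L.commute_iff (p0_iso h2 hk) i1 (p0_ne _) (y0_ne _), herm_p0_y0]
        · rw [L.commute_iff (p0_iso h2 hk) iω (p0_ne _) (y0_ne _), herm_p0_y0]
      · rw [← herm_p1_left, ← L.commute_iff (p1_iso h2 hk) hw (p1_ne _) hw0]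
        apply hp _ (Lab.mem_D (p1_ne _) (p1_iso h2 hk))
        · rw [L.commute_iff (p1_iso h2 hk) i1 (p1_ne _) (y0_ne _), herm_p1_y0]
        · rw [L.commute_iff (p1_iso h2 hk) iω (p1_ne _) (y0_ne _), herm_p1_y0]
    obtain ⟨e1, e2⟩ := o 1 (by ring)
    obtain ⟨e3, e4⟩ := o ω hω3
    have w1 : w 1 = 0 := by
      have : (1 + ω) * w 1 ^ 2 = 0 := by linear_combination e3 - e1 + w 1 ^ 2 * h2
      exact (pow_eq_zero_iff two_ne_zero).1 ((mul_eq_zero.1 this).resolve_left hω1)
    have w0' : w 0 = 0 := by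
      have : w 0 ^ 2 = 0 := by rw [w1] at e1; linear_combination e1
      exact (pow_eq_zero_iff two_ne_zero).1 this
    have w3 : w 3 = 0 := by
      have : (1 + ω) * w 3 ^ 2 = 0 := by linear_combination e4 - e2 + w 3 ^ 2 * h2
      exact (pow_eq_zero_iff two_ne_zero).1 ((mul_eq_zero.1 this).resolve_left hω1)
    have w2 : w 2 = 0 := by
      have : w 2 ^ 2 = 0 := by rw [w3] at e2; linear_combination e2
      exact (pow_eq_zero_iff two_ne_zero).1 this
    -- `w = (0, 0, 0, 0, s, r)`
    have hw' : w 4 ^ 3 + w 5 ^ 3 = 0 := by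
      rw [herm_def, Fin.sum_univ_six, w0', w1, w2, w3] at hw
      linear_combination hw
    have h4 : w 4 ≠ 0 := by
      intro h4
      apply hw0
      rw [h4] at hw'
      have h5 : w 5 = 0 := (pow_eq_zero_iff three_ne_zero).1 (by linear_combination hw')
      funext i
      fin_cases i
      · exact w0'
      · exact w1
      · exact w2
      · exact w3
      · exact h4
      · exact h5
    set k : F := w 5 / w 4 with hk
    have hk5 : w 5 = k * w 4 := by rw [hk, div_mul_cancel₀ _ h4]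
    have hk3 : k ^ 3 = 1 := by
      have h5 : (k ^ 3 - 1) * w 4 ^ 3 = 0 := by
        rw [hk5] at hw'
        linear_combination hw' - w 4 ^ 3 * h2
      rcases mul_eq_zero.1 h5 with h6 | h6
      · exact sub_eq_zero.1 h6
      · exact absurd ((pow_eq_zero_iff three_ne_zero).1 h6) h4
    have hwk : w = w 4 • y0 k := by
      funext i
      fin_cases i
      · simp [y0, w0']
      · simp [y0, w1]
      · simp [y0, w2]
      · simp [y0, w3]
      · simp [y0]
      · show w 5 = w 4 • k
        rw [hk5, smul_eq_mul, mul_comm]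
    have hlk : lift w = lift (y0 k) := by
      conv_lhs => rw [hwk]
      exact L.smul _ _ (y0_iso h2 hk3) h4
    have hk' : k = 1 ∨ k = ω ∨ k = ω ^ 2 := by
      have h5 : (k - 1) * ((k - ω) * (k - ω ^ 2)) = 0 := by
        linear_combination hk3 + (- k ^ 2 + k) * hω + (k - 1) * hω3
      rcases mul_eq_zero.1 h5 with h6 | h6
      · exact Or.inl (sub_eq_zero.1 h6)
      · rcases mul_eq_zero.1 h6 with h7 | h7
        · exact Or.inr (Or.inl (sub_eq_zero.1 h7))
        · exact Or.inr (Or.inr (sub_eq_zero.1 h7))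
    rw [hlk]
    rcases hk' with h5 | h5 | h5
    · left; rw [h5]
    · right; left; rw [h5]
    · right; right
      rw [h5, L.conj_lift i1 iω (y0_ne _) (y0_ne _), herm_y0]
      have e : y0 ω + (1 + ω * 1 ^ 2) • y0 1 = ω • y0 (ω ^ 2) := by
        funext i
        fin_cases i
        · simp [y0]
        · simp [y0]
        · simp [y0]
        · simp [y0]
        · show (1 : F) + (1 + ω * 1 ^ 2) • 1 = ω • 1
          simp only [smul_eq_mul]
          linear_combination h2
        · show ω + (1 + ω * 1 ^ 2) • (1 : F) = ω • ω ^ 2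
          simp only [smul_eq_mul]
          linear_combination ω * h2 - hω3
      rw [e, L.smul _ _ (y0_iso h2 (by linear_combination (ω ^ 3 + 1) * hω3)) (by
        intro h6; rw [h6] at hω3; simp at hω3)]
  obtain ⟨g, g1, g2⟩ := L.trans_noncommuting a ha b hb _ hA _ hB hab hAB
  have := key (g * c * g⁻¹) (L.conj_mem hc g) (by
    intro p hp h1 h3
    have e : p = g * (g⁻¹ * p * g⁻¹⁻¹) * g⁻¹ := by group
    rw [e, conj_comm_iff]
    rw [e, ← g1, conj_comm_iff] at h1
    rw [e, ← g2, conj_comm_iff] at h3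
    exact h _ (L.conj_mem hp _) h1 h3)
  rw [← g1, ← g2] at this
  rcases this with h1 | h1 | h1
  · exact Or.inl (mul_left_cancel (mul_right_cancel h1))
  · exact Or.inr (Or.inl (mul_left_cancel (mul_right_cancel h1)))
  · refine Or.inr (Or.inr ?_)
    have e : g * a * g⁻¹ * (g * b * g⁻¹) * (g * a * g⁻¹) = g * (a * b * a) * g⁻¹ := by group
    rw [e] at h1
    exact mul_left_cancel (mul_right_cancel h1)

/-- a labelled element commuting with `a`, not with `b`, different from `a` -/
theorem exists_opp {a b : C} (ha : a ∈ Dset lift) (hb : b ∈ Dset lift) (hab : ¬ Commute a b) :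
    ∃ p ∈ Dset lift, p ≠ a ∧ Commute p a ∧ ¬ Commute p b := by
  classical
  by_contra hcon
  push Not at hcon
  -- everything commuting with `a` but `a` itself commutes with `b`
  have hsub : {x | x ∈ Dset lift ∧ ¬ Commute a x} ⊆ {b, a * b * a} := by
    rintro y ⟨hy, hay⟩
    rcases third L ha hy hb hay (fun p hp h1 h3 => by
      by_cases hpa : p = a
      · rw [hpa] at h3
        exact absurd h3 hay
      · exact hcon p hp hpa h1) with h1 | h1 | h1
    · exact absurd (by rw [h1]) hab
    · left; exact h1.symm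
    · right
      have haa : a * a = 1 := by
        obtain ⟨v, h0, hv, rfl⟩ := ha
        exact L.sq v h0 hv
      show y = a * b * a
      rw [h1]
      calc y = (a * a) * y * (a * a) := by rw [haa, one_mul, mul_one]
        _ = a * (a * y * a) * a := by group
  have h1 := Count.ncard_noncommuting L ha
  have h3 := Set.ncard_le_ncard hsub (Set.toFinite _)
  have h4 := Set.ncard_insert_le b ({a * b * a} : Set C)
  rw [Set.ncard_singleton] at h4
  omega

/-- there are noncommuting labelled elements -/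
theorem exists_ncom : ∃ a ∈ Dset lift, ∃ b ∈ Dset lift, ¬ Commute a b := by
  obtain ⟨ω, hω⟩ := exists_omega hF
  have h2 : (2 : F) = 0 := two_eq_zero hF
  have i1 := y0_iso (F := F) (k := 1) h2 (by ring)
  have hA : lift (y0 1) ∈ Dset lift := Lab.mem_D (y0_ne _) i1
  have h1 := Count.ncard_noncommuting L hA
  have h3 : {x | x ∈ Dset lift ∧ ¬ Commute (lift (y0 1)) x}.Nonempty := by
    rw [Set.nonempty_iff_ne_empty]
    intro h
    rw [h, Set.ncard_empty] at h1
    omega
  obtain ⟨x, hx, hx1⟩ := h3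
  exact ⟨_, hA, x, hx, hx1⟩

end lab

section bas

variable {P : Type*} [Group P] [Finite P] {F : Type*} [Field F] [Fintype F]
  {hF : Fintype.card F = 2 ^ 2} {T : Set P}

/-- **The hyperbolic line** in the link of `a`. -/
theorem third_mem (B : Bas hF T) {a x y w : P} (ha : a ∈ T) (hx : x ∈ T) (hy : y ∈ T) (hw : w ∈ T)
    (xa : x * a = a * x) (ya : y * a = a * y) (wa : w * a = a * w) (wn : w ≠ a)
    (hxy : x * y ≠ y * x)
    (h : ∀ p ∈ T, p * a = a * p → p * x = x * p → p * y = y * p → p * w = w * p) :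
    w = x ∨ w = y ∨ w = x * y * x := by
  obtain ⟨π, lift, L, hiff⟩ := B.base.loc a ha
  have xn : x ≠ a := by
    rintro rfl
    exact hxy ya.symm
  have yn : y ≠ a := by
    rintro rfl
    exact hxy xa
  have := third L (AllOfLab.mem_Dset_of hiff hx xa xn) (AllOfLab.mem_Dset_of hiff hy ya yn)
    (AllOfLab.mem_Dset_of hiff hw wa wn) (fun h1 => hxy (AllOfLab.comm_coe.1 h1)) (by
      intro p hp h1 h3
      apply AllOfLab.comm_coe.2
      exact h p ((hiff p).2 (Or.inr hp)) (AllOfLab.zel_comm p).symm (AllOfLab.comm_coe.1 h1)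
        (AllOfLab.comm_coe.1 h3))
  rcases this with h1 | h1 | h1
  · exact Or.inl (congrArg Subtype.val h1)
  · exact Or.inr (Or.inl (congrArg Subtype.val h1))
  · exact Or.inr (Or.inr (congrArg Subtype.val h1))

/-- **(k7)** members of `C(a)` not commuting with `b` with the same neighbours in `C(a) ∩ C(b)` -/
theorem same_nb (B : Bas hF T) {a b c c' : P} (ha : a ∈ T) (hb : b ∈ T) (hc : c ∈ T) (hc' : c' ∈ T)
    (ba : b * a = a * b) (ca : c * a = a * c) (ca' : c' * a = a * c') (cb : c * b ≠ b * c)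
    (cb' : c' * b ≠ b * c')
    (h : ∀ d ∈ T, d * a = a * d → d * b = b * d → d * c = c * d → d * c' = c' * d) :
    c' = c ∨ c' = b * c * b := by
  rcases third_mem B ha hb hc hc' ba ca ca' (by rintro rfl; exact cb' ba.symm) (Ne.symm cb)
    (fun p hp h1 h2 h3 => h p hp h1 h2 h3) with h1 | h1 | h1
  · exact absurd (by rw [h1]) cb'
  · exact Or.inl h1
  · exact Or.inr h1

/-- a neighbour of `c` in `C(a)` not commuting with `b` -/
theorem exists_opp_mem (B : Bas hF T) {a b c : P} (ha : a ∈ T) (hb : b ∈ T) (hc : c ∈ T)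
    (ba : b * a = a * b) (ca : c * a = a * c) (cb : c * b ≠ b * c) :
    ∃ p ∈ T, p * a = a * p ∧ p ≠ c ∧ p * c = c * p ∧ p * b ≠ b * p := by
  obtain ⟨π, lift, L, hiff⟩ := B.base.loc a ha
  have bn : b ≠ a := by
    rintro rfl
    exact cb ca
  have cn : c ≠ a := by
    rintro rfl
    exact cb ba.symm
  obtain ⟨p, hp, h1, h2, h3⟩ := exists_opp L (AllOfLab.mem_Dset_of hiff hc ca cn)
    (AllOfLab.mem_Dset_of hiff hb ba bn) (fun h1 => cb (AllOfLab.comm_coe.1 h1))
  exact ⟨p, (hiff p).2 (Or.inr hp), (AllOfLab.zel_comm p).symm, fun h => h1 (Subtype.ext h),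
    AllOfLab.comm_coe.1 h2, fun h => h3 (AllOfLab.comm_coe.2 h)⟩

theorem conj_eq (B : Bas hF T) {b c c' : P} (hb : b ∈ T) (hc : c ∈ T)
    (cb : c * b ≠ b * c) (h : b = c * c' * c) : c' = b * c * b := by
  have hcc := B.sq hc
  have h1 : c' = c * b * c := by
    rw [h]
    calc c' = (c * c) * c' * (c * c) := by rw [hcc, one_mul, mul_one]
      _ = c * (c * c' * c) * c := by group
  rw [h1]
  rcases B.three hc hb with h2 | h2
  · exact absurd h2 cb
  · exact h2

/-- two members of `C(a)` not commuting with `b` have a common neighbour of the same kind, unless `c' = c ^ b` -/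
theorem common_opp (B : Bas hF T) {a b c c' : P} (ha : a ∈ T) (hb : b ∈ T) (hc : c ∈ T) (hc' : c' ∈ T)
    (ba : b * a = a * b) (ca : c * a = a * c) (ca' : c' * a = a * c') (cb : c * b ≠ b * c)
    (cb' : c' * b ≠ b * c') (hcc : c * c' ≠ c' * c) (hne : c' ≠ b * c * b) :
    ∃ p ∈ T, p * a = a * p ∧ p * b ≠ b * p ∧ p * c = c * p ∧ p * c' = c' * p := by
  by_contra hcon
  push Not at hcon
  rcases third_mem B ha hc hc' hb ca ca' ba (by rintro rfl; exact cb ca) hcc (by
    intro p hp h1 h2 h3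
    by_contra h4
    exact hcon p hp h1 h4 h2 h3) with h1 | h1 | h1
  · exact absurd (by rw [h1]) cb
  · exact absurd (by rw [h1]) cb'
  · exact hne (conj_eq B hb hc cb h1)

/-- **(k8)** the members of `C(a)` not commuting with `b` are connected under commuting -/
theorem connected (B : Bas hF T) {a b : P} (ha : a ∈ T) (hb : b ∈ T) (ba : b * a = a * b) (S : Set P)
    (hS : ∀ c ∈ S, ∀ d ∈ T, d * a = a * d → d * b ≠ b * d → c * d = d * c → d ∈ S)
    {c c' : P} (hcS : c ∈ S) (hc : c ∈ T) (hc' : c' ∈ T) (ca : c * a = a * c) (ca' : c' * a = a * c')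
    (cb : c * b ≠ b * c) (cb' : c' * b ≠ b * c') : c' ∈ S := by
  -- pairs which are not opposite under `b`
  have step : ∀ c ∈ S, c ∈ T → c * a = a * c → c * b ≠ b * c → ∀ c' ∈ T, c' * a = a * c' →
      c' * b ≠ b * c' → c' ≠ b * c * b → c' ∈ S := by
    intro c hcS hc ca cb c' hc' ca' cb' hne
    by_cases hcc : c * c' = c' * c
    · exact hS c hcS c' hc' ca' cb' hcc
    · obtain ⟨p, hp, h1, h2, h3, h4⟩ := common_opp B ha hb hc hc' ba ca ca' cb cb' hcc hne
      exact hS p (hS c hcS p hp h1 h2 h3.symm) c' hc' ca' cb' h4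
  by_cases hne : c' = b * c * b
  · obtain ⟨p, hp, h1, h2, h3, h4⟩ := exists_opp_mem B ha hb hc ba ca cb
    have hpS := hS c hcS p hp h1 h4 h3.symm
    refine step p hpS hp h1 h4 c' hc' ca' cb' ?_
    rintro h5
    apply h2
    rw [hne] at h5
    exact (mul_left_cancel (mul_right_cancel h5)).symm
  · exact step c hcS hc ca cb c' hc' ca' cb' hne

/-- **(k5)** the centraliser of `a` is generated by its transpositions -/
theorem closure_link (B : Bas hF T) {a : P} (ha : a ∈ T) :
    Subgroup.closure {x : P | x ∈ T ∧ x * a = a * x ∧ x ≠ a} = Subgroup.centralizer ({a} : Set P) := by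
  obtain ⟨π, lift, L, hiff⟩ := B.base.loc a ha
  have h1 := L.isThreeTranspositionClass.2.2
  have h2 := congrArg (Subgroup.map (Subgroup.centralizer ({a} : Set P)).subtype) h1
  rw [MonoidHom.map_closure, ← MonoidHom.range_eq_map, Subgroup.range_subtype] at h2
  rw [← h2]
  congr 1
  ext x
  constructor
  · rintro ⟨hx, xa, xn⟩
    exact ⟨⟨x, Subgroup.mem_centralizer_singleton_iff.2 xa⟩, AllOfLab.mem_Dset_of hiff hx xa xn, rfl⟩
  · rintro ⟨y, hy, rfl⟩
    refine ⟨(hiff y).2 (Or.inr hy), (AllOfLab.zel_comm y).symm, ?_⟩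
    intro h3
    have h4 : y = zel a := Subtype.ext h3
    apply L.z_notMem
    rw [← h4]
    exact hy

/-- the same with `a` -/
theorem closure_cent (B : Bas hF T) {a : P} (ha : a ∈ T) :
    Subgroup.closure {x : P | x ∈ T ∧ x * a = a * x} = Subgroup.centralizer ({a} : Set P) := by
  apply le_antisymm
  · rw [Subgroup.closure_le]
    rintro x ⟨-, hx⟩
    exact Subgroup.mem_centralizer_singleton_iff.2 hx
  · rw [← closure_link B ha]
    exact Subgroup.closure_mono fun x hx => ⟨hx.1, hx.2.1⟩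

/-- the transitivity on the noncommuting pairs -/
def TransN (T : Set P) : Prop :=
  ∀ a ∈ T, ∀ b ∈ T, ∀ a' ∈ T, ∀ b' ∈ T, a * b ≠ b * a → a' * b' ≠ b' * a' →
    ∃ g : P, g * a * g⁻¹ = a' ∧ g * b * g⁻¹ = b'

/-- **(k3)** any two transpositions have a common neighbour -/
theorem common_nb (B : Bas hF T) (hN : TransN T) {x y : P} (hx : x ∈ T) (hy : y ∈ T) :
    ∃ c ∈ T, c ≠ x ∧ c ≠ y ∧ c * x = x * c ∧ c * y = y * c := by
  by_cases hxy : x = y
  · obtain ⟨b, c, h⟩ := B.exists_tri hx
    subst hxy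
    exact ⟨b, h.my, h.xy.symm, h.xy.symm, h.cxy.symm, h.cxy.symm⟩
  · by_cases cxy : x * y = y * x
    · obtain ⟨c, h⟩ := B.third hx hy hxy cxy
      exact ⟨c, h.mw, h.xw.symm, h.yw.symm, h.cxw.symm, h.cyw.symm⟩
    · obtain ⟨a, u, v, -, h, -⟩ := B.tf.four
      obtain ⟨π, lift, L, hiff⟩ := B.base.loc a h.mx
      obtain ⟨p, hp, q, hq, hpq⟩ := exists_ncom L
      obtain ⟨g, h1, h2⟩ := hN p ((hiff p).2 (Or.inr hp)) q ((hiff q).2 (Or.inr hq)) x hx y hy
        (fun h3 => hpq (AllOfLab.comm_coe.2 h3)) cxy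
      have e : ∀ r : Subgroup.centralizer ({a} : Set P), r ∈ Dset lift →
          g * a * g⁻¹ ≠ g * r * g⁻¹ ∧ g * a * g⁻¹ * (g * r * g⁻¹) = g * r * g⁻¹ * (g * a * g⁻¹) := by
        intro r hr
        constructor
        · intro h3
          have h4 : zel a = r := Subtype.ext (mul_left_cancel (mul_right_cancel h3))
          apply L.z_notMem
          rw [h4]
          exact hr
        · exact conj_comm g (AllOfLab.zel_comm r)
      refine ⟨g * a * g⁻¹, B.conjT g h.mx, ?_, ?_, ?_, ?_⟩
      · rw [← h1]; exact (e p hp).1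
      · rw [← h2]; exact (e q hq).1
      · rw [← h1]; exact (e p hp).2
      · rw [← h2]; exact (e q hq).2

/-- **(k9)**, first half -/
theorem same_nb_top (B : Bas hF T) (hN : TransN T) {b c c' : P} (hb : b ∈ T) (hc : c ∈ T)
    (hc' : c' ∈ T) (cb : c * b ≠ b * c) (cb' : c' * b ≠ b * c')
    (h : ∀ d ∈ T, d * b = b * d → d * c = c * d → d * c' = c' * d) : c' = c ∨ c' = b * c * b := by
  obtain ⟨a, ha, -, -, h1, h2⟩ := common_nb B hN hb hc
  exact same_nb B ha hb hc hc' h1.symm h2.symm (h a ha h1 h2).symm cb cb'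
    (fun d hd _ h3 h4 => h d hd h3 h4)

/-- **(k9)**, second half: the transpositions not commuting with `b` are connected under commuting -/
theorem connected_top (B : Bas hF T) (hN : TransN T) {b : P} (hb : b ∈ T) (S : Set P)
    (hS : ∀ c ∈ S, ∀ d ∈ T, d * b ≠ b * d → c * d = d * c → d ∈ S)
    {c c' : P} (hcS : c ∈ S) (hc : c ∈ T) (hc' : c' ∈ T) (cb : c * b ≠ b * c)
    (cb' : c' * b ≠ b * c') : c' ∈ S := by
  obtain ⟨a, ha, -, -, h1, h2⟩ := common_nb B hN hc hc'
  by_cases ab : a * b = b * a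
  · exact connected B ha hb ab.symm S (fun c hcS d hd _ h3 h4 => hS c hcS d hd h3 h4) hcS hc hc' h1.symm
      h2.symm cb cb'
  · exact hS a (hS c hcS a ha ab h1.symm) c' hc' cb' h2

end bas

end Cfsg.Agent.OddHalf.D8.Fi22.Opp
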