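import Mathlib

/-!
# ODD half, D8, `K = Fi₂₂`: the facts on the class of transpositions (helper956)

`Geo T`: the facts on `Fi₂₂` and its class `T` of 3510 transpositions used in the swapped case; `KF K T` the same for
a subgroup `K` of `G` and a subset `T` of `K`. `KF.of_geo` transports.
-/

set_option autoImplicit false

namespace Cfsg.Agent.OddHalf.D8.Fi22

open Subgroup

/-- facts on `Fi₂₂` and its class of transpositions -/
structure Geo {X : Type*} [Group X] (T : Set X) : Prop where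
  sq : ∀ c ∈ T, c * c = 1
  one : (1 : X) ∉ T
  conj : ∀ k : X, ∀ c ∈ T, k * c * k⁻¹ ∈ T
  three : ∀ x ∈ T, ∀ y ∈ T, x * y = y * x ∨ x * y * x = y * x * y
  gen : closure T = ⊤
  /-- transitive on ordered commuting pairs -/
  trans : ∀ x ∈ T, ∀ y ∈ T, ∀ x' ∈ T, ∀ y' ∈ T, x ≠ y → x' ≠ y' → x * y = y * x → x' * y' = y' * x' →
    ∃ k : X, k * x * k⁻¹ = x' ∧ k * y * k⁻¹ = y'
  /-- a common neighbour -/
  nbr : ∀ x ∈ T, ∀ y ∈ T, ∃ c ∈ T, c ≠ x ∧ c ≠ y ∧ c * x = x * c ∧ c * y = y * c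
  /-- `C(a)` is generated by its transpositions and has centre `{1, a}` -/
  genJ : ∀ a ∈ T, ∀ k : X, k * a = a * k → k ∈ closure {c | c ∈ T ∧ c * a = a * c}
  cenJ : ∀ a ∈ T, ∀ g : X, g * a = a * g → (∀ j : X, j * a = a * j → g * j = j * g) → g = 1 ∨ g = a
  /-- `C(a, b)` is perfect -/
  perfP : ∀ a ∈ T, ∀ b ∈ T, a ≠ b → a * b = b * a →
    ⁅centralizer ({a} : Set X) ⊓ centralizer ({b} : Set X),
      centralizer ({a} : Set X) ⊓ centralizer ({b} : Set X)⁆ =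
      centralizer ({a} : Set X) ⊓ centralizer ({b} : Set X)
  /-- (g5): in the graph of `C(a)`, points opposite to `b` with the same neighbours in `C(b)` -/
  opp : ∀ a ∈ T, ∀ b ∈ T, a ≠ b → a * b = b * a → ∀ c ∈ T, ∀ c' ∈ T, c * a = a * c → c' * a = a * c' →
    c * b ≠ b * c → c' * b ≠ b * c' →
    (∀ d ∈ T, d * a = a * d → d * b = b * d → (d * c = c * d ↔ d * c' = c' * d)) →
    c' = c ∨ c' = b * c * b
  /-- (g6): the points of `C(a)` opposite to `b` are connected under commuting -/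
  conn : ∀ a ∈ T, ∀ b ∈ T, a ≠ b → a * b = b * a → ∀ S : Set X, S.Nonempty →
    (∀ c ∈ S, c ∈ T ∧ c * a = a * c ∧ c * b ≠ b * c) →
    (∀ c ∈ S, ∀ c' ∈ T, c' * a = a * c' → c' * b ≠ b * c' → c * c' = c' * c → c' ∈ S) →
    ∀ c ∈ T, c * a = a * c → c * b ≠ b * c → c ∈ S

variable {G : Type*} [Group G]

/-- the same for a subgroup `K` of `G` -/
structure KF (K : Subgroup G) (T : Set G) : Prop where
  TK : ∀ c ∈ T, c ∈ K
  sq : ∀ c ∈ T, c * c = 1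
  one : (1 : G) ∉ T
  conj : ∀ k ∈ K, ∀ c ∈ T, k * c * k⁻¹ ∈ T
  three : ∀ x ∈ T, ∀ y ∈ T, x * y = y * x ∨ x * y * x = y * x * y
  gen : closure T = K
  trans : ∀ x ∈ T, ∀ y ∈ T, ∀ x' ∈ T, ∀ y' ∈ T, x ≠ y → x' ≠ y' → x * y = y * x → x' * y' = y' * x' →
    ∃ k ∈ K, k * x * k⁻¹ = x' ∧ k * y * k⁻¹ = y'
  nbr : ∀ x ∈ T, ∀ y ∈ T, ∃ c ∈ T, c ≠ x ∧ c ≠ y ∧ c * x = x * c ∧ c * y = y * c
  genJ : ∀ a ∈ T, ∀ k ∈ K, k * a = a * k → k ∈ closure {c | c ∈ T ∧ c * a = a * c}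
  cenJ : ∀ a ∈ T, ∀ g ∈ K, g * a = a * g → (∀ j ∈ K, j * a = a * j → g * j = j * g) → g = 1 ∨ g = a
  perfP : ∀ a ∈ T, ∀ b ∈ T, a ≠ b → a * b = b * a →
    ⁅K ⊓ centralizer ({a} : Set G) ⊓ centralizer ({b} : Set G),
      K ⊓ centralizer ({a} : Set G) ⊓ centralizer ({b} : Set G)⁆ =
      K ⊓ centralizer ({a} : Set G) ⊓ centralizer ({b} : Set G)
  opp : ∀ a ∈ T, ∀ b ∈ T, a ≠ b → a * b = b * a → ∀ c ∈ T, ∀ c' ∈ T, c * a = a * c → c' * a = a * c' →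
    c * b ≠ b * c → c' * b ≠ b * c' →
    (∀ d ∈ T, d * a = a * d → d * b = b * d → (d * c = c * d ↔ d * c' = c' * d)) →
    c' = c ∨ c' = b * c * b
  conn : ∀ a ∈ T, ∀ b ∈ T, a ≠ b → a * b = b * a → ∀ S : Set G, S.Nonempty →
    (∀ c ∈ S, c ∈ T ∧ c * a = a * c ∧ c * b ≠ b * c) →
    (∀ c ∈ S, ∀ c' ∈ T, c' * a = a * c' → c' * b ≠ b * c' → c * c' = c' * c → c' ∈ S) →
    ∀ c ∈ T, c * a = a * c → c * b ≠ b * c → c ∈ S

/-- transport along an injective homomorphism -/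
theorem KF.of_geo {X : Type*} [Group X] {T : Set X} (h : Geo T) (f : X →* G)
    (hf : Function.Injective f) : KF f.range (f '' T) := by
  have hc : ∀ x y : X, f x * f y = f y * f x ↔ x * y = y * x := by
    intro x y
    rw [← map_mul, ← map_mul, hf.eq_iff]
  have hmem : ∀ x : X, f x ∈ f '' T ↔ x ∈ T := by
    intro x
    constructor
    · rintro ⟨y, hy, e⟩
      rwa [← hf e]
    · intro hx
      exact ⟨x, hx, rfl⟩
  refine
    { TK := ?_, sq := ?_, one := ?_, conj := ?_, three := ?_, gen := ?_, trans := ?_, nbr := ?_,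
      genJ := ?_, cenJ := ?_, perfP := ?_, opp := ?_, conn := ?_ }
  · rintro _ ⟨x, -, rfl⟩
    exact ⟨x, rfl⟩
  · rintro _ ⟨x, hx, rfl⟩
    rw [← map_mul, h.sq x hx, map_one]
  · rintro ⟨x, hx, e⟩
    have : x = 1 := hf (by rw [e, map_one])
    exact h.one (this ▸ hx)
  · rintro _ ⟨k, rfl⟩ _ ⟨x, hx, rfl⟩
    rw [← map_inv, ← map_mul, ← map_mul, hmem]
    exact h.conj k x hx
  · rintro _ ⟨x, hx, rfl⟩ _ ⟨y, hy, rfl⟩
    rw [hc]
    rcases h.three x hx y hy with h1 | h1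
    · exact Or.inl h1
    · right
      rw [← map_mul, ← map_mul, ← map_mul, ← map_mul, h1]
  · rw [← MonoidHom.map_closure, h.gen, ← MonoidHom.range_eq_map]
  · rintro _ ⟨x, hx, rfl⟩ _ ⟨y, hy, rfl⟩ _ ⟨x', hx', rfl⟩ _ ⟨y', hy', rfl⟩ h1 h2 h3 h4
    rw [hc] at h3 h4
    obtain ⟨k, hk1, hk2⟩ := h.trans x hx y hy x' hx' y' hy' (fun e => h1 (by rw [e]))
      (fun e => h2 (by rw [e])) h3 h4
    refine ⟨f k, ⟨k, rfl⟩, ?_, ?_⟩
    · rw [← map_inv, ← map_mul, ← map_mul, hk1]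
    · rw [← map_inv, ← map_mul, ← map_mul, hk2]
  · rintro _ ⟨x, hx, rfl⟩ _ ⟨y, hy, rfl⟩
    obtain ⟨c, h1, h2, h3, h4, h5⟩ := h.nbr x hx y hy
    exact ⟨f c, ⟨c, h1, rfl⟩, fun e => h2 (hf e), fun e => h3 (hf e), (hc _ _).2 h4, (hc _ _).2 h5⟩
  · rintro _ ⟨a, ha, rfl⟩ _ ⟨k, rfl⟩ hka
    rw [hc] at hka
    have h1 : f k ∈ (closure {c | c ∈ T ∧ c * a = a * c}).map f := ⟨k, h.genJ a ha k hka, rfl⟩
    rw [MonoidHom.map_closure] at h1
    refine closure_mono ?_ h1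
    rintro _ ⟨c, ⟨hc1, hc2⟩, rfl⟩
    exact ⟨⟨c, hc1, rfl⟩, (hc _ _).2 hc2⟩
  · rintro _ ⟨a, ha, rfl⟩ _ ⟨g, rfl⟩ hga hj
    rw [hc] at hga
    rcases h.cenJ a ha g hga (fun j hja => (hc _ _).1 (hj (f j) ⟨j, rfl⟩ ((hc _ _).2 hja))) with h1 | h1
    · left; rw [h1, map_one]
    · right; rw [h1]
  · rintro _ ⟨a, ha, rfl⟩ _ ⟨b, hb, rfl⟩ hne hab
    rw [hc] at hab
    have e : f.range ⊓ centralizer ({f a} : Set G) ⊓ centralizer ({f b} : Set G) =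
        (centralizer ({a} : Set X) ⊓ centralizer ({b} : Set X)).map f := by
      ext y
      constructor
      · rintro ⟨⟨⟨x, rfl⟩, h1⟩, h2⟩
        refine ⟨x, ⟨?_, ?_⟩, rfl⟩
        · exact mem_centralizer_singleton_iff.2 ((hc _ _).1 (mem_centralizer_singleton_iff.1 h1))
        · exact mem_centralizer_singleton_iff.2 ((hc _ _).1 (mem_centralizer_singleton_iff.1 h2))
      · rintro ⟨x, ⟨h1, h2⟩, rfl⟩
        refine ⟨⟨⟨x, rfl⟩, ?_⟩, ?_⟩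
        · exact mem_centralizer_singleton_iff.2 ((hc _ _).2 (mem_centralizer_singleton_iff.1 h1))
        · exact mem_centralizer_singleton_iff.2 ((hc _ _).2 (mem_centralizer_singleton_iff.1 h2))
    rw [e, ← map_commutator, h.perfP a ha b hb (fun e => hne (by rw [e])) hab]
  · rintro _ ⟨a, ha, rfl⟩ _ ⟨b, hb, rfl⟩ hne hab _ ⟨c, hc1, rfl⟩ _ ⟨c', hc1', rfl⟩ h1 h2 h3 h4 h5
    rw [hc] at hab h1 h2
    rw [ne_eq, hc] at h3 h4
    rcases h.opp a ha b hb (fun e => hne (by rw [e])) hab c hc1 c' hc1' h1 h2 h3 h4 (by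
      intro d hd hda hdb
      have := h5 (f d) ⟨d, hd, rfl⟩ ((hc _ _).2 hda) ((hc _ _).2 hdb)
      rwa [hc, hc] at this) with h6 | h6
    · left; rw [h6]
    · right; rw [h6, map_mul, map_mul]
  · rintro _ ⟨a, ha, rfl⟩ _ ⟨b, hb, rfl⟩ hne hab S hS h1 h2 _ ⟨c, hc1, rfl⟩ h3 h4
    rw [hc] at hab h3
    rw [ne_eq, hc] at h4
    refine h.conn a ha b hb (fun e => hne (by rw [e])) hab (f ⁻¹' S) ?_ ?_ ?_ c hc1 h3 h4
    · obtain ⟨y, hy⟩ := hS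
      obtain ⟨⟨x, hx, rfl⟩, -⟩ := h1 y hy
      exact ⟨x, hy⟩
    · intro x hx
      obtain ⟨h5, h6, h7⟩ := h1 (f x) hx
      rw [hmem] at h5
      rw [hc] at h6
      rw [ne_eq, hc] at h7
      exact ⟨h5, h6, h7⟩
    · intro x hx x' hx' h5 h6 h7
      exact h2 (f x) hx (f x') ⟨x', hx', rfl⟩ ((hc _ _).2 h5) (by rw [ne_eq, hc]; exact h6)
        ((hc _ _).2 h7)

end Cfsg.Agent.OddHalf.D8.Fi22
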