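import Cfsg.Agent.OddHalf.D8.Fi22.Rigid
import Cfsg.Agent.OddHalf.D8.Fi22.Geo
import Cfsg.Agent.OddHalf.D8.WreathLam
import Cfsg.Agent.OddHalf.D8.Wreath

/-!
# ODD half, D8, `K = Fi₂₂`: the swapped case (helper956)

`a` a transposition of `K ≤ C_G(t)`, `D` a component of `C_G(a)` with `[D, Dᵗ] = 1` and
`C_K(a) = {m mᵗ : m ∈ D}`. Then `K = {w wᵗ : w ∈ E}` for some `E` with `[E, Eᵗ] = 1` (structure `Wr`), and
`C_G(t)` permutes `E`, `Eᵗ`.
-/

set_option autoImplicit false

namespace Cfsg.Agent.OddHalf.D8.Fi22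

open Subgroup
open scoped commutatorElement

variable {G : Type*} [Group G]

/-! ### `D` and `Dᵗ` -/

/-- `D` commutes with `D^t` -/
structure Tw (t : G) (D : Subgroup G) : Prop where
  tt : t * t = 1
  comm : ∀ x ∈ D, ∀ y ∈ D, x * (t * y * t) = t * y * t * x

/-- `φ m = m m^t` -/
def ph (t x : G) : G := x * (t * x * t)

namespace Tw

variable {t : G} {D : Subgroup G}

theorem tinv (h : Tw t D) : t⁻¹ = t := inv_eq_of_mul_eq_one_right h.tt

theorem sg_mul (h : Tw t D) (x y : G) : t * (x * y) * t = t * x * t * (t * y * t) := by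
  calc t * (x * y) * t = t * x * (t * t) * y * t := by rw [h.tt]; group
    _ = _ := by group

theorem sg_sg (h : Tw t D) (x : G) : t * (t * x * t) * t = x := by
  calc t * (t * x * t) * t = (t * t) * x * (t * t) := by group
    _ = x := by rw [h.tt]; group

theorem sg_inv (h : Tw t D) (x : G) : t * x⁻¹ * t = (t * x * t)⁻¹ := by
  rw [mul_inv_rev, mul_inv_rev, h.tinv, ← mul_assoc]

theorem ph_mul (h : Tw t D) {x y : G} (hx : x ∈ D) (hy : y ∈ D) : ph t (x * y) = ph t x * ph t y := by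
  unfold ph
  rw [h.sg_mul]
  have := h.comm y hy x hx
  calc x * y * (t * x * t * (t * y * t)) = x * (y * (t * x * t)) * (t * y * t) := by group
    _ = x * (t * x * t * y) * (t * y * t) := by rw [this]
    _ = _ := by group

theorem ph_one (h : Tw t D) : ph t 1 = 1 := by
  unfold ph
  rw [mul_one, one_mul, h.tt]

theorem ph_inv (h : Tw t D) {x : G} (hx : x ∈ D) : ph t x⁻¹ = (ph t x)⁻¹ := by
  apply eq_inv_of_mul_eq_one_left
  rw [← h.ph_mul (inv_mem hx) hx, inv_mul_cancel, h.ph_one]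

theorem ph_t (h : Tw t D) {x : G} (hx : x ∈ D) : ph t x * t = t * ph t x := by
  have h1 : t * ph t x * t = ph t x := by
    unfold ph
    rw [h.sg_mul, h.sg_sg]
    exact (h.comm x hx x hx).symm
  calc ph t x * t = t * ph t x * t * t := by rw [h1]
    _ = t * ph t x * (t * t) := by group
    _ = t * ph t x := by rw [h.tt, mul_one]

/-- `φ` as a homomorphism -/
def hom (h : Tw t D) : D →* G where
  toFun x := ph t x
  map_one' := h.ph_one
  map_mul' x y := h.ph_mul x.2 y.2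

theorem hom_apply (h : Tw t D) (x : D) : h.hom x = ph t x := rfl

/-- an element of the kernel of `φ` is central -/
theorem ker_central (h : Tw t D) {k : G} (hk : k ∈ D) (hk1 : ph t k = 1) {x : G} (hx : x ∈ D) :
    k * x = x * k := by
  have h1 : k = (t * k * t)⁻¹ := eq_inv_of_mul_eq_one_left hk1
  have h2 : Commute x (t * k * t) := h.comm x hx k hk
  have h3 : Commute x k := by rw [h1]; exact h2.inv_right
  exact h3.eq.symm

theorem ph_comm (h : Tw t D) {x y : G} (hx : x ∈ D) (hy : y ∈ D) :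
    ph t (x * y * x⁻¹ * y⁻¹) = ph t x * ph t y * (ph t x)⁻¹ * (ph t y)⁻¹ := by
  rw [h.ph_mul (mul_mem (mul_mem hx hy) (inv_mem hx)) (inv_mem hy),
    h.ph_mul (mul_mem hx hy) (inv_mem hx), h.ph_mul hx hy, h.ph_inv hx, h.ph_inv hy]

/-- elements of `D` act on `D` as their images under `φ` -/
theorem conj_eq (h : Tw t D) {x m : G} (hx : x ∈ D) (hm : m ∈ D) :
    ph t m * x * (ph t m)⁻¹ = m * x * m⁻¹ := by
  unfold ph
  have h1 := h.comm x hx m hm
  calc m * (t * m * t) * x * (m * (t * m * t))⁻¹ = m * (t * m * t * x) * (t * m * t)⁻¹ * m⁻¹ := by group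
    _ = m * (x * (t * m * t)) * (t * m * t)⁻¹ * m⁻¹ := by rw [h1]
    _ = _ := by group

/-- a perfect cover of a perfect subgroup of `φ(D)` -/
theorem exists_cov [Finite G] (h : Tw t D) {P : Subgroup G} (hP : ⁅P, P⁆ = P)
    (hPD : ∀ p ∈ P, ∃ m ∈ D, ph t m = p) : ∃ A : Subgroup G, A ≤ D ∧ ⁅A, A⁆ = A ∧
    (∀ a ∈ A, ph t a ∈ P) ∧ ∀ p ∈ P, ∃ a ∈ A, ph t a = p := by
  have hne : ∃ B : Subgroup D, B.map h.hom = P := by
    refine ⟨P.comap h.hom, ?_⟩
    rw [map_comap_eq]
    apply inf_eq_right.2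
    intro p hp
    obtain ⟨m, hm, hmp⟩ := hPD p hp
    exact ⟨⟨m, hm⟩, hmp⟩
  obtain ⟨B, hB, hmin⟩ := WellFounded.has_min (wellFounded_lt : WellFounded
    ((· < ·) : Subgroup D → Subgroup D → Prop)) {B | B.map h.hom = P} hne
  have hB' : B.map h.hom = P := hB
  have h1 : ⁅B, B⁆ = B := by
    by_contra hne1
    have hlt : ⁅B, B⁆ < B := lt_of_le_of_ne (commutator_le_self B) hne1
    apply hmin ⁅B, B⁆ _ hlt
    show (⁅B, B⁆).map h.hom = P
    rw [map_commutator, hB', hP]
  refine ⟨B.map D.subtype, ?_, ?_, ?_, ?_⟩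
  · rintro _ ⟨x, -, rfl⟩
    exact x.2
  · rw [← map_commutator, h1]
  · rintro _ ⟨x, hx, rfl⟩
    rw [← hB']
    exact ⟨x, hx, rfl⟩
  · intro p hp
    rw [← hB'] at hp
    obtain ⟨x, hx, rfl⟩ := hp
    exact ⟨x, ⟨x, hx, rfl⟩, rfl⟩

/-- an element of `D` whose image centralises `φ(D)` is central -/
theorem central_of (h : Tw t D) (hD : ⁅D, D⁆ = D) {u : G} (hu : u ∈ D)
    (huP : ∀ m ∈ D, ph t u * ph t m = ph t m * ph t u) : ∀ m ∈ D, u * m = m * u := by
  apply WreathLam.comm_of_perfect hD {k | k ∈ D ∧ ph t k = 1}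
  · intro a ha
    refine ⟨mul_mem (mul_mem (mul_mem hu ha) (inv_mem hu)) (inv_mem ha), ?_⟩
    rw [h.ph_comm hu ha, huP _ ha]
    group
  · rintro k ⟨hk, hk1⟩ a ha
    exact h.ker_central hk hk1 ha
  · rintro k ⟨hk, hk1⟩ l ⟨hl, -⟩
    exact h.ker_central hk hk1 hl

end Tw

/-! ### The configuration -/

/-- the swapped case -/
structure Dg (t a : G) (K D : Subgroup G) (T : Set G) : Prop where
  kf : KF K T
  tw : Tw t D
  Kt : ∀ k ∈ K, k * t = t * k
  aT : a ∈ T
  Da : ∀ m ∈ D, m * a = a * m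
  perf : ⁅D, D⁆ = D
  diag : ∀ m ∈ D, ph t m ∈ K
  surj : ∀ k ∈ K, k * a = a * k → ∃ m ∈ D, ph t m = k
  /-- the conjugates of `D` in `C(a)` -/
  comps : ∀ g : G, g * a = a * g → g ∈ normalizer (D : Set G) ∨ t * g ∈ normalizer (D : Set G) ∨
    ∀ m ∈ D, ∀ n ∈ D, g * m * g⁻¹ * n = n * (g * m * g⁻¹) ∧
      g * m * g⁻¹ * (t * n * t) = t * n * t * (g * m * g⁻¹)

namespace Dg

variable {t a : G} {K D : Subgroup G} {T : Set G}

theorem aK (h : Dg t a K D T) : a ∈ K := h.kf.TK a h.aT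

theorem aa (h : Dg t a K D T) : a * a = 1 := h.kf.sq a h.aT

theorem a1 (h : Dg t a K D T) : a ≠ 1 := fun e => h.kf.one (e ▸ h.aT)

theorem ta (h : Dg t a K D T) : t * a = a * t := (h.Kt a h.aK).symm

/-- `φ(m)` commutes with `a` -/
theorem ph_a (h : Dg t a K D T) {m : G} (hm : m ∈ D) : ph t m * a = a * ph t m := by
  have h1 := h.Da m hm
  have h2 : t * m * t * a = a * (t * m * t) := by
    calc t * m * t * a = t * m * (t * a) := by group
      _ = t * (m * a) * t := by rw [h.ta]; group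
      _ = (t * a) * m * t := by rw [h1]; group
      _ = a * (t * m * t) := by rw [h.ta]; group
  unfold ph
  calc m * (t * m * t) * a = m * (t * m * t * a) := by group
    _ = (m * a) * (t * m * t) := by rw [h2]; group
    _ = a * (m * (t * m * t)) := by rw [h1]; group

/-- the group `J = C_K(a)` -/
def J (a : G) (K : Subgroup G) : Subgroup G := K ⊓ centralizer ({a} : Set G)

theorem mem_J {k : G} : k ∈ J a K ↔ k ∈ K ∧ k * a = a * k := by
  unfold J
  rw [mem_inf, mem_centralizer_singleton_iff]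

theorem ph_mem_J (h : Dg t a K D T) {m : G} (hm : m ∈ D) : ph t m ∈ J a K :=
  mem_J.2 ⟨h.diag m hm, h.ph_a hm⟩

/-- `φ` as a homomorphism onto `J` -/
def φ (h : Dg t a K D T) : D →* J a K where
  toFun x := ⟨ph t x, h.ph_mem_J x.2⟩
  map_one' := Subtype.ext h.tw.ph_one
  map_mul' x y := Subtype.ext (h.tw.ph_mul x.2 y.2)

theorem φ_coe (h : Dg t a K D T) (x : D) : ((h.φ x : J a K) : G) = ph t x := rfl

theorem φ_surj (h : Dg t a K D T) : Function.Surjective h.φ := by
  rintro ⟨k, hk⟩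
  obtain ⟨h1, h2⟩ := mem_J.1 hk
  obtain ⟨m, hm, hmk⟩ := h.surj k h1 h2
  exact ⟨⟨m, hm⟩, Subtype.ext hmk⟩

/-- the quotient `J / Z(J)` -/
abbrev L (a : G) (K : Subgroup G) : Type _ := J a K ⧸ center (J a K)

/-- the epimorphism of `D` to `J / Z(J)` -/
def ψ (h : Dg t a K D T) : D →* L a K := (QuotientGroup.mk' (center (J a K))).comp h.φ

theorem ψ_apply (h : Dg t a K D T) (x : D) : h.ψ x = ((h.φ x : J a K) : L a K) := rfl

theorem ψ_surj (h : Dg t a K D T) : Function.Surjective h.ψ :=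
  (QuotientGroup.mk'_surjective _).comp h.φ_surj

theorem ψ_ker (h : Dg t a K D T) : h.ψ.ker = center D := by
  ext x
  rw [MonoidHom.mem_ker, ψ_apply, QuotientGroup.eq_one_iff, mem_center_iff, mem_center_iff]
  constructor
  · intro h1 g
    apply Subtype.ext
    refine (h.tw.central_of h.perf x.2 ?_ g g.2).symm
    intro m hm
    have := congrArg (fun y : J a K => (y : G)) (h1 (h.φ ⟨m, hm⟩))
    exact this.symm
  · intro h1 g
    obtain ⟨y, rfl⟩ := h.φ_surj g
    rw [← map_mul, ← map_mul, h1 y]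

/-- the centre of `J` -/
theorem center_J (h : Dg t a K D T) {x : J a K} (hx : x ∈ center (J a K)) :
    (x : G) = 1 ∨ (x : G) = a := by
  rw [mem_center_iff] at hx
  obtain ⟨h1, h2⟩ := mem_J.1 x.2
  apply h.kf.cenJ a h.aT x h1 h2
  intro j hj hja
  exact (congrArg (fun y : J a K => (y : G)) (hx ⟨j, mem_J.2 ⟨hj, hja⟩⟩)).symm

/-- the points of `L` -/
def pts (a : G) (K : Subgroup G) (T : Set G) : Set (L a K) :=
  {y | ∃ c : J a K, (c : G) ∈ T ∧ (c : G) ≠ a ∧ (c : L a K) = y}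

/-- two transpositions of `J` commute if they commute modulo the centre -/
theorem comm_iff (h : Dg t a K D T) {c d : J a K} (hc : (c : G) ∈ T) (hd : (d : G) ∈ T) :
    (c : L a K) * (d : L a K) = (d : L a K) * (c : L a K) ↔ (c : G) * d = d * c := by
  constructor
  · intro h1
    rw [← QuotientGroup.mk_mul, ← QuotientGroup.mk_mul, QuotientGroup.eq] at h1
    have h2 := h.center_J h1
    have h3 : ((((c * d)⁻¹ * (d * c) : J a K)) : G) = ((c : G) * d)⁻¹ * (d * c) := rfl
    rw [h3] at h2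
    rcases h2 with h2 | h2
    · exact inv_mul_eq_one.1 h2
    · rcases h.kf.three c hc d hd with h4 | h4
      · exact h4
      · have hdd := h.kf.sq d hd
        have hcc := h.kf.sq c hc
        -- `d c = c d a`
        have h5 : (d : G) * c = c * d * a := inv_mul_eq_iff_eq_mul.1 h2
        have h6 : (c : G) * d * c * d = d * c := by
          rw [h4]
          calc (d : G) * c * d * d = d * c * (d * d) := by group
            _ = d * c := by rw [hdd, mul_one]
        have h7 : (c : G) * d * c * d = a := by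
          calc (c : G) * d * c * d = c * (d * c) * d := by group
            _ = c * (c * d * a) * d := by rw [h5]
            _ = (c * c) * d * (a * d) := by group
            _ = (c * c) * d * (d * a) := by rw [(mem_J.1 d.2).2]
            _ = (c * c) * (d * d) * a := by group
            _ = a := by rw [hcc, hdd, one_mul, one_mul]
        have h8 : (d : G) * c = a := h6.symm.trans h7
        rw [h8] at h5
        have h9 : (c : G) * d = 1 := (mul_eq_right.1 h5.symm)
        rw [h9, h8]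
        exfalso
        -- `c = d`, so `d c = 1`
        have h10 : (d : G) * c = 1 := by
          have : (c : G) = (d : G)⁻¹ := eq_inv_of_mul_eq_one_left h9
          rw [this, mul_inv_cancel]
        exact h.a1 (h8.symm.trans h10)
  · intro h1
    rw [← QuotientGroup.mk_mul, ← QuotientGroup.mk_mul]
    congr 1
    exact Subtype.ext h1

theorem b_J (h : Dg t a K D T) {b : G} (hb : b ∈ T) (hab : a * b = b * a) : b ∈ J a K :=
  mem_J.2 ⟨h.kf.TK b hb, hab.symm⟩

/-- the rigidity hypotheses for `L` -/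
theorem rig (h : Dg t a K D T) {b : G} (hb : b ∈ T) (hne : a ≠ b) (hab : a * b = b * a) :
    Rig (pts a K T) ((⟨b, h.b_J hb hab⟩ : J a K) : L a K) := by
  set b' : J a K := ⟨b, h.b_J hb hab⟩ with hb'
  have hb'T : (b' : G) ∈ T := hb
  refine
    { sq := ?_, bP := ⟨b', hb, hne.symm, rfl⟩, conj := ?_, one := ?_, three := ?_, gen := ?_, opp := ?_,
      conn := ?_ }
  · rintro _ ⟨c, hc, -, rfl⟩
    rw [← QuotientGroup.mk_mul]
    have : c * c = 1 := Subtype.ext (h.kf.sq c hc)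
    rw [this, QuotientGroup.mk_one]
  · rintro k _ ⟨c, hc, hca, rfl⟩
    obtain ⟨k, rfl⟩ := QuotientGroup.mk_surjective k
    refine ⟨k * c * k⁻¹, h.kf.conj k (mem_J.1 k.2).1 c hc, ?_, rfl⟩
    intro e
    apply hca
    have e' : (k : G) * c * (k : G)⁻¹ = a := e
    have hk := (mem_J.1 k.2).2
    calc (c : G) = (k : G)⁻¹ * ((k : G) * c * (k : G)⁻¹) * k := by group
      _ = (k : G)⁻¹ * (a * k) := by rw [e']; group
      _ = (k : G)⁻¹ * (k * a) := by rw [hk]
      _ = a := by group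
  · rintro _ ⟨c, hc, hca, rfl⟩
    obtain ⟨k, hk, hka, hkb⟩ := h.kf.trans a h.aT b hb a h.aT c hc hne hca.symm hab
      (mem_J.1 c.2).2.symm
    have hkJ : k ∈ J a K := mem_J.2 ⟨hk, mul_inv_eq_iff_eq_mul.1 hka⟩
    refine ⟨((⟨k, hkJ⟩ : J a K) : L a K), ?_⟩
    rw [← QuotientGroup.mk_inv, ← QuotientGroup.mk_mul, ← QuotientGroup.mk_mul]
    congr 1
    exact Subtype.ext hkb
  · rintro _ ⟨c, hc, -, rfl⟩ _ ⟨d, hd, -, rfl⟩
    rcases h.kf.three c hc d hd with h1 | h1
    · left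
      exact (h.comm_iff hc hd).2 h1
    · right
      rw [← QuotientGroup.mk_mul, ← QuotientGroup.mk_mul, ← QuotientGroup.mk_mul,
        ← QuotientGroup.mk_mul]
      congr 1
      exact Subtype.ext h1
  · -- generation
    rw [eq_top_iff]
    intro y _
    obtain ⟨k, rfl⟩ := QuotientGroup.mk_surjective y
    obtain ⟨hk1, hk2⟩ := mem_J.1 k.2
    have key : ∀ x : G, x ∈ closure {c | c ∈ T ∧ c * a = a * c} →
        ∃ hx : x ∈ J a K, ((⟨x, hx⟩ : J a K) : L a K) ∈ closure (pts a K T) := by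
      intro x hx
      induction hx using closure_induction with
      | mem c hc =>
        obtain ⟨hc1, hc2⟩ := hc
        have hcJ : c ∈ J a K := mem_J.2 ⟨h.kf.TK c hc1, hc2⟩
        refine ⟨hcJ, ?_⟩
        by_cases hca : c = a
        · have : ((⟨c, hcJ⟩ : J a K) : L a K) = 1 := by
            rw [QuotientGroup.eq_one_iff, mem_center_iff]
            intro g
            apply Subtype.ext
            show (g : G) * c = c * g
            rw [hca]
            exact (mem_J.1 g.2).2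
          rw [this]
          exact one_mem _
        · exact subset_closure ⟨⟨c, hcJ⟩, hc1, hca, rfl⟩
      | one => exact ⟨one_mem _, one_mem _⟩
      | mul x y _ _ h1 h2 =>
        obtain ⟨hx, hx'⟩ := h1
        obtain ⟨hy, hy'⟩ := h2
        exact ⟨mul_mem hx hy, mul_mem hx' hy'⟩
      | inv x _ h1 =>
        obtain ⟨hx, hx'⟩ := h1
        exact ⟨inv_mem hx, inv_mem hx'⟩
    obtain ⟨_, h3⟩ := key k (h.kf.genJ a h.aT k hk1 hk2)
    exact h3
  · rintro _ ⟨c, hc, hca, rfl⟩ _ ⟨c', hc', hca', rfl⟩ h1 h2 h3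
    rw [ne_eq, h.comm_iff hc hb'T] at h1
    rw [ne_eq, h.comm_iff hc' hb'T] at h2
    rcases h.kf.opp a h.aT b hb hne hab c hc c' hc' (mem_J.1 c.2).2 (mem_J.1 c'.2).2 h1 h2 (by
      intro d hd hda hdb
      by_cases hda' : d = a
      · have e1 := (mem_J.1 c.2).2
        have e2 := (mem_J.1 c'.2).2
        rw [hda']
        exact ⟨fun _ => e2.symm, fun _ => e1.symm⟩
      · have hdJ : d ∈ J a K := mem_J.2 ⟨h.kf.TK d hd, hda⟩
        have h4 := h3 ((⟨d, hdJ⟩ : J a K) : L a K) ⟨⟨d, hdJ⟩, hd, hda', rfl⟩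
          ((h.comm_iff (c := ⟨d, hdJ⟩) hd hb'T).2 hdb)
        rwa [h.comm_iff (c := ⟨d, hdJ⟩) hd hc, h.comm_iff (c := ⟨d, hdJ⟩) hd hc'] at h4) with h5 | h5
    · left
      congr 1
      exact Subtype.ext h5
    · right
      rw [← QuotientGroup.mk_mul, ← QuotientGroup.mk_mul]
      congr 1
      exact Subtype.ext h5
  · intro S hS h1 h2 y hy hyb
    obtain ⟨c, hc, hca, rfl⟩ := hy
    rw [ne_eq, h.comm_iff hc hb'T] at hyb
    have h3 := h.kf.conn a h.aT b hb hne hab
      {x | ∃ hx : x ∈ J a K, x ∈ T ∧ x ≠ a ∧ ((⟨x, hx⟩ : J a K) : L a K) ∈ S} ?_ ?_ ?_ c hc (mem_J.1 c.2).2 hyb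
    · obtain ⟨_, -, -, h4⟩ := h3
      exact h4
    · obtain ⟨y, hy⟩ := hS
      obtain ⟨⟨x, hx, hxa, rfl⟩, -⟩ := h1 y hy
      exact ⟨x, x.2, hx, hxa, hy⟩
    · rintro x ⟨hx, hxT, -, hxS⟩
      refine ⟨hxT, (mem_J.1 hx).2, ?_⟩
      have h4 := (h1 _ hxS).2
      rwa [ne_eq, h.comm_iff (c := ⟨x, hx⟩) hxT hb'T] at h4
    · rintro x ⟨hx, hxT, -, hxS⟩ x' hx'T hx'a hx'b hxx
      have hx'J : x' ∈ J a K := mem_J.2 ⟨h.kf.TK x' hx'T, hx'a⟩
      have hne' : x' ≠ a := by
        rintro rfl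
        exact hx'b hab
      refine ⟨hx'J, hx'T, hne', ?_⟩
      apply h2 _ hxS _ ⟨⟨x', hx'J⟩, hx'T, hne', rfl⟩
      · rw [ne_eq, h.comm_iff (c := ⟨x', hx'J⟩) hx'T hb'T]
        exact hx'b
      · rw [h.comm_iff (c := ⟨x, hx⟩) (d := ⟨x', hx'J⟩) hxT hx'T]
        exact hxx

end Dg

end Cfsg.Agent.OddHalf.D8.Fi22
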