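import Cfsg.Agent.OddHalf.D8.Fi22.DiagThree
import Cfsg.Agent.OddHalf.D8.PumpX

/-!
# ODD half, D8, `K = Fi₂₂`: from components to the configuration `Dg` (helper956)
-/

set_option autoImplicit false

namespace Cfsg.Agent.OddHalf.D8.Fi22

open Subgroup Cfsg.Agent.OddHalf.D3

variable {G : Type*} [Group G]

theorem mem_normalizer_iff_cj {D : Subgroup G} {g : G} : g ∈ normalizer (D : Set G) ↔ cj g D = D := by
  constructor
  · intro h
    ext x
    rw [mem_cj, (mem_normalizer_iff.1 h (g⁻¹ * x * g))]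
    have e : g * (g⁻¹ * x * g) * g⁻¹ = x := by group
    rw [e]
  · intro h
    rw [mem_normalizer_iff]
    intro x
    constructor
    · intro hx
      rw [← h]
      exact conj_mem_cj hx
    · intro hx
      rw [← h, mem_cj] at hx
      have e : g⁻¹ * (g * x * g⁻¹) * g = x := by group
      rwa [e] at hx

/-- **`Dg` from the output of `PumpX.pump`.** -/
theorem Dg.of_comp {t a : G} {K D : Subgroup G} {T : Set G} (kf : KF K T) (tt : t * t = 1)
    (Kt : ∀ k ∈ K, k * t = t * k) (aT : a ∈ T) (hD : Comp a D) (hne : cj t D ≠ D)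
    (hdiag : ∀ d ∈ D, d * (t * d * t⁻¹) ∈ K ⊓ centralizer ({a} : Set G))
    (hsurj : ∀ l ∈ K ⊓ centralizer ({a} : Set G), ∃ d ∈ D, l = d * (t * d * t⁻¹)) :
    Dg t a K D T := by
  have hti : t⁻¹ = t := inv_eq_of_mul_eq_one_right tt
  have hta : t * a = a * t := (Kt a (kf.TK a aT)).symm
  have htD : Comp a (cj t D) := hD.conj_of_comm hta
  have hmem : ∀ y ∈ D, t * y * t ∈ cj t D := by
    intro y hy
    have := conj_mem_cj (g := t) hy
    rwa [hti] at this
  have hph : ∀ d : G, ph t d = d * (t * d * t⁻¹) := by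
    intro d
    unfold ph
    rw [hti]
  refine
    { kf := kf, tw := ⟨tt, ?_⟩, Kt := Kt, aT := aT, Da := ?_, perf := hD.perfect, diag := ?_, surj := ?_,
      comps := ?_ }
  · intro x hx y hy
    exact (comm_elt (htD.comm hD hne) (hmem y hy) hx).symm
  · intro m hm
    exact mem_cs.1 (hD.le hm)
  · intro m hm
    rw [hph]
    exact (hdiag m hm).1
  · intro k hk hka
    obtain ⟨d, hd, e⟩ := hsurj k ⟨hk, mem_cs.2 hka⟩
    exact ⟨d, hd, by rw [hph]; exact e.symm⟩
  · intro g hg
    have hgD := hD.conj_of_comm hg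
    by_cases h1 : cj g D = D
    · left
      exact mem_normalizer_iff_cj.2 h1
    · by_cases h2 : cj g D = cj t D
      · right; left
        rw [mem_normalizer_iff_cj, ← cj_cj, h2, cj_cj, tt]
        ext x
        rw [mem_cj, inv_one, one_mul, mul_one]
      · right; right
        intro m hm n hn
        exact ⟨comm_elt (hgD.comm hD h1) (conj_mem_cj hm) hn,
          comm_elt (hgD.comm htD h2) (conj_mem_cj hm) (hmem n hn)⟩

end Cfsg.Agent.OddHalf.D8.Fi22
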