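import Cfsg.Agent.OddHalf.D8.Fi22.DiagTwo

/-!
# ODD half, D8, `K = Fi₂₂`: the swapped case, third part (helper956)

**`Dg.exists_wr`**: in the swapped case there is `E` with `Wr t K E` and `C_G(t)` permutes `E`, `Eᵗ`.
-/

set_option autoImplicit false

namespace Cfsg.Agent.OddHalf.D8.Fi22

open Subgroup
open scoped commutatorElement

variable {G : Type*} [Group G]

/-- `g E g⁻¹ ≤ E` for a finite group -/
theorem mem_normalizer_of [Finite G] {E : Subgroup G} {g : G} (h : ∀ x ∈ E, g * x * g⁻¹ ∈ E) :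
    g ∈ normalizer (E : Set G) :=
  Subgroup.mem_normalizer_fintype (S := (E : Set G)) fun n hn => h n hn

theorem mem_normalizer_closure [Finite G] {S : Set G} {g : G} (h : ∀ x ∈ S, g * x * g⁻¹ ∈ closure S) :
    g ∈ normalizer (closure S : Set G) := by
  apply mem_normalizer_of
  intro x hx
  induction hx using closure_induction with
  | mem x hx => exact h x hx
  | one => rw [mul_one, mul_inv_cancel]; exact one_mem _
  | mul x y _ _ h1 h2 =>
    have e : g * (x * y) * g⁻¹ = g * x * g⁻¹ * (g * y * g⁻¹) := by group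
    rw [e]; exact mul_mem h1 h2
  | inv x _ h1 =>
    have e : g * x⁻¹ * g⁻¹ = (g * x * g⁻¹)⁻¹ := by group
    rw [e]; exact inv_mem h1

namespace Dg

variable {t a : G} {K D : Subgroup G} {T : Set G}

theorem ph_pow (h : Dg t a K D T) {x : G} (hx : x ∈ D) (n : ℕ) : ph t (x ^ n) = ph t x ^ n := by
  induction n with
  | zero => rw [pow_zero, pow_zero, h.tw.ph_one]
  | succ n ih => rw [pow_succ, pow_succ, h.tw.ph_mul (pow_mem hx n) hx, ih]

/-- the element `x` -/
theorem exists_x [Finite G] (h : Dg t a K D T) : ∃ x : G, Dx t a x K D T ∧ ∃ k, orderOf x = 2 ^ k := by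
  obtain ⟨x0, hx0, hx0a⟩ := h.surj a h.aK rfl
  have hc0 : ∀ m ∈ D, x0 * m = m * x0 := by
    apply h.tw.central_of h.perf hx0
    intro m hm
    rw [hx0a]
    exact (h.ph_a hm).symm
  obtain ⟨k, m, hm, hk⟩ := Nat.exists_eq_two_pow_mul_odd (orderOf_pos x0).ne'
  refine ⟨x0 ^ m, ⟨h, pow_mem hx0 m, ?_, ?_⟩, k, ?_⟩
  · intro y hy
    exact ((show Commute x0 y from hc0 y hy).pow_left m).eq
  · rw [h.ph_pow hx0, hx0a]
    obtain ⟨j, rfl⟩ := hm
    rw [pow_succ, pow_mul, pow_two, h.aa, one_pow, one_mul]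
  · rw [orderOf_pow, hk, Nat.gcd_mul_left_left, Nat.mul_div_cancel _ hm.pos]

end Dg

namespace Dx

variable {t a x : G} {K D : Subgroup G} {T : Set G}

theorem comm_near [Finite G] (h : Dx t a x K D T) {b c : G} (hb : b ∈ T) (hc : c ∈ T) (hne : a ≠ b)
    (hne' : a ≠ c) (hab : a * b = b * a) (hac : a * c = c * a) :
    xf K a x b * (t * xf K a x c * t) = t * xf K a x c * t * xf K a x b := by
  obtain ⟨β, h1, h2, h3, m, hm, h4⟩ := h.pair hb hne hab
  obtain ⟨k, hk, hka, hkc⟩ := h.kf.trans a h.aT b hb a h.aT c hc hne hne' hab hac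
  have hka' : k * a = a * k := mul_inv_eq_iff_eq_mul.1 hka
  obtain ⟨n, hn, hnk⟩ := h.surj k hk hka'
  have hkt := h.Kt k hk
  -- `β` commutes with `k`
  have hβk : β * k = k * β := by
    rw [← hnk]
    unfold ph
    calc β * (n * (t * n * t)) = (β * n) * (t * n * t) := by group
      _ = n * (β * (t * n * t)) := by rw [h1 n hn]; group
      _ = _ := by rw [h2 n hn]; group
  have hkβ : k * β * k⁻¹ = β := by rw [← hβk]; group
  set m' := k * m * k⁻¹ with hm'
  have hm'D : m' ∈ D := by
    have := h.tw.conj_eq hm hn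
    rw [hnk] at this
    rw [hm', this]
    exact mul_mem (mul_mem hn hm) (inv_mem hn)
  have hxc : xf K a x c = k * xf K a x b * k⁻¹ := by rw [← h.xf_conj hb hk, hkc]
  have hkm : k * (t * m * t) * k⁻¹ = t * m' * t := by
    have hkt' : k⁻¹ * t = t * k⁻¹ := (show Commute k t from hkt).inv_left
    calc k * (t * m * t) * k⁻¹ = (k * t) * m * (t * k⁻¹) := by group
      _ = (t * k) * m * (k⁻¹ * t) := by rw [hkt, hkt']
      _ = _ := by rw [hm']; group
  have hβ' : t * β * t = β⁻¹ := eq_inv_of_mul_eq_one_right h3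
  have hcm := h.tw.comm m hm m' hm'D
  rcases h4 with h4 | h4
  · have e1 : xf K a x c = m' * β := by
      rw [hxc, h4]
      calc k * (m * β) * k⁻¹ = k * m * k⁻¹ * (k * β * k⁻¹) := by group
        _ = _ := by rw [hkβ]
    have e2 : t * xf K a x c * t = t * m' * t * β⁻¹ := by
      rw [e1, h.tw.sg_mul, hβ']
    have h5 := h2 m' hm'D
    have h5' : β⁻¹ * m = m * β⁻¹ := ((show Commute β m from h1 m hm).inv_left).eq
    rw [e2, h4]
    calc m * β * (t * m' * t * β⁻¹) = m * (β * (t * m' * t)) * β⁻¹ := by group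
      _ = m * (t * m' * t) := by rw [h5]; group
      _ = t * m' * t * m := hcm
      _ = t * m' * t * (m * β⁻¹) * β := by group
      _ = t * m' * t * β⁻¹ * (m * β) := by rw [← h5']; group
  · have e1 : xf K a x c = t * m' * t * β := by
      rw [hxc, h4]
      calc k * (t * m * t * β) * k⁻¹ = k * (t * m * t) * k⁻¹ * (k * β * k⁻¹) := by group
        _ = _ := by rw [hkβ, hkm]
    have e2 : t * xf K a x c * t = m' * β⁻¹ := by
      rw [e1, h.tw.sg_mul, h.tw.sg_sg, hβ']
    have h5 := h1 m' hm'D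
    have h5' : β⁻¹ * (t * m * t) = t * m * t * β⁻¹ :=
      ((show Commute β (t * m * t) from h2 m hm).inv_left).eq
    have hcm' := h.tw.comm m' hm'D m hm
    rw [e2, h4]
    calc t * m * t * β * (m' * β⁻¹) = t * m * t * (β * m') * β⁻¹ := by group
      _ = t * m * t * m' := by rw [h5]; group
      _ = m' * (t * m * t) := hcm'.symm
      _ = m' * (t * m * t * β⁻¹) * β := by group
      _ = m' * β⁻¹ * (t * m * t * β) := by rw [← h5']; group

theorem comm_all [Finite G] (h : Dx t a x K D T) {b c : G} (hb : b ∈ T) (hc : c ∈ T) :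
    xf K a x b * (t * xf K a x c * t) = t * xf K a x c * t * xf K a x b := by
  obtain ⟨d, hd, hdb, hdc, hdb', hdc'⟩ := h.kf.nbr b hb c hc
  obtain ⟨k, hk, hkd⟩ := h.exists_conj hd
  have hkt := h.Kt k hk
  have hkt' : k⁻¹ * t = t * k⁻¹ := (show Commute k t from hkt).inv_left
  have hkm : ∀ e ∈ T, k⁻¹ * e * k ∈ T := by
    intro e he
    have := h.kf.conj k⁻¹ (inv_mem hk) e he
    rwa [inv_inv] at this
  have hne : ∀ e, d ≠ e → a ≠ k⁻¹ * e * k := by
    intro e h1 h2
    apply h1
    rw [← hkd, h2]; group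
  have hco : ∀ e, d * e = e * d → a * (k⁻¹ * e * k) = k⁻¹ * e * k * a := by
    intro e h1
    rw [← hkd] at h1
    calc a * (k⁻¹ * e * k) = k⁻¹ * ((k * a * k⁻¹) * e) * k := by group
      _ = k⁻¹ * (e * (k * a * k⁻¹)) * k := by rw [h1]
      _ = _ := by group
  have h1 := h.comm_near (hkm b hb) (hkm c hc) (hne b hdb) (hne c hdc) (hco b hdb') (hco c hdc')
  have e : ∀ e ∈ T, xf K a x e = k * xf K a x (k⁻¹ * e * k) * k⁻¹ := by
    intro e he
    rw [← h.xf_conj (hkm e he) hk]
    congr 1
    group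
  set u := xf K a x (k⁻¹ * b * k) with hu
  set v := xf K a x (k⁻¹ * c * k) with hv
  have e3 : t * (k * v * k⁻¹) * t = k * (t * v * t) * k⁻¹ := by
    calc t * (k * v * k⁻¹) * t = (t * k) * v * (k⁻¹ * t) := by group
      _ = (k * t) * v * (t * k⁻¹) := by rw [hkt, hkt']
      _ = _ := by group
  have eb : xf K a x b = k * u * k⁻¹ := e b hb
  have ec : xf K a x c = k * v * k⁻¹ := e c hc
  clear_value u v
  rw [eb, ec, e3]
  calc k * u * k⁻¹ * (k * (t * v * t) * k⁻¹) = k * (u * (t * v * t)) * k⁻¹ := by group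
    _ = k * (t * v * t * u) * k⁻¹ := by rw [h1]
    _ = _ := by group

/-- the structure of the wreath lemma -/
theorem wr [Finite G] (h : Dx t a x K D T)
    (cen : ∀ g : G, g * t = t * g → (∀ k ∈ K, g * k = k * g) → g = 1 ∨ g = t) :
    Wreath.Wr t K (closure (xf K a x '' T)) := by
  apply Wreath.wr_of h.tw.tt h.kf.gen (fun b hb => h.xf_ph hb) (fun b hb c hc => h.comm_all hb hc) cen
  obtain ⟨b, hb, hba, -, hbc, -⟩ := h.kf.nbr a h.aT a h.aT
  by_contra hcon
  push Not at hcon
  rcases h.kf.cenJ a h.aT b (h.kf.TK b hb) hbc (fun j hj _ => hcon b (h.kf.TK b hb) j hj) with h1 | h1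
  · exact h.kf.one (h1 ▸ hb)
  · exact hba h1

theorem xf_a (h : Dx t a x K D T) : xf K a x a = x := by
  have := h.xf_eq (one_mem K)
  rwa [one_mul, one_mul, inv_one, mul_one, mul_one] at this

theorem x_mem (h : Dx t a x K D T) : x ∈ closure (xf K a x '' T) :=
  subset_closure ⟨a, h.aT, h.xf_a⟩

theorem K_nor [Finite G] (h : Dx t a x K D T) {k : G} (hk : k ∈ K) :
    k ∈ normalizer (closure (xf K a x '' T) : Set G) := by
  apply mem_normalizer_closure
  rintro _ ⟨b, hb, rfl⟩
  exact subset_closure ⟨k * b * k⁻¹, h.kf.conj k hk b hb, h.xf_conj hb hk⟩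

/-- an element centralising `D` and `Dᵗ` and commuting with `t` is `1` or `a` -/
theorem one_or_a [Finite G] (h : Dx t a x K D T)
    (cJ : ∀ g : G, g * t = t * g → (∀ j ∈ K, j * a = a * j → g * j = j * g) →
      g = 1 ∨ g = t ∨ g = a ∨ g = t * a) {u : G} (hut : u * t = t * u) (huD : ∀ m ∈ D, u * m = m * u) :
    u = 1 ∨ u = a := by
  obtain ⟨b, hb, hba, -, hbc, -⟩ := h.kf.nbr a h.aT a h.aT
  have hN : ∀ w : G, (∀ m ∈ D, w * m = m * w) → w ∈ normalizer (D : Set G) := by
    intro w hw
    rw [mem_normalizer_iff]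
    intro y
    constructor
    · intro hy
      have : w * y * w⁻¹ = y := by rw [hw y hy]; group
      rw [this]; exact hy
    · intro hy
      have h1 := hw _ hy
      have : y = w * y * w⁻¹ := by
        have h2 : w * y = w * (w * y * w⁻¹) := by rw [h1]; group
        exact mul_left_cancel h2
      rw [this]; exact hy
  rcases cJ u hut (by
    intro j hj hja
    obtain ⟨m, hm, rfl⟩ := h.surj j hj hja
    have h1 := huD m hm
    have h2 : u * (t * m * t) = t * m * t * u := by
      calc u * (t * m * t) = (u * t) * m * t := by group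
        _ = t * (u * m) * t := by rw [hut]; group
        _ = t * m * (u * t) := by rw [h1]; group
        _ = _ := by rw [hut]; group
    unfold ph
    calc u * (m * (t * m * t)) = (u * m) * (t * m * t) := by group
      _ = m * (u * (t * m * t)) := by rw [h1]; group
      _ = _ := by rw [h2]; group) with h1 | h1 | h1 | h1
  · exact Or.inl h1
  · exact absurd (h1 ▸ hN u huD) (h.t_nmem hb hba.symm hbc.symm)
  · exact Or.inr h1
  · exfalso
    apply h.t_nmem hb hba.symm hbc.symm
    have h2 := mul_mem (hN u huD) (hN a (fun m hm => (h.Da m hm).symm))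
    rwa [h1, mul_assoc, h.aa, mul_one] at h2

/-- `x² = 1` -/
theorem xx [Finite G] (h : Dx t a x K D T) (hx2 : ∃ k, orderOf x = 2 ^ k)
    (cen : ∀ g : G, g * t = t * g → (∀ k ∈ K, g * k = k * g) → g = 1 ∨ g = t)
    (cJ : ∀ g : G, g * t = t * g → (∀ j ∈ K, j * a = a * j → g * j = j * g) →
      g = 1 ∨ g = t ∨ g = a ∨ g = t * a) : x * x = 1 := by
  by_contra hne
  obtain ⟨j, hj⟩ := hx2
  have hj2 : 2 ≤ j := by
    by_contra hlt
    apply hne
    have hle : j = 0 ∨ j = 1 := by omega
    rcases hle with rfl | rfl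
    · rw [pow_zero, orderOf_eq_one_iff] at hj
      rw [hj, one_mul]
    · have := pow_orderOf_eq_one x
      rwa [hj, pow_one, pow_two] at this
  obtain ⟨i, rfl⟩ := Nat.exists_eq_add_of_le hj2
  set u := x ^ 2 ^ (i + 1) with hu
  have hu2 : u * u = 1 := by
    rw [hu, ← pow_add, ← two_mul, ← pow_succ']
    have := pow_orderOf_eq_one x
    rw [hj, show 2 + i = i + 1 + 1 by omega] at this
    exact this
  have hu1 : u ≠ 1 := by
    intro h1
    have h2 := orderOf_dvd_of_pow_eq_one h1
    rw [hj] at h2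
    have h3 := Nat.le_of_dvd (pow_pos two_pos _) h2
    have h4 : 2 ^ (i + 1) < 2 ^ (2 + i) := Nat.pow_lt_pow_right (by norm_num) (by omega)
    omega
  have huD : u ∈ D := pow_mem h.xD _
  have hut1 : ph t u = 1 := by
    rw [hu, h.ph_pow h.xD, h.xa, pow_succ', pow_mul, pow_two, h.aa, one_pow]
  have hut : u * t = t * u := by
    have h1 : t * u * t = u⁻¹ := eq_inv_of_mul_eq_one_right hut1
    have h2 : u⁻¹ = u := inv_eq_of_mul_eq_one_right hu2
    rw [h2] at h1
    calc u * t = t * u * t * t := by rw [h1]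
      _ = t * u * (t * t) := by group
      _ = t * u := by rw [h.tw.tt, mul_one]
  rcases h.one_or_a cJ hut (fun m hm => ((show Commute x m from h.xc m hm).pow_left _).eq) with h1 | h1
  · exact hu1 h1
  · have h2 : t * x * t = x⁻¹ * a := by
      have := h.xa
      unfold ph at this
      rw [← this]; group
    have hE := h.x_mem
    have h5 : u ∈ closure (xf K a x '' T) := pow_mem hE _
    have h6 : a ∈ closure (xf K a x '' T) := by
      have h7 : ∀ w : G, u = w → w ∈ closure (xf K a x '' T) := fun w hw => hw ▸ h5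
      exact h7 a h1
    have h3 : t * x * t ∈ closure (xf K a x '' T) := by
      rw [h2]
      exact mul_mem (inv_mem hE) h6
    have h4 := (h.wr cen).odd_of_mem hE h3
    rw [hj] at h4
    have h8 : Even (2 ^ (2 + i)) := Nat.even_pow.2 ⟨even_two, by omega⟩
    exact (Nat.not_odd_iff_even.2 h8) h4

/-- an element of `C(t) ∩ C(a)` permutes `x`, `xᵗ` -/
theorem conj_x [Finite G] (h : Dx t a x K D T) (hxx : x * x = 1)
    (cJ : ∀ g : G, g * t = t * g → (∀ j ∈ K, j * a = a * j → g * j = j * g) →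
      g = 1 ∨ g = t ∨ g = a ∨ g = t * a) {s : G} (hst : s * t = t * s) (hsa : s * a = a * s)
    (hsT : ∀ c ∈ T, s * c * s⁻¹ ∈ T) : s * x * s⁻¹ = x ∨ s * x * s⁻¹ = t * x * t := by
  set y := s * x * s⁻¹ with hy
  have hti := h.tw.tinv
  have htx : t * x * t = x * a := by
    have h1 := h.xa
    unfold ph at h1
    have h2 : x⁻¹ = x := inv_eq_of_mul_eq_one_right hxx
    calc t * x * t = x⁻¹ * (x * (t * x * t)) := by group
      _ = x * a := by rw [h1, h2]
  have hst' : s⁻¹ * t = t * s⁻¹ := (show Commute s t from hst).inv_left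
  have hty : t * y * t = y * a := by
    calc t * y * t = (t * s) * x * (s⁻¹ * t) := by rw [hy]; group
      _ = (s * t) * x * (t * s⁻¹) := by rw [hst, hst']
      _ = s * (t * x * t) * s⁻¹ := by group
      _ = s * x * (a * s⁻¹) := by rw [htx]; group
      _ = s * x * (s⁻¹ * a) := by rw [((show Commute s a from hsa).inv_left).eq]
      _ = y * a := by rw [hy]; group
  -- `y` centralises `D`
  have hyD : ∀ m ∈ D, y * m = m * y := by
    rcases h.comps s hsa with h1 | h1 | h1
    · intro m hm
      have h2 : s⁻¹ * m * s ∈ D := by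
        have := (mem_normalizer_iff.1 (inv_mem h1) m).1 hm
        rwa [inv_inv] at this
      have h3 := h.xc _ h2
      calc y * m = s * (x * (s⁻¹ * m * s)) * s⁻¹ := by rw [hy]; group
        _ = s * (s⁻¹ * m * s * x) * s⁻¹ := by rw [h3]
        _ = m * y := by rw [hy]; group
    · -- `t y t ∈ D`
      have h2 : t * y * t ∈ D := by
        have := (mem_normalizer_iff.1 h1 x).1 h.xD
        rw [mul_inv_rev, hti] at this
        have e : t * y * t = t * s * x * (s⁻¹ * t) := by rw [hy]; group
        rw [e]; exact this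
      intro m hm
      have := h.tw.comm m hm _ h2
      rw [h.tw.sg_sg] at this
      exact this.symm
    · exfalso
      obtain ⟨b, hb, hba, -, hbc, -⟩ := h.kf.nbr a h.aT a h.aT
      obtain ⟨m, hm, hmb⟩ := h.surj b (h.kf.TK b hb) hbc
      have hb' := hsT b hb
      have hne : a ≠ s * b * s⁻¹ := by
        intro e
        apply hba
        calc b = s⁻¹ * (s * b * s⁻¹) * s := by group
          _ = s⁻¹ * (a * s) := by rw [← e]; group
          _ = a := by rw [← hsa]; group
      have hab : a * (s * b * s⁻¹) = s * b * s⁻¹ * a := by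
        calc a * (s * b * s⁻¹) = (a * s) * b * s⁻¹ := by group
          _ = s * (a * b) * s⁻¹ := by rw [← hsa]; group
          _ = s * b * (a * s⁻¹) := by rw [← hbc]; group
          _ = s * b * (s⁻¹ * a) := by rw [((show Commute s a from hsa).inv_left).eq]
          _ = _ := by group
      apply h.nc hb' hne hab
      intro n hn
      obtain ⟨h2, -⟩ := h1 m hm n hn
      obtain ⟨-, h3⟩ := h1 m hm n hn
      -- `s (t m t) s⁻¹ = t (s m s⁻¹) t` commutes with `n`
      have e1 : s * (t * m * t) * s⁻¹ = t * (s * m * s⁻¹) * t := by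
        calc s * (t * m * t) * s⁻¹ = (s * t) * m * (t * s⁻¹) := by group
          _ = (t * s) * m * (s⁻¹ * t) := by rw [hst, hst']
          _ = _ := by group
      have h4 : t * (s * m * s⁻¹) * t * n = n * (t * (s * m * s⁻¹) * t) := by
        have : t * (s * m * s⁻¹ * (t * n * t)) * t = t * (t * n * t * (s * m * s⁻¹)) * t := by rw [h3]
        calc t * (s * m * s⁻¹) * t * n = t * (s * m * s⁻¹ * (t * n * t)) * t := by
              rw [show t * (s * m * s⁻¹ * (t * n * t)) * t = t * (s * m * s⁻¹) * t * n * (t * t) by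
                group, h.tw.tt, mul_one]
          _ = t * (t * n * t * (s * m * s⁻¹)) * t := this
          _ = (t * t) * n * (t * (s * m * s⁻¹) * t) := by group
          _ = _ := by rw [h.tw.tt, one_mul]
      have e2 : s * b * s⁻¹ = s * m * s⁻¹ * (t * (s * m * s⁻¹) * t) := by
        rw [← e1, ← hmb]
        unfold ph
        group
      rw [e2]
      calc s * m * s⁻¹ * (t * (s * m * s⁻¹) * t) * n
          = s * m * s⁻¹ * (t * (s * m * s⁻¹) * t * n) := by group
        _ = (s * m * s⁻¹ * n) * (t * (s * m * s⁻¹) * t) := by rw [h4]; group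
        _ = n * (s * m * s⁻¹ * (t * (s * m * s⁻¹) * t)) := by rw [h2]; group
  have hya : y * a = a * y := by
    have hxa : x * a = a * x := h.Da x h.xD
    calc y * a = s * x * (s⁻¹ * a) := by rw [hy]; group
      _ = s * x * (a * s⁻¹) := by rw [((show Commute s a from hsa).inv_left).eq]
      _ = s * (x * a) * s⁻¹ := by group
      _ = (s * a) * x * s⁻¹ := by rw [hxa]; group
      _ = a * y := by rw [hsa, hy]; group
  -- `x y` is fixed by `t`
  have hfix : (x * y) * t = t * (x * y) := by
    have h1 : t * (x * y) * t = x * y := by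
      rw [h.tw.sg_mul, htx, hty]
      calc x * a * (y * a) = x * (a * y) * a := by group
        _ = x * y * (a * a) := by rw [← hya]; group
        _ = x * y := by rw [h.aa, mul_one]
    calc (x * y) * t = t * (x * y) * t * t := by rw [h1]
      _ = t * (x * y) * (t * t) := by group
      _ = t * (x * y) := by rw [h.tw.tt, mul_one]
  have hxi : x⁻¹ = x := inv_eq_of_mul_eq_one_right hxx
  rcases h.one_or_a cJ hfix (by
    intro m hm
    calc x * y * m = x * (y * m) := by group
      _ = (x * m) * y := by rw [hyD m hm]; group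
      _ = m * (x * y) := by rw [h.xc m hm]; group) with h1 | h1
  · left
    rw [← hxi]
    exact eq_inv_of_mul_eq_one_right h1
  · right
    rw [htx, ← h1, ← mul_assoc, hxx, one_mul]

/-- `C_G(t)` permutes `E`, `Eᵗ` -/
theorem nor [Finite G] (h : Dx t a x K D T) (hxx : x * x = 1)
    (cJ : ∀ g : G, g * t = t * g → (∀ j ∈ K, j * a = a * j → g * j = j * g) →
      g = 1 ∨ g = t ∨ g = a ∨ g = t * a) {s : G} (hst : s * t = t * s)
    (hsT : ∀ c ∈ T, s * c * s⁻¹ ∈ T) : s ∈ normalizer (closure (xf K a x '' T) : Set G) ∨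
      t * s ∈ normalizer (closure (xf K a x '' T) : Set G) := by
  -- elements fixing `t`, `a`, `x`
  have key : ∀ r : G, r * a = a * r → r * x = x * r → (∀ c ∈ T, r * c * r⁻¹ ∈ T) →
      r ∈ normalizer (closure (xf K a x '' T) : Set G) := by
    intro r hra hrx hrT
    apply mem_normalizer_closure
    rintro _ ⟨b, hb, rfl⟩
    refine subset_closure ⟨r * b * r⁻¹, hrT b hb, ?_⟩
    have hrK : ∀ k ∈ K, r * k * r⁻¹ ∈ K := by
      intro k hk
      rw [← h.kf.gen] at hk ⊢
      induction hk using closure_induction with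
      | mem c hc => exact subset_closure (hrT c hc)
      | one => rw [mul_one, mul_inv_cancel]; exact one_mem _
      | mul c d _ _ h1 h2 =>
        have e : r * (c * d) * r⁻¹ = r * c * r⁻¹ * (r * d * r⁻¹) := by group
        rw [e]; exact mul_mem h1 h2
      | inv c _ h1 =>
        have e : r * c⁻¹ * r⁻¹ = (r * c * r⁻¹)⁻¹ := by group
        rw [e]; exact inv_mem h1
    obtain ⟨k, hk, rfl⟩ := h.exists_conj hb
    have hrk := hrK k hk
    have e1 : r * (k * a * k⁻¹) * r⁻¹ = (r * k * r⁻¹) * a * (r * k * r⁻¹)⁻¹ := by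
      have hra' : r⁻¹ * a * r = a := by rw [mul_assoc, ← hra]; group
      calc r * (k * a * k⁻¹) * r⁻¹ = r * k * (r⁻¹ * a * r) * k⁻¹ * r⁻¹ := by rw [hra']; group
        _ = _ := by group
    rw [e1, h.xf_eq hrk, h.xf_eq hk]
    have hrx' : r⁻¹ * x * r = x := by rw [mul_assoc, ← hrx]; group
    calc r * k * r⁻¹ * x * (r * k * r⁻¹)⁻¹ = r * k * (r⁻¹ * x * r) * k⁻¹ * r⁻¹ := by group
      _ = _ := by rw [hrx']; group
  -- reduction to `C(a)`
  obtain ⟨k, hk, hka⟩ := h.exists_conj (hsT a h.aT)
  have hkN := h.K_nor hk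
  set r := k⁻¹ * s with hr
  have hsr : s = k * r := by rw [hr]; group
  have hra : r * a = a * r := by
    have h1 : s * a = k * a * k⁻¹ * s := by rw [hka]; group
    calc r * a = k⁻¹ * (s * a) := by rw [hr]; group
      _ = a * r := by rw [h1, hr]; group
  have hkt := h.Kt k hk
  have hkt' : k⁻¹ * t = t * k⁻¹ := (show Commute k t from hkt).inv_left
  have hrt : r * t = t * r := by
    calc r * t = k⁻¹ * (s * t) := by rw [hr]; group
      _ = (k⁻¹ * t) * s := by rw [hst]; group
      _ = t * r := by rw [hkt', hr]; group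
  have hrT : ∀ c ∈ T, r * c * r⁻¹ ∈ T := by
    intro c hc
    have h1 := h.kf.conj k⁻¹ (inv_mem hk) _ (hsT c hc)
    have e : r * c * r⁻¹ = k⁻¹ * (s * c * s⁻¹) * k⁻¹⁻¹ := by rw [hr]; group
    rw [e]; exact h1
  rcases h.conj_x hxx cJ hrt hra hrT with h1 | h1
  · left
    rw [hsr]
    exact mul_mem hkN (key r hra (mul_inv_eq_iff_eq_mul.1 h1) hrT)
  · right
    have e : t * s = k * (t * r) := by
      rw [hsr]
      calc t * (k * r) = (t * k) * r := by group
        _ = k * (t * r) := by rw [← hkt]; group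
    rw [e]
    apply mul_mem hkN
    apply key
    · calc t * r * a = t * (r * a) := by group
        _ = (t * a) * r := by rw [hra]; group
        _ = a * (t * r) := by rw [h.ta]; group
    · have h2 : r * x = t * x * t * r := mul_inv_eq_iff_eq_mul.1 h1
      calc t * r * x = t * (r * x) := by group
        _ = (t * t) * x * (t * r) := by rw [h2]; group
        _ = x * (t * r) := by rw [h.tw.tt, one_mul]
    · intro c hc
      have h2 := hrT c hc
      have h3 := h.Kt _ (h.kf.TK _ h2)
      have e2 : t * r * c * (t * r)⁻¹ = r * c * r⁻¹ := by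
        calc t * r * c * (t * r)⁻¹ = (t * (r * c * r⁻¹)) * t⁻¹ := by group
          _ = r * c * r⁻¹ := by rw [← h3]; group
      rw [e2]; exact h2

end Dx

/-- **The swapped case.** -/
theorem Dg.exists_wr [Finite G] {t a : G} {K D : Subgroup G} {T : Set G} (h : Dg t a K D T)
    (cen : ∀ g : G, g * t = t * g → (∀ k ∈ K, g * k = k * g) → g = 1 ∨ g = t)
    (cJ : ∀ g : G, g * t = t * g → (∀ j ∈ K, j * a = a * j → g * j = j * g) →
      g = 1 ∨ g = t ∨ g = a ∨ g = t * a) :
    ∃ E : Subgroup G, Wreath.Wr t K E ∧ (∀ k ∈ K, k ∈ normalizer (E : Set G)) ∧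
      ∀ s : G, s * t = t * s → (∀ c ∈ T, s * c * s⁻¹ ∈ T) →
        s ∈ normalizer (E : Set G) ∨ t * s ∈ normalizer (E : Set G) := by
  obtain ⟨x, hx, hx2⟩ := h.exists_x
  exact ⟨closure (xf K a x '' T), hx.wr cen, fun k hk => hx.K_nor hk,
    fun s hst hsT => hx.nor (hx.xx hx2 cen cJ) cJ hst hsT⟩

end Cfsg.Agent.OddHalf.D8.Fi22
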