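import Cfsg.Agent.OddHalf.D8.Fi22.Diag

/-!
# ODD half, D8, `K = Fi₂₂`: the swapped case, second part (helper956)

The elements `x_b` with `x_b x_bᵗ = b`; `[x_b, x_cᵗ] = 1`.
-/

set_option autoImplicit false

namespace Cfsg.Agent.OddHalf.D8.Fi22

open Subgroup
open scoped commutatorElement

variable {G : Type*} [Group G]

/-- conjugation by an element of the normaliser -/
def cjAut {D : Subgroup G} {g : G} (hg : g ∈ normalizer (D : Set G)) : D ≃* D where
  toFun x := ⟨g * x * g⁻¹, (mem_normalizer_iff.1 hg x).1 x.2⟩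
  invFun x := ⟨g⁻¹ * x * g, by
    have := (mem_normalizer_iff.1 (inv_mem hg) x).1 x.2
    rwa [inv_inv] at this⟩
  left_inv x := Subtype.ext (by show g⁻¹ * (g * x * g⁻¹) * g = x; group)
  right_inv x := Subtype.ext (by show g * (g⁻¹ * x * g) * g⁻¹ = x; group)
  map_mul' x y := Subtype.ext (by show g * (x * y) * g⁻¹ = g * x * g⁻¹ * (g * y * g⁻¹); group)

namespace Dg

variable {t a : G} {K D : Subgroup G} {T : Set G}

theorem comm_top (h : Dg t a K D T) : commutator D = ⊤ := by
  rw [commutator_def, ← (Subgroup.map_injective D.subtype_injective).eq_iff, Subgroup.map_commutator,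
    ← MonoidHom.range_eq_map, Subgroup.range_subtype, h.perf]

/-- **the U-fact**: an element normalising `D` and centralising the cover of `C_K(a, b)` acts on `D` as `1` or `b` -/
theorem ufact (h : Dg t a K D T) {b : G} (hb : b ∈ T) (hne : a ≠ b) (hab : a * b = b * a)
    {A : Subgroup G} (hAD : A ≤ D) (hA : ∀ p ∈ K, p * a = a * p → p * b = b * p → ∃ α ∈ A, ph t α = p)
    {g : G} (hg : g ∈ normalizer (D : Set G)) (hgA : ∀ p ∈ A, g * p = p * g) {m : G} (hm : m ∈ D)
    (hmb : ph t m = b) : (∀ x ∈ D, g * x = x * g) ∨ ∀ x ∈ D, g * x * g⁻¹ = m * x * m⁻¹ := by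
  have h1 := (h.rig hb hne hab).rigid_cover h.comm_top h.ψ_surj h.ψ_ker (m := ⟨m, hm⟩) (by
    rw [ψ_apply]
    congr 1
    exact Subtype.ext hmb) (cjAut hg) (by
    rintro _ ⟨c, hc, hca, rfl⟩ hcb
    rw [h.comm_iff (d := ⟨b, h.b_J hb hab⟩) hc hb] at hcb
    obtain ⟨α, hα, hαc⟩ := hA c (mem_J.1 c.2).1 (mem_J.1 c.2).2 hcb
    refine ⟨⟨α, hAD hα⟩, ?_, ?_⟩
    · rw [ψ_apply]
      congr 1
      exact Subtype.ext hαc
    · apply Subtype.ext
      show g * α * g⁻¹ = α
      rw [hgA α hα]; group)
  rcases h1 with h1 | h1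
  · left
    intro x hx
    have h2 : g * x * g⁻¹ = x := congrArg Subtype.val (h1 ⟨x, hx⟩)
    exact mul_inv_eq_iff_eq_mul.1 h2
  · right
    intro x hx
    exact congrArg Subtype.val (h1 ⟨x, hx⟩)

theorem t_nmem (h : Dg t a K D T) {b : G} (hb : b ∈ T) (hne : a ≠ b) (hab : a * b = b * a) :
    t ∉ normalizer (D : Set G) := by
  intro htN
  have hti := h.tw.tinv
  have htD : ∀ x ∈ D, t * x * t ∈ D := by
    intro x hx
    have := (mem_normalizer_iff.1 htN x).1 hx
    rwa [hti] at this
  have hab' : ∀ x ∈ D, ∀ y ∈ D, x * y = y * x := by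
    intro x hx y hy
    have := h.tw.comm x hx _ (htD y hy)
    rwa [h.tw.sg_sg] at this
  obtain ⟨m, hm, hmb⟩ := h.surj b (h.kf.TK b hb) hab.symm
  have h1 : D = ⊥ := by
    rw [← h.perf, commutator_eq_bot_iff_le_centralizer]
    intro x hx
    rw [mem_centralizer_iff]
    intro y hy
    exact hab' y hy x hx
  rw [h1, mem_bot] at hm
  rw [hm, h.tw.ph_one] at hmb
  exact h.kf.one (hmb ▸ hb)

/-- `b` does not centralise `D` -/
theorem nc (h : Dg t a K D T) {b : G} (hb : b ∈ T) (hne : a ≠ b) (hab : a * b = b * a) :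
    ¬ ∀ m ∈ D, b * m = m * b := by
  intro hc
  have hbt := h.Kt b (h.kf.TK b hb)
  rcases h.kf.cenJ a h.aT b (h.kf.TK b hb) hab.symm (by
    intro j hj hja
    obtain ⟨m, hm, rfl⟩ := h.surj j hj hja
    have h1 := hc m hm
    have h2 : b * (t * m * t) = t * m * t * b := by
      calc b * (t * m * t) = (b * t) * m * t := by group
        _ = t * (b * m) * t := by rw [hbt]; group
        _ = t * m * (b * t) := by rw [h1]; group
        _ = t * m * t * b := by rw [hbt]; group
    unfold ph
    calc b * (m * (t * m * t)) = (b * m) * (t * m * t) := by group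
      _ = m * (b * (t * m * t)) := by rw [h1]; group
      _ = _ := by rw [h2]; group) with h1 | h1
  · exact h.kf.one (h1 ▸ hb)
  · exact hne h1.symm

theorem nct (h : Dg t a K D T) {b : G} (hb : b ∈ T) (hne : a ≠ b) (hab : a * b = b * a) :
    ¬ ∀ m ∈ D, b * (t * m * t) = t * m * t * b := by
  intro hc
  apply h.nc hb hne hab
  intro m hm
  have hbt := h.Kt b (h.kf.TK b hb)
  have h1 := hc m hm
  calc b * m = b * (t * (t * m * t) * t) := by rw [h.tw.sg_sg]
    _ = (b * t) * (t * m * t) * t := by group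
    _ = t * (b * (t * m * t)) * t := by rw [hbt]; group
    _ = t * (t * m * t) * (b * t) := by rw [h1]; group
    _ = t * (t * m * t) * t * b := by rw [hbt]; group
    _ = m * b := by rw [h.tw.sg_sg]

theorem exists_conj (h : Dg t a K D T) {b : G} (hb : b ∈ T) : ∃ k ∈ K, k * a * k⁻¹ = b := by
  obtain ⟨c, hc, hca, -, hca', -⟩ := h.kf.nbr a h.aT a h.aT
  obtain ⟨c', hc', hcb, -, hcb', -⟩ := h.kf.nbr b hb b hb
  obtain ⟨k, hk, h1, -⟩ := h.kf.trans a h.aT c hc b hb c' hc' hca.symm hcb.symm hca'.symm hcb'.symm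
  exact ⟨k, hk, h1⟩

end Dg

open Classical in
/-- the element `x_b` -/
noncomputable def xf (K : Subgroup G) (a x b : G) : G :=
  if h : ∃ k ∈ K, k * a * k⁻¹ = b then h.choose * x * h.choose⁻¹ else 1

/-- the swapped case with the element `x`, `x xᵗ = a` -/
structure Dx (t a x : G) (K D : Subgroup G) (T : Set G) : Prop extends Dg t a K D T where
  xD : x ∈ D
  xc : ∀ m ∈ D, x * m = m * x
  xa : ph t x = a

namespace Dx

variable {t a x : G} {K D : Subgroup G} {T : Set G}

theorem x_J (h : Dx t a x K D T) {j : G} (hj : j ∈ K) (hja : j * a = a * j) : x * j = j * x := by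
  obtain ⟨m, hm, rfl⟩ := h.surj j hj hja
  have h1 := h.xc m hm
  have h2 := h.tw.comm x h.xD m hm
  unfold ph
  calc x * (m * (t * m * t)) = (x * m) * (t * m * t) := by group
    _ = m * (x * (t * m * t)) := by rw [h1]; group
    _ = _ := by rw [h2]; group

theorem xf_eq (h : Dx t a x K D T) {k : G} (hk : k ∈ K) : xf K a x (k * a * k⁻¹) = k * x * k⁻¹ := by
  classical
  have hex : ∃ k' ∈ K, k' * a * k'⁻¹ = k * a * k⁻¹ := ⟨k, hk, rfl⟩
  unfold xf
  rw [dif_pos hex]
  obtain ⟨h1, h2⟩ := hex.choose_spec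
  set k' := hex.choose with hk'
  have hj : (k⁻¹ * k') * a = a * (k⁻¹ * k') := by
    calc (k⁻¹ * k') * a = k⁻¹ * (k' * a * k'⁻¹) * k' := by group
      _ = k⁻¹ * (k * a * k⁻¹) * k' := by rw [h2]
      _ = a * (k⁻¹ * k') := by group
  have h3 := h.x_J (mul_mem (inv_mem hk) h1) hj
  calc k' * x * k'⁻¹ = k * ((k⁻¹ * k') * x) * k'⁻¹ := by group
    _ = k * (x * (k⁻¹ * k')) * k'⁻¹ := by rw [h3]
    _ = k * x * k⁻¹ := by group

theorem xf_conj (h : Dx t a x K D T) {b k : G} (hb : b ∈ T) (hk : k ∈ K) :
    xf K a x (k * b * k⁻¹) = k * xf K a x b * k⁻¹ := by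
  obtain ⟨l, hl, rfl⟩ := h.exists_conj hb
  have e : k * (l * a * l⁻¹) * k⁻¹ = (k * l) * a * (k * l)⁻¹ := by group
  rw [e, h.xf_eq (mul_mem hk hl), h.xf_eq hl]
  group

theorem xf_ph (h : Dx t a x K D T) {b : G} (hb : b ∈ T) : xf K a x b * (t * xf K a x b * t) = b := by
  obtain ⟨k, hk, rfl⟩ := h.exists_conj hb
  rw [h.xf_eq hk]
  have hkt := h.Kt k hk
  have hkt' : k⁻¹ * t = t * k⁻¹ := (show Commute k t from hkt).inv_left
  calc k * x * k⁻¹ * (t * (k * x * k⁻¹) * t) = k * x * k⁻¹ * ((t * k) * x * (k⁻¹ * t)) := by group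
    _ = k * x * k⁻¹ * ((k * t) * x * (t * k⁻¹)) := by rw [hkt, hkt']
    _ = k * (x * (t * x * t)) * k⁻¹ := by group
    _ = k * a * k⁻¹ := by
        have := h.xa
        unfold ph at this
        rw [this]

theorem xf_comm (h : Dx t a x K D T) {b j : G} (hb : b ∈ T) (hj : j ∈ K) (hjb : j * b = b * j) :
    xf K a x b * j = j * xf K a x b := by
  have h1 := h.xf_conj hb hj
  rw [hjb, mul_inv_cancel_right] at h1
  exact (mul_inv_eq_iff_eq_mul.1 h1.symm).symm

theorem xf_tcomm (h : Dx t a x K D T) {b : G} (hb : b ∈ T) :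
    xf K a x b * (t * xf K a x b * t) = t * xf K a x b * t * xf K a x b := by
  obtain ⟨k, hk, rfl⟩ := h.exists_conj hb
  rw [h.xf_eq hk]
  have hkt := h.Kt k hk
  have hkt' : k⁻¹ * t = t * k⁻¹ := (show Commute k t from hkt).inv_left
  have e : t * (k * x * k⁻¹) * t = k * (t * x * t) * k⁻¹ := by
    calc t * (k * x * k⁻¹) * t = (t * k) * x * (k⁻¹ * t) := by group
      _ = (k * t) * x * (t * k⁻¹) := by rw [hkt, hkt']
      _ = _ := by group
  rw [e]
  have h1 := h.tw.comm x h.xD x h.xD
  calc k * x * k⁻¹ * (k * (t * x * t) * k⁻¹) = k * (x * (t * x * t)) * k⁻¹ := by group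
    _ = k * (t * x * t * x) * k⁻¹ := by rw [h1]
    _ = _ := by group

/-- an element normalising `D` and `Dᵗ` and commuting with the image of `p` commutes with `p` modulo `D ∩ Dᵗ` -/
theorem comm_cov (h : Dx t a x K D T) {A : Subgroup G} (hAD : A ≤ D) (hA : ⁅A, A⁆ = A) {g : G}
    (hg : g ∈ normalizer (D : Set G)) (hg' : t * g * t ∈ normalizer (D : Set G))
    (hgp : ∀ p ∈ A, g * ph t p = ph t p * g) : ∀ p ∈ A, g * p = p * g := by
  apply WreathLam.comm_of_perfect hA {w | w ∈ D ∧ t * w * t ∈ D}
  · intro p hp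
    have hpD := hAD hp
    have h1 : g * p * g⁻¹ ∈ D := (mem_normalizer_iff.1 hg p).1 hpD
    refine ⟨mul_mem h1 (inv_mem hpD), ?_⟩
    have h2 : (t * g * t) * p * (t * g * t)⁻¹ ∈ D := (mem_normalizer_iff.1 hg' p).1 hpD
    have h3 := hgp p hp
    have hti := h.tw.tinv
    -- `g p g⁻¹ (g p^t g⁻¹) = p p^t`
    have h4 : g * p * g⁻¹ * (g * (t * p * t) * g⁻¹) = p * (t * p * t) := by
      unfold ph at h3
      calc g * p * g⁻¹ * (g * (t * p * t) * g⁻¹) = (g * (p * (t * p * t))) * g⁻¹ := by group
        _ = p * (t * p * t) * g * g⁻¹ := by rw [h3]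
        _ = _ := by group
    have e1 : g * (t * p * t) * g⁻¹ = t * ((t * g * t) * p * (t * g * t)⁻¹) * t := by
      rw [mul_inv_rev, mul_inv_rev, hti]
      calc g * (t * p * t) * g⁻¹ = (t * t) * g * t * p * t * g⁻¹ * (t * t) := by rw [h.tw.tt]; group
        _ = _ := by group
    set q := (t * g * t) * p * (t * g * t)⁻¹ with hq
    rw [e1] at h4
    -- `g p g⁻¹ p⁻¹ = p^t (q^t)⁻¹`
    have h5 : g * p * g⁻¹ = p * (t * p * t) * (t * q * t)⁻¹ := eq_mul_inv_of_mul_eq h4
    have h6 := h.tw.comm p hpD (p * q⁻¹) (mul_mem hpD (inv_mem h2))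
    have h7 : (t * p * t) * (t * q * t)⁻¹ = t * (p * q⁻¹) * t := by
      rw [h.tw.sg_mul p q⁻¹, h.tw.sg_inv q]
    have h8 : g * p * g⁻¹ * p⁻¹ = t * (p * q⁻¹) * t := by
      rw [h5, mul_assoc p, h7, h6, mul_inv_cancel_right]
    rw [h8, h.tw.sg_sg]
    exact mul_mem hpD (inv_mem h2)
  · rintro w ⟨-, hw⟩ q hq
    have := h.tw.comm q (hAD hq) _ hw
    rw [h.tw.sg_sg] at this
    exact this.symm
  · rintro w ⟨-, hw⟩ v ⟨hv, -⟩
    have := h.tw.comm v hv _ hw
    rw [h.tw.sg_sg] at this
    exact this.symm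

/-- `x_b` permutes `D`, `Dᵗ` -/
theorem perm (h : Dx t a x K D T) {b : G} (hb : b ∈ T) (hne : a ≠ b) (hab : a * b = b * a) {g : G}
    (hga : g * a = a * g) (hgb : g * b = b * g) :
    (g ∈ normalizer (D : Set G) ∧ t * g * t ∈ normalizer (D : Set G)) ∨
      (t * g ∈ normalizer (D : Set G) ∧ g * t ∈ normalizer (D : Set G)) := by
  have hti := h.tw.tinv
  have hta := h.ta
  obtain ⟨m, hm, hmb⟩ := h.surj b (h.kf.TK b hb) hab.symm
  have hgta : (g * t) * a = a * (g * t) := by
    calc (g * t) * a = g * (t * a) := by group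
      _ = (g * a) * t := by rw [hta]; group
      _ = a * (g * t) := by rw [hga]; group
  -- `b = u v`
  set u := g * m * g⁻¹ with hu
  set v := (g * t) * m * (g * t)⁻¹ with hv
  have huv : b = u * v := by
    have h1 : g * b * g⁻¹ = b := by rw [hgb]; group
    rw [hu, hv, mul_inv_rev, hti]
    calc b = g * b * g⁻¹ := h1.symm
      _ = g * (m * (t * m * t)) * g⁻¹ := by
          rw [← hmb]; rfl
      _ = _ := by group
  have hcc : ∀ n : G, u * n = n * u → v * n = n * v → b * n = n * b := by
    intro n h1 h2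
    rw [huv]
    calc u * v * n = u * (v * n) := by group
      _ = (u * n) * v := by rw [h2]; group
      _ = n * (u * v) := by rw [h1]; group
  have hin : ∀ w ∈ D, ∀ n ∈ D, w * (t * n * t) = t * n * t * w := h.tw.comm
  have hin' : ∀ w : G, t * w * t ∈ D → ∀ n ∈ D, w * n = n * w := by
    intro w hw n hn
    have := h.tw.comm n hn _ hw
    rw [h.tw.sg_sg] at this
    exact this.symm
  -- membership facts
  have hA : ∀ c : G, c ∈ normalizer (D : Set G) → c * m * c⁻¹ ∈ D := fun c hc =>
    (mem_normalizer_iff.1 hc m).1 hm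
  have hB : ∀ c : G, t * c ∈ normalizer (D : Set G) → t * (c * m * c⁻¹) * t ∈ D := by
    intro c hc
    have h1 := (mem_normalizer_iff.1 hc m).1 hm
    rw [mul_inv_rev, hti] at h1
    have e : t * (c * m * c⁻¹) * t = t * c * m * (c⁻¹ * t) := by group
    rw [e]; exact h1
  rcases h.comps g hga with h1 | h1 | h1
  · rcases h.comps (g * t) hgta with h2 | h2 | h2
    · exfalso
      apply h.t_nmem hb hne hab
      have := mul_mem (inv_mem h1) h2
      rwa [inv_mul_cancel_left] at this
    · left
      refine ⟨h1, ?_⟩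
      rwa [← mul_assoc] at h2
    · exfalso
      apply h.nct hb hne hab
      intro n hn
      exact hcc _ (hin u (hA g h1) n hn) (h2 m hm n hn).2
  · rcases h.comps (g * t) hgta with h2 | h2 | h2
    · right
      exact ⟨h1, h2⟩
    · exfalso
      apply h.t_nmem hb hne hab
      have := mul_mem (inv_mem h1) h2
      have e : (t * g)⁻¹ * (t * (g * t)) = t := by group
      rwa [e] at this
    · exfalso
      apply h.nc hb hne hab
      intro n hn
      exact hcc _ (hin' u (hB g h1) n hn) (h2 m hm n hn).1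
  · rcases h.comps (g * t) hgta with h2 | h2 | h2
    · exfalso
      apply h.nct hb hne hab
      intro n hn
      exact hcc _ (h1 m hm n hn).2 (hin v (hA (g * t) h2) n hn)
    · exfalso
      apply h.nc hb hne hab
      intro n hn
      exact hcc _ (h1 m hm n hn).1 (hin' v (hB (g * t) h2) n hn)
    · exfalso
      apply h.nc hb hne hab
      intro n hn
      exact hcc _ (h1 m hm n hn).1 (h2 m hm n hn).1

/-- the structure of `x_b` in `C(a)` -/
theorem pair [Finite G] (h : Dx t a x K D T) {b : G} (hb : b ∈ T) (hne : a ≠ b)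
    (hab : a * b = b * a) : ∃ β : G, (∀ m ∈ D, β * m = m * β) ∧
    (∀ m ∈ D, β * (t * m * t) = t * m * t * β) ∧ β * (t * β * t) = 1 ∧
    ∃ m ∈ D, xf K a x b = m * β ∨ xf K a x b = t * m * t * β := by
  have hti := h.tw.tinv
  have hta := h.ta
  set g := xf K a x b with hg
  have hga : g * a = a * g := h.xf_comm hb h.aK hab
  have hgb : g * b = b * g := h.xf_comm hb (h.kf.TK b hb) rfl
  have hgg : g * (t * g * t) = b := h.xf_ph hb
  have hgc : g * (t * g * t) = t * g * t * g := h.xf_tcomm hb
  obtain ⟨m, hm, hmb⟩ := h.surj b (h.kf.TK b hb) hab.symm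
  have hbact : ∀ y ∈ D, b * y * b⁻¹ = m * y * m⁻¹ := by
    intro y hy
    have := h.tw.conj_eq hy hm
    rwa [hmb] at this
  -- the perfect cover of `C_K(a, b)`
  obtain ⟨A, hAD, hAp, hAP, hPA⟩ := h.tw.exists_cov (h.kf.perfP a h.aT b hb hne hab) (by
    rintro p ⟨⟨hp1, hp2⟩, -⟩
    exact h.surj p hp1 (mem_centralizer_singleton_iff.1 hp2))
  have hPA' : ∀ p ∈ K, p * a = a * p → p * b = b * p → ∃ α ∈ A, ph t α = p := by
    intro p h1 h2 h3
    exact hPA p ⟨⟨h1, mem_centralizer_singleton_iff.2 h2⟩, mem_centralizer_singleton_iff.2 h3⟩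
  have hgp : ∀ p ∈ A, g * ph t p = ph t p * g := by
    intro p hp
    obtain ⟨⟨h1, -⟩, h2⟩ := hAP p hp
    exact h.xf_comm hb h1 (mem_centralizer_singleton_iff.1 h2)
  -- if `m` is central modulo, contradiction
  have hmc : (∀ y ∈ D, m * (m * y * m⁻¹) * m⁻¹ = m * y * m⁻¹) → False := by
    intro h1
    apply h.nc hb hne hab
    intro y hy
    have h2 : m * y * m⁻¹ = y := by
      have h3 := h1 y hy
      have h4 := mul_left_cancel (mul_right_cancel h3)
      exact h4
    have h5 := hbact y hy
    rw [h2] at h5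
    exact mul_inv_eq_iff_eq_mul.1 h5
  rcases h.perm hb hne hab hga hgb with ⟨h1, h2⟩ | ⟨h1, h2⟩
  · have hgA := h.comm_cov hAD hAp h1 h2 hgp
    have hgA' : ∀ p ∈ A, t * g * t * p = p * (t * g * t) := by
      intro p hp
      have h3 := hgp p hp
      have h4 := hgA p hp
      unfold ph at h3
      have h5 : g * (t * p * t) = t * p * t * g := by
        have : p * (g * (t * p * t)) = p * (t * p * t * g) := by
          calc p * (g * (t * p * t)) = (p * g) * (t * p * t) := by group
            _ = (g * p) * (t * p * t) := by rw [h4]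
            _ = g * (p * (t * p * t)) := by group
            _ = p * (t * p * t) * g := h3
            _ = _ := by group
        exact mul_left_cancel this
      calc t * g * t * p = t * (g * (t * p * t)) * t := by
            rw [show t * (g * (t * p * t)) * t = t * g * t * p * (t * t) by group, h.tw.tt, mul_one]
        _ = t * (t * p * t * g) * t := by rw [h5]
        _ = (t * t) * p * (t * g * t) := by group
        _ = p * (t * g * t) := by rw [h.tw.tt, one_mul]
    rcases h.ufact hb hne hab hAD hPA' h1 hgA hm hmb with h3 | h3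
    · rcases h.ufact hb hne hab hAD hPA' h2 hgA' hm hmb with h4 | h4
      · exfalso
        apply h.nc hb hne hab
        intro y hy
        rw [← hgg]
        calc g * (t * g * t) * y = g * (t * g * t * y) := by group
          _ = (g * y) * (t * g * t) := by rw [h4 y hy]; group
          _ = y * (g * (t * g * t)) := by rw [h3 y hy]; group
      · -- `g` centralises `D`, `g^t` acts as `m`
        refine ⟨(t * m * t)⁻¹ * g, ?_, ?_, ?_, m, hm, Or.inr (by group)⟩
        · intro y hy
          have h5 : (t * m * t)⁻¹ * y = y * (t * m * t)⁻¹ :=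
            ((show Commute y (t * m * t) from h.tw.comm y hy m hm).inv_right).eq.symm
          calc (t * m * t)⁻¹ * g * y = (t * m * t)⁻¹ * (g * y) := by group
            _ = ((t * m * t)⁻¹ * y) * g := by rw [h3 y hy]; group
            _ = y * ((t * m * t)⁻¹ * g) := by rw [h5]; group
        · intro y hy
          have h5 := h4 y hy
          have h6 : g * (t * y * t) * g⁻¹ = t * (m * y * m⁻¹) * t := by
            rw [← h5, mul_inv_rev, mul_inv_rev, hti]
            calc g * (t * y * t) * g⁻¹ = (t * t) * g * t * y * t * g⁻¹ * (t * t) := by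
                  rw [h.tw.tt]; group
              _ = _ := by group
          have h7 : t * (m * y * m⁻¹) * t = (t * m * t) * (t * y * t) * (t * m * t)⁻¹ := by
            rw [h.tw.sg_mul, h.tw.sg_mul, h.tw.sg_inv]
          rw [h7] at h6
          have h8 : g * (t * y * t) = (t * m * t) * (t * y * t) * (t * m * t)⁻¹ * g :=
            mul_inv_eq_iff_eq_mul.1 h6
          calc (t * m * t)⁻¹ * g * (t * y * t) = (t * m * t)⁻¹ * (g * (t * y * t)) := by group
            _ = (t * m * t)⁻¹ * ((t * m * t) * (t * y * t) * (t * m * t)⁻¹ * g) := by rw [h8]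
            _ = _ := by group
        · have h5 : t * ((t * m * t)⁻¹ * g) * t = m⁻¹ * (t * g * t) := by
            rw [h.tw.sg_mul, h.tw.sg_inv, h.tw.sg_sg]
          rw [h5]
          have h6 : m * g = g * m := (h3 m hm).symm
          have h6' : g * m⁻¹ = m⁻¹ * g := ((show Commute m g from h6).inv_left).eq.symm
          have h7 : (t * m * t)⁻¹ * m⁻¹ = b⁻¹ := by
            rw [← mul_inv_rev, ← hmb]; rfl
          calc (t * m * t)⁻¹ * g * (m⁻¹ * (t * g * t)) = (t * m * t)⁻¹ * (g * m⁻¹) * (t * g * t) := by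
                group
            _ = (t * m * t)⁻¹ * m⁻¹ * (g * (t * g * t)) := by rw [h6']; group
            _ = 1 := by rw [h7, hgg, inv_mul_cancel]
    · rcases h.ufact hb hne hab hAD hPA' h2 hgA' hm hmb with h4 | h4
      · -- `g` acts as `m` on `D`, `g^t` centralises `D`
        refine ⟨m⁻¹ * g, ?_, ?_, ?_, m, hm, Or.inl (by group)⟩
        · intro y hy
          have h5 : g * y = m * y * m⁻¹ * g := mul_inv_eq_iff_eq_mul.1 (h3 y hy)
          calc m⁻¹ * g * y = m⁻¹ * (g * y) := by group
            _ = m⁻¹ * (m * y * m⁻¹ * g) := by rw [h5]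
            _ = _ := by group
        · intro y hy
          have h5 := h4 y hy
          have h6 : g * (t * y * t) = t * y * t * g := by
            calc g * (t * y * t) = (t * t) * g * t * y * t := by rw [h.tw.tt]; group
              _ = t * (t * g * t * y) * t := by group
              _ = t * (y * (t * g * t)) * t := by rw [h5]
              _ = t * y * t * g * (t * t) := by group
              _ = t * y * t * g := by rw [h.tw.tt, mul_one]
          have h7 : m⁻¹ * (t * y * t) = t * y * t * m⁻¹ :=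
            ((show Commute m (t * y * t) from h.tw.comm m hm y hy).inv_left).eq
          calc m⁻¹ * g * (t * y * t) = m⁻¹ * (g * (t * y * t)) := by group
            _ = (m⁻¹ * (t * y * t)) * g := by rw [h6]; group
            _ = t * y * t * (m⁻¹ * g) := by rw [h7]; group
        · have h5 : t * (m⁻¹ * g) * t = (t * m * t)⁻¹ * (t * g * t) := by
            rw [h.tw.sg_mul, h.tw.sg_inv]
          rw [h5]
          -- `g` commutes with `t m t`
          have h6 : t * m * t * g = g * (t * m * t) := by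
            have h7 := h4 m hm
            calc t * m * t * g = t * (m * (t * g * t)) * t := by
                  rw [show t * (m * (t * g * t)) * t = t * m * t * g * (t * t) by group, h.tw.tt,
                    mul_one]
              _ = t * (t * g * t * m) * t := by rw [h7]
              _ = (t * t) * g * (t * m * t) := by group
              _ = g * (t * m * t) := by rw [h.tw.tt, one_mul]
          have h6' : g * (t * m * t)⁻¹ = (t * m * t)⁻¹ * g :=
            ((show Commute (t * m * t) g from h6).inv_left).eq.symm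
          have h7 : m⁻¹ * (t * m * t)⁻¹ = b⁻¹ := by
            rw [← mul_inv_rev, ← hmb]
            unfold ph
            rw [h.tw.comm m hm m hm]
          calc m⁻¹ * g * ((t * m * t)⁻¹ * (t * g * t)) = m⁻¹ * (g * (t * m * t)⁻¹) * (t * g * t) := by
                group
            _ = m⁻¹ * (t * m * t)⁻¹ * (g * (t * g * t)) := by rw [h6']; group
            _ = 1 := by rw [h7, hgg, inv_mul_cancel]
      · exfalso
        apply hmc
        intro y hy
        have hy' : m * y * m⁻¹ ∈ D := mul_mem (mul_mem hm hy) (inv_mem hm)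
        calc m * (m * y * m⁻¹) * m⁻¹ = g * (m * y * m⁻¹) * g⁻¹ := (h3 _ hy').symm
          _ = g * (t * g * t * y * (t * g * t)⁻¹) * g⁻¹ := by rw [h4 y hy]
          _ = (g * (t * g * t)) * y * (g * (t * g * t))⁻¹ := by group
          _ = m * y * m⁻¹ := by rw [hgg, hbact y hy]
  · -- `t g` normalises `D`
    exfalso
    have hk2 : t * (t * g) * t ∈ normalizer (D : Set G) := by
      have e : t * (t * g) * t = g * t := by
        rw [show t * (t * g) * t = (t * t) * (g * t) by group, h.tw.tt, one_mul]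
      rw [e]; exact h2
    have hkp : ∀ p ∈ A, t * g * ph t p = ph t p * (t * g) := by
      intro p hp
      have h3 := h.tw.ph_t (hAD hp)
      calc t * g * ph t p = t * (g * ph t p) := by group
        _ = (t * ph t p) * g := by rw [hgp p hp]; group
        _ = ph t p * (t * g) := by rw [← h3]; group
    have hkA := h.comm_cov hAD hAp h1 hk2 hkp
    have hkk : (t * g) * (t * g) = b := by
      rw [← hgg, hgc]; group
    rcases h.ufact hb hne hab hAD hPA' h1 hkA hm hmb with h3 | h3
    · apply h.nc hb hne hab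
      intro y hy
      rw [← hkk]
      calc t * g * (t * g) * y = t * g * (t * g * y) := by group
        _ = t * g * (y * (t * g)) := by rw [h3 y hy]
        _ = (t * g * y) * (t * g) := by group
        _ = (y * (t * g)) * (t * g) := by rw [h3 y hy]
        _ = y * (t * g * (t * g)) := by group
    · apply hmc
      intro y hy
      have hy' : m * y * m⁻¹ ∈ D := mul_mem (mul_mem hm hy) (inv_mem hm)
      calc m * (m * y * m⁻¹) * m⁻¹ = t * g * (m * y * m⁻¹) * (t * g)⁻¹ := (h3 _ hy').symm
        _ = t * g * (t * g * y * (t * g)⁻¹) * (t * g)⁻¹ := by rw [h3 y hy]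
        _ = (t * g * (t * g)) * y * (t * g * (t * g))⁻¹ := by group
        _ = m * y * m⁻¹ := by rw [hkk, hbact y hy]

end Dx

end Cfsg.Agent.OddHalf.D8.Fi22
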