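import Cfsg.Agent.OddHalf.Front.OfSheet
import Cfsg.Agent.OddHalf.D8.PumpX
import Cfsg.Agent.OddHalf.D8.Fi22.Sheet22

/-!
# ODD half, D8, `K = Fi22`: the element `y` and the pump-up of `J = C_K(d)` (helper921)

`exists_y`: some `y ∈ C(d)` maps `t` to `t z`, `z = d d'`.
`pump22`: there is a component `D` of `C(d)` with `J < D = D^t`, or `D^t ≠ D` and `J = {m m^t : m ∈ D}`.
-/

set_option autoImplicit false

namespace Cfsg.Agent.OddHalf.D8.Fi22.EltY

open Subgroup Cfsg Cfsg.Agent.KFacts.FiTT Cfsg.Agent.OddHalf.D8.Sheet Cfsg.Agent.OddHalf.D8.GlueE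
open Cfsg.Agent.OddHalf.D3 Cfsg.Agent.SignalizersComponents

universe u

variable {G : Type u} [Group G] {K : Subgroup G} {t q x : G} {d d' : K} {R : Subgroup K}

/-- **the element `y`** -/
theorem exists_y (F : Facts K d d' R) (E : Emb K t q (d * d') (centralizer ({d, d'} : Set K)))
    (hxt : x * t * x⁻¹ = t * ((d * d' : K) : G))
    (hxz : x * ((d * d' : K) : G) * x⁻¹ = ((d * d' : K) : G)) :
    ∃ y : G, y * (d : G) * y⁻¹ = d ∧ y * t * y⁻¹ = t * ((d * d' : K) : G) := by
  set P : Subgroup K := centralizer ({d, d'} : Set K) with hP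
  have hdP : d ∈ P := Sheet22.mem_P.2 ⟨rfl, F.comm⟩
  have hswap := @Emb.conj_P_swap G _ K t q (d * d') P E x hxt hxz
  -- `x d x⁻¹`
  have h1 : x * (d : G) * x⁻¹ ∈ P.map K.subtype := (hswap (y := (d : G))).1 ⟨d, hdP, rfl⟩
  obtain ⟨hK, hPd⟩ := Emb.mem_map.1 h1
  have hcen : ∀ y : K, y * d = d * y → y * d' = d' * y →
      (⟨x * (d : G) * x⁻¹, hK⟩ : K) * y = y * ⟨x * (d : G) * x⁻¹, hK⟩ := by
    intro y hy hy'
    have hyP : (y : G) ∈ P.map K.subtype := ⟨y, Sheet22.mem_P.2 ⟨hy, hy'⟩, rfl⟩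
    have h2 : x⁻¹ * (y : G) * x ∈ P.map K.subtype := by
      apply (hswap (y := x⁻¹ * (y : G) * x)).2
      have : x * (x⁻¹ * (y : G) * x) * x⁻¹ = y := by group
      rwa [this]
    obtain ⟨w, hw, hwy⟩ := h2
    have h3 : (w : G) * d = d * w := congrArg Subtype.val (Sheet22.mem_P.1 hw).1
    have h4 : (w : G) = x⁻¹ * (y : G) * x := hwy
    rw [h4] at h3
    apply Subtype.ext
    show x * (d : G) * x⁻¹ * y = y * (x * (d : G) * x⁻¹)
    calc x * (d : G) * x⁻¹ * y = x * (d * (x⁻¹ * (y : G) * x)) * x⁻¹ := by group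
      _ = x * (x⁻¹ * (y : G) * x * d) * x⁻¹ := by rw [h3]
      _ = y * (x * (d : G) * x⁻¹) := by group
  have hcases := F.czP _ hcen
  have hinj : ∀ a b : G, x * a * x⁻¹ = x * b * x⁻¹ → a = b := fun a b h => mul_left_cancel (mul_right_cancel h)
  rcases hcases with h | h | h | h
  · exfalso
    apply F.d_ne
    have h2 : x * (d : G) * x⁻¹ = 1 := congrArg Subtype.val h
    apply Subtype.ext
    apply hinj
    rw [h2]; simp
  · exact ⟨x, congrArg Subtype.val h, hxt⟩
  · obtain ⟨p, hp, hp'⟩ := F.swap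
    refine ⟨p * x, ?_, ?_⟩
    · have h2 : x * (d : G) * x⁻¹ = d' := congrArg Subtype.val h
      calc (p : G) * x * (d : G) * ((p : G) * x)⁻¹ = p * (x * (d : G) * x⁻¹) * (p : G)⁻¹ := by group
        _ = ((p * d' * p⁻¹ : K) : G) := by rw [h2]; rfl
        _ = d := by rw [hp']
    · have hpt : (p : G) * t = t * p := E.st.Kt p p.2
      have hpz : p * (d * d') * p⁻¹ = d * d' := by
        calc p * (d * d') * p⁻¹ = (p * d * p⁻¹) * (p * d' * p⁻¹) := by group
          _ = d' * d := by rw [hp, hp']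
          _ = d * d' := F.comm.symm
      calc (p : G) * x * t * ((p : G) * x)⁻¹ = p * (x * t * x⁻¹) * (p : G)⁻¹ := by group
        _ = p * (t * ((d * d' : K) : G)) * (p : G)⁻¹ := by rw [hxt]
        _ = (p * t) * ((d * d' : K) : G) * (p : G)⁻¹ := by group
        _ = t * ((p * (d * d') * p⁻¹ : K) : G) := by rw [hpt]; simp only [coe_mul, coe_inv]; group
        _ = t * ((d * d' : K) : G) := by rw [hpz]
  · exfalso
    have h2 : x * (d : G) * x⁻¹ = ((d * d' : K) : G) := congrArg Subtype.val h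
    have h3 : (d : G) = ((d * d' : K) : G) := hinj _ _ (h2.trans hxz.symm)
    have h4 : d = d * d' := Subtype.ext h3
    apply F.d'_ne
    exact (mul_eq_left.1 h4.symm)

/-- `J = C_K(d)` as a subgroup of `G` -/
def J (d : K) : Subgroup G := (centralizer ({d} : Set K)).map K.subtype

theorem mem_J {g : G} : g ∈ J d ↔ g ∈ K ∧ g * d = d * g := by
  rw [J, Emb.mem_map]
  constructor
  · rintro ⟨h1, h2⟩
    exact ⟨h1, congrArg Subtype.val (mem_centralizer_singleton_iff.1 h2)⟩
  · rintro ⟨h1, h2⟩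
    exact ⟨h1, mem_centralizer_singleton_iff.2 (Subtype.ext h2)⟩

theorem quasi (F : Facts K d d' R) : IsQuasisimple (J d) :=
  Components.isQuasisimple_of_mulEquiv
    (equivMapOfInjective (centralizer ({d} : Set K)) K.subtype K.subtype_injective) F.quasi

theorem d_mem_J : (d : G) ∈ J d := mem_J.2 ⟨d.2, rfl⟩

theorem even (F : Facts K d d' R) [Finite G] : 2 ∣ Nat.card (J d) := by
  have h1 : orderOf (d : G) = 2 := orderOf_eq_prime (by rw [pow_two]; exact congrArg Subtype.val F.dd)
    fun h => F.d_ne (Subtype.ext h)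
  have h2 : orderOf (⟨(d : G), d_mem_J⟩ : J d) = 2 := by rw [Subgroup.orderOf_mk, h1]
  rw [← h2]
  exact orderOf_dvd_natCard _

/-- `C_K(J) = {1, d}` -/
theorem cen_J (F : Facts K d d' R) {g : G} (hg : g ∈ K) (h : ∀ y ∈ J d, g * y = y * g) : g = 1 ∨ g = d := by
  rcases F.cc ⟨g, hg⟩ (fun y hy => Subtype.ext (h y (mem_J.2 ⟨y.2, congrArg Subtype.val hy⟩))) with h1 | h1
  · exact Or.inl (congrArg Subtype.val h1)
  · exact Or.inr (congrArg Subtype.val h1)

/-- **the pump-up of `J`** -/
theorem pump22 [Finite G] (F : Facts K d d' R) (E : Emb K t q (d * d') (centralizer ({d, d'} : Set K)))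
    (hxt : x * t * x⁻¹ = t * ((d * d' : K) : G))
    (hxz : x * ((d * d' : K) : G) * x⁻¹ = ((d * d' : K) : G))
    (hO : centralizerPPrimeCore 2 (d : G) = ⊥) :
    ∃ D : Subgroup G, Comp (d : G) D ∧ ((J d < D ∧ cj t D = D) ∨
      (cj t D ≠ D ∧ (∀ m ∈ D, m * (t * m * t⁻¹) ∈ J d) ∧ ∀ l ∈ J d, ∃ m ∈ D, l = m * (t * m * t⁻¹))) := by
  have hJK : J d ≤ K := fun g hg => (mem_J.1 hg).1
  have hJd : J d ≤ centralizer ({(d : G)} : Set G) := fun g hg => mem_cs.2 (mem_J.1 hg).2
  have hJt : J d ≤ centralizer ({t} : Set G) := fun g hg => mem_cs.2 (E.st.Kt g (hJK hg))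
  have hsub : ((J d).subgroupOf (centralizer ({(d : G)} : Set G) ⊓ centralizer ({t} : Set G))).IsSubnormal := by
    apply Normal.isSubnormal
    refine ⟨fun n hn g => ?_⟩
    have hg := mem_inf.1 g.2
    have hgd := mem_cs.1 hg.1
    have hgt := mem_cs.1 hg.2
    obtain ⟨hnK, hnd⟩ := mem_J.1 (mem_subgroupOf.1 hn)
    refine mem_subgroupOf.2 (mem_J.2 ⟨?_, ?_⟩)
    · exact (mem_normalizer_iff.1 (E.st.nK g hgt) (n : G)).1 hnK
    · change (g : G) * (n : G) * (g : G)⁻¹ * d = d * ((g : G) * (n : G) * (g : G)⁻¹)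
      have hgd' : (g : G)⁻¹ * d = d * (g : G)⁻¹ := by
        calc (g : G)⁻¹ * d = (g : G)⁻¹ * (d * g) * (g : G)⁻¹ := by group
          _ = (g : G)⁻¹ * (g * d) * (g : G)⁻¹ := by rw [hgd]
          _ = d * (g : G)⁻¹ := by group
      calc (g : G) * (n : G) * (g : G)⁻¹ * d = (g : G) * (n : G) * ((g : G)⁻¹ * d) := by group
        _ = g * (n * d) * (g : G)⁻¹ := by rw [hgd']; group
        _ = (g * d) * n * (g : G)⁻¹ := by rw [hnd]; group
        _ = d * ((g : G) * (n : G) * (g : G)⁻¹) := by rw [hgd]; group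
  obtain ⟨D, hD, h⟩ := PumpX.pump hO E.st.tt (E.st.Kt d d.2) hJd hJt (quasi F) (even F) hsub
  rcases h with h | h | h
  · exfalso
    obtain ⟨y, hyd, hyt⟩ := exists_y F E hxt hxz
    have hyc : y * d = d * y := by
      calc y * (d : G) = (y * d * y⁻¹) * y := by group
        _ = d * y := by rw [hyd]
    have hyi : y⁻¹ * (d : G) * y = d := by
      rw [mul_assoc, ← hyc]; group
    rw [← h] at hD
    set z : G := ((d * d' : K) : G) with hz
    have hzJ : z ∈ J d := by
      refine mem_J.2 ⟨(d * d').2, ?_⟩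
      have h1 : d * d' * d = d * (d * d') := by rw [mul_assoc, ← F.comm]
      exact congrArg Subtype.val h1
    have hzz : z * z = 1 := congrArg Subtype.val (Sheet22.zz F)
    -- `z` and `t z` on the conjugate of `J`
    have hconj : ∀ g ∈ cj y (J d), g * (t * z) = t * z * g := by
      intro g hg
      rw [mem_cj] at hg
      have h1 : (y⁻¹ * g * y) * t = t * (y⁻¹ * g * y) := mem_cs.1 (hJt hg)
      rw [← hyt]
      calc g * (y * t * y⁻¹) = y * ((y⁻¹ * g * y) * t) * y⁻¹ := by group
        _ = y * (t * (y⁻¹ * g * y)) * y⁻¹ := by rw [h1]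
        _ = y * t * y⁻¹ * g := by group
    by_cases hne : cj y (J d) = J d
    · -- `z` centralises `J`
      have h1 : ∀ g ∈ J d, z * g = g * z := by
        intro g hg
        have h2 := hconj g (by rw [hne]; exact hg)
        have h3 : g * t = t * g := mem_cs.1 (hJt hg)
        have h4 : t * (z * g) = t * (g * z) := by
          calc t * (z * g) = t * z * g := by group
            _ = g * (t * z) := h2.symm
            _ = (g * t) * z := by group
            _ = t * (g * z) := by rw [h3]; group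
        exact mul_left_cancel h4
      rcases cen_J F (hJK hzJ) h1 with h2 | h2
      · exact Sheet22.z_ne F (Subtype.ext h2)
      · apply F.d'_ne
        have h3 : d * d' = d := Subtype.ext h2
        exact mul_eq_left.1 h3
    · have hD' : Comp (d : G) (cj y (J d)) := hD.conj_of_comm hyc
      have hcomm := hD'.comm hD hne
      -- `J^y ≤ C(t)`
      have ht : ∀ g ∈ cj y (J d), g * t = t * g := by
        intro g hg
        have h2 := hconj g hg
        have h3 : g * z = z * g := comm_elt hcomm hg hzJ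
        have h4 : g * t * z = t * g * z := by
          calc g * t * z = g * (t * z) := by group
            _ = t * (z * g) := by rw [h2]; group
            _ = t * g * z := by rw [← h3]; group
        exact mul_right_cancel h4
      have hle : cj y (J d) ≤ K := by
        obtain ⟨n, hn⟩ := E.sol
        have h5 := TR.dser_mono n (show cj y (J d) ≤ centralizer ({t} : Set G) from
          fun g hg => mem_cs.2 (ht g hg))
        rw [TR.dser_of_perfect n hD'.perfect] at h5
        exact h5.trans hn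
      apply not_comm_self hD'.quasi
      intro a ha
      rw [mem_centralizer_iff]
      intro b hb
      have h6 := fun (g : G) (hg : g ∈ cj y (J d)) => cen_J F (hle hg) fun w hw => comm_elt hcomm hg hw
      rcases h6 a ha with h7 | h7 <;> rcases h6 b hb with h8 | h8 <;> rw [h7, h8] <;> simp
  · exact ⟨D, hD, Or.inl h⟩
  · exact ⟨D, hD, Or.inr h⟩

end Cfsg.Agent.OddHalf.D8.Fi22.EltY
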