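import Mathlib

/-!
# ODD half, D8, `K = Fi₂₂`: the rigidity lemma (helper956)

`P` a class of 3-transpositions of a group `L`, `b ∈ P`. An automorphism of `L` that fixes every member of `P`
commuting with `b` is `1` or conjugation by `b`.
-/

set_option autoImplicit false

namespace Cfsg.Agent.OddHalf.D8.Fi22

open Subgroup
open scoped commutatorElement

/-- the geometric facts -/
structure Rig {L : Type*} [Group L] (P : Set L) (b : L) : Prop where
  sq : ∀ x ∈ P, x * x = 1
  bP : b ∈ P
  conj : ∀ k : L, ∀ x ∈ P, k * x * k⁻¹ ∈ P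
  one : ∀ x ∈ P, ∃ k : L, k * b * k⁻¹ = x
  three : ∀ x ∈ P, ∀ y ∈ P, x * y = y * x ∨ x * y * x = y * x * y
  gen : closure P = ⊤
  opp : ∀ c ∈ P, ∀ c' ∈ P, c * b ≠ b * c → c' * b ≠ b * c' →
    (∀ d ∈ P, d * b = b * d → (d * c = c * d ↔ d * c' = c' * d)) → c' = c ∨ c' = b * c * b
  conn : ∀ S : Set L, S.Nonempty → (∀ c ∈ S, c ∈ P ∧ c * b ≠ b * c) →
    (∀ c ∈ S, ∀ c' ∈ P, c' * b ≠ b * c' → c * c' = c' * c → c' ∈ S) → ∀ c ∈ P, c * b ≠ b * c → c ∈ S

namespace Rig

variable {L : Type*} [Group L] {P : Set L} {b : L}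

theorem hom_mem (h : Rig P b) {τ : L →* L} (hb : τ b = b) {x : L} (hx : x ∈ P) : τ x ∈ P := by
  obtain ⟨k, rfl⟩ := h.one x hx
  rw [map_mul, map_mul, map_inv, hb]
  exact h.conj _ b h.bP

/-- an element commuting with `c` and `b c b` commutes with `b` -/
theorem comm_of_two (h : Rig P b) {c e : L} (hc : c ∈ P) (hcb : c * b ≠ b * c)
    (h1 : e * c = c * e) (h2 : e * (b * c * b) = b * c * b * e) : e * b = b * e := by
  have h3 : c * b * c = b * c * b := (h.three c hc b h.bP).resolve_left hcb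
  have h4 : b = c * (b * c * b) * c := by
    rw [← h3]
    calc b = (c * c) * b * (c * c) := by rw [h.sq c hc]; group
      _ = c * (c * b * c) * c := by group
  have h5 : Commute e (c * (b * c * b) * c) :=
    ((show Commute e c from h1).mul_right (show Commute e (b * c * b) from h2)).mul_right h1
  rw [← h4] at h5
  exact h5

theorem conj_bcb (h : Rig P b) (c : L) : b * (b * c * b) * b = c := by
  calc b * (b * c * b) * b = (b * b) * c * (b * b) := by group
    _ = c := by rw [h.sq b h.bP]; group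

/-- the case where some opposite point is fixed -/
theorem fix_all (h : Rig P b) {τ : L →* L} (hinj : Function.Injective τ)
    (hfix : ∀ c ∈ P, c * b = b * c → τ c = c) {c0 : L} (hc0 : c0 ∈ P) (hcb : c0 * b ≠ b * c0)
    (h0 : τ c0 = c0) : ∀ x : L, τ x = x := by
  have hb : τ b = b := hfix b h.bP rfl
  have hcomm : ∀ x y : L, τ x * τ y = τ y * τ x ↔ x * y = y * x := by
    intro x y
    rw [← map_mul, ← map_mul]
    exact hinj.eq_iff
  have hop : ∀ c ∈ P, c * b ≠ b * c → τ c = c ∨ τ c = b * c * b := by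
    intro c hc hcb
    apply h.opp c hc (τ c) (h.hom_mem hb hc) hcb
    · intro h1
      apply hcb
      rw [← hcomm, hb]
      exact h1
    · intro d hd hdb
      have hd1 := hfix d hd hdb
      rw [← hcomm d c, hd1]
  have hS := h.conn {c | c ∈ P ∧ c * b ≠ b * c ∧ τ c = c} ⟨c0, hc0, hcb, h0⟩
    (fun c hc => ⟨hc.1, hc.2.1⟩) (by
      rintro c ⟨hc, hcb, hτ⟩ c' hc' hcb' hcc
      refine ⟨hc', hcb', ?_⟩
      rcases hop c' hc' hcb' with h1 | h1
      · exact h1
      · exfalso
        apply hcb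
        apply h.comm_of_two hc' hcb' hcc
        rw [← h1, ← hτ, hcomm]
        exact hcc)
  have hP : ∀ c ∈ P, τ c = c := by
    intro c hc
    by_cases hcb : c * b = b * c
    · exact hfix c hc hcb
    · exact (hS c hc hcb).2.2
  intro x
  have hx : x ∈ closure P := by rw [h.gen]; exact mem_top x
  induction hx using closure_induction with
  | mem x hx => exact hP x hx
  | one => exact map_one τ
  | mul x y _ _ h1 h2 => rw [map_mul, h1, h2]
  | inv x _ h1 => rw [map_inv, h1]

/-- **The rigidity lemma** -/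
theorem rigid (h : Rig P b) {τ : L →* L} (hinj : Function.Injective τ)
    (hfix : ∀ c ∈ P, c * b = b * c → τ c = c) :
    (∀ x : L, τ x = x) ∨ ∀ x : L, τ x = b * x * b⁻¹ := by
  have hb : τ b = b := hfix b h.bP rfl
  have hb' : b⁻¹ = b := inv_eq_of_mul_eq_one_right (h.sq b h.bP)
  by_cases hex : ∃ c ∈ P, c * b ≠ b * c
  · obtain ⟨c0, hc0, hcb⟩ := hex
    have hcomm : ∀ x y : L, τ x * τ y = τ y * τ x ↔ x * y = y * x := by
      intro x y
      rw [← map_mul, ← map_mul]
      exact hinj.eq_iff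
    have hop : τ c0 = c0 ∨ τ c0 = b * c0 * b := by
      apply h.opp c0 hc0 (τ c0) (h.hom_mem hb hc0) hcb
      · intro h1
        apply hcb
        rw [← hcomm, hb]
        exact h1
      · intro d hd hdb
        have hd1 := hfix d hd hdb
        rw [← hcomm d c0, hd1]
    rcases hop with h1 | h1
    · left
      exact h.fix_all hinj hfix hc0 hcb h1
    · right
      have hinj' : Function.Injective ((MulAut.conj b).toMonoidHom.comp τ) :=
        (MulAut.conj b).injective.comp hinj
      have h2 := h.fix_all (τ := (MulAut.conj b).toMonoidHom.comp τ) hinj' (by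
        intro c hc hcb
        show b * τ c * b⁻¹ = c
        rw [hfix c hc hcb, ← hcb]; group) hc0 hcb (by
        show b * τ c0 * b⁻¹ = c0
        rw [h1, hb']
        exact h.conj_bcb c0)
      intro x
      have h3 : b * τ x * b⁻¹ = x := h2 x
      calc τ x = (b * b) * τ x * (b * b) := by rw [h.sq b h.bP]; group
        _ = b * (b * τ x * b⁻¹) * b⁻¹ := by rw [hb']; group
        _ = b * x * b⁻¹ := by rw [h3]
  · left
    push Not at hex
    intro x
    have hx : x ∈ closure P := by rw [h.gen]; exact mem_top x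
    induction hx using closure_induction with
    | mem x hx => exact hfix x hx (hex x hx)
    | one => exact map_one τ
    | mul x y _ _ h1 h2 => rw [map_mul, h1, h2]
    | inv x _ h1 => rw [map_inv, h1]

/-- an endomorphism of a perfect group which is trivial modulo the centre is trivial -/
theorem eq_of_central {D : Type*} [Group D] (hperf : commutator D = ⊤) {f g : D →* D}
    (h : ∀ x : D, f x * (g x)⁻¹ ∈ center D) : ∀ x : D, f x = g x := by
  have hle : commutator D ≤ f.eqLocus g := by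
    rw [commutator_def, commutator_le]
    intro x _ y _
    show f ⁅x, y⁆ = g ⁅x, y⁆
    have hx := mem_center_iff.1 (h x)
    have hy := mem_center_iff.1 (h y)
    obtain ⟨a, ha⟩ : ∃ a, a = f x * (g x)⁻¹ := ⟨_, rfl⟩
    obtain ⟨c, hc⟩ : ∃ c, c = f y * (g y)⁻¹ := ⟨_, rfl⟩
    rw [← ha] at hx
    rw [← hc] at hy
    have hfx : f x = a * g x := by rw [ha]; group
    have hfy : f y = c * g y := by rw [hc]; group
    rw [map_commutatorElement, map_commutatorElement, commutatorElement_def, commutatorElement_def,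
      hfx, hfy]
    have e1 : (a * g x)⁻¹ = (g x)⁻¹ * a⁻¹ := by group
    have e2 : (c * g y)⁻¹ = (g y)⁻¹ * c⁻¹ := by group
    have ca : ∀ w : D, Commute a w := fun w => (hx w).symm
    have cc : ∀ w : D, Commute c w := fun w => (hy w).symm
    calc a * g x * (c * g y) * (a * g x)⁻¹ * (c * g y)⁻¹
        = a * (g x * c) * (g y * (g x)⁻¹) * a⁻¹ * ((g y)⁻¹ * c⁻¹) := by rw [e1, e2]; group
      _ = a * (c * g x) * (g y * (g x)⁻¹) * a⁻¹ * (c⁻¹ * (g y)⁻¹) := by
          rw [(cc (g x)).eq, ((cc (g y)⁻¹).inv_left).eq]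
      _ = a * (c * g x * (g y * (g x)⁻¹) * a⁻¹) * (c⁻¹ * (g y)⁻¹) := by group
      _ = a * (a⁻¹ * (c * g x * (g y * (g x)⁻¹))) * (c⁻¹ * (g y)⁻¹) := by
          rw [((ca (c * g x * (g y * (g x)⁻¹))).inv_left).eq]
      _ = c * (g x * g y * (g x)⁻¹ * c⁻¹) * (g y)⁻¹ := by group
      _ = c * (c⁻¹ * (g x * g y * (g x)⁻¹)) * (g y)⁻¹ := by
          rw [((cc (g x * g y * (g x)⁻¹)).inv_left).eq]
      _ = g x * g y * (g x)⁻¹ * (g y)⁻¹ := by group
  intro x
  have hx : x ∈ commutator D := by rw [hperf]; exact mem_top x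
  exact hle hx

/-- the rigidity lemma for a perfect central extension -/
theorem rigid_cover (h : Rig P b) {D : Type*} [Group D] (hperf : commutator D = ⊤) {ψ : D →* L}
    (hψ : Function.Surjective ψ) (hker : ψ.ker = center D) {m : D} (hm : ψ m = b) (τ : D ≃* D)
    (hfix : ∀ c ∈ P, c * b = b * c → ∃ x : D, ψ x = c ∧ τ x = x) :
    (∀ x : D, τ x = x) ∨ ∀ x : D, τ x = m * x * m⁻¹ := by
  have hcen : ∀ x : D, x ∈ center D ↔ τ x ∈ center D := by
    intro x
    constructor
    · intro hx
      rw [mem_center_iff] at hx ⊢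
      intro g
      have := congrArg τ (hx (τ.symm g))
      rwa [map_mul, map_mul, τ.apply_symm_apply] at this
    · intro hx
      rw [mem_center_iff] at hx ⊢
      intro g
      apply τ.injective
      rw [map_mul, map_mul]
      exact hx (τ g)
  have hle : ψ.ker ≤ (ψ.comp τ.toMonoidHom).ker := by
    intro x hx
    rw [hker] at hx
    have h1 : τ x ∈ ψ.ker := by rw [hker]; exact (hcen x).1 hx
    exact h1
  let σ : L →* L := MonoidHom.liftOfSurjective ψ hψ ⟨ψ.comp τ.toMonoidHom, hle⟩
  have hσ : ∀ x : D, σ (ψ x) = ψ (τ x) := fun x =>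
    MonoidHom.liftOfRightInverse_comp_apply ψ _ _ ⟨ψ.comp τ.toMonoidHom, hle⟩ x
  have hinj : Function.Injective σ := by
    rw [injective_iff_map_eq_one]
    intro y hy
    obtain ⟨x, rfl⟩ := hψ y
    rw [hσ] at hy
    have h1 : τ x ∈ ψ.ker := hy
    rw [hker, ← hcen, ← hker] at h1
    exact h1
  have hf : ∀ c ∈ P, c * b = b * c → σ c = c := by
    intro c hc hcb
    obtain ⟨x, rfl, hx⟩ := hfix c hc hcb
    rw [hσ, hx]
  rcases h.rigid hinj hf with h1 | h1
  · left
    apply eq_of_central hperf (f := τ.toMonoidHom) (g := MonoidHom.id D)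
    intro x
    rw [← hker, MonoidHom.mem_ker, map_mul, map_inv]
    show ψ (τ x) * (ψ x)⁻¹ = 1
    rw [← hσ, h1, mul_inv_cancel]
  · right
    apply eq_of_central hperf (f := τ.toMonoidHom) (g := (MulAut.conj m).toMonoidHom)
    intro x
    rw [← hker, MonoidHom.mem_ker, map_mul, map_inv]
    show ψ (τ x) * (ψ (m * x * m⁻¹))⁻¹ = 1
    rw [← hσ, h1, map_mul, map_mul, map_inv, hm, mul_inv_cancel]

end Rig

end Cfsg.Agent.OddHalf.D8.Fi22
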