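import Cfsg.Agent.OddHalf.D8.Fi22.KTrans
import Cfsg.Agent.OddHalf.D8.Fi22.Geo
import Cfsg.Agent.OddHalf.D8.Fi22.Rigid
import Cfsg.Agent.KFacts.FiTT.AllPairs

/-!
# ODD half, D8, `K = Fi22`: `Geo T` (helper368)

`geo e : Geo (e.symm '' Fi22Facts.T)`, and (cJ): an automorphism of `K` centralising `C_K(a)` is `1` or
conjugation by `a`.
-/

set_option autoImplicit false

namespace Cfsg.Agent.OddHalf.D8.Fi22

open Cfsg Cfsg.Agent.R01 Subgroup

universe v

variable {K : Type v} [Group K]

theorem pair_eq (a b : K) : centralizer ({a} : Set K) ⊓ centralizer ({b} : Set K) =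
    centralizer ({a, b} : Set K) := by
  ext x
  rw [mem_inf, mem_centralizer_singleton_iff, mem_centralizer_singleton_iff, mem_centralizer_iff]
  constructor
  · rintro ⟨h1, h2⟩ y hy
    rcases hy with rfl | rfl
    · exact h1.symm
    · exact h2.symm
  · intro h
    exact ⟨(h a (Or.inl rfl)).symm, (h b (Or.inr rfl)).symm⟩

/-- **The facts consumed in the swapped case.** -/
theorem geo (e : K ≃* Spor.Fi22) : Geo (e.symm '' Fi22Facts.T) := by
  have h := kTrans e
  have hF : ∀ a ∈ e.symm '' Fi22Facts.T, ∀ b ∈ e.symm '' Fi22Facts.T, a ≠ b → a * b = b * a →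
      ∃ R : Subgroup K, KFacts.FiTT.Facts K a b R := fun a ha b hb =>
    KFacts.FiTT.facts_of_iso e ha hb
  refine
    { sq := h.sq, one := fun h1 => h.ne1 1 h1 rfl, conj := h.conj, three := h.three, gen := h.gen,
      trans := h.trans2, nbr := h.nb, genJ := ?_, cenJ := ?_, perfP := ?_, opp := ?_, conn := ?_ }
  · intro a ha k hk
    rw [h.cent a ha]
    exact mem_centralizer_singleton_iff.2 hk
  · intro a ha g hga hj
    obtain ⟨b, hb, n1, -, h1, -⟩ := h.nb a ha a ha
    obtain ⟨R, hR⟩ := hF a ha b hb n1.symm h1.symm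
    exact hR.cc g hj
  · intro a ha b hb n c
    obtain ⟨R, hR⟩ := hF a ha b hb n c
    have h1 := hR.perfect
    rw [pair_eq]
    have h2 := congrArg (Subgroup.map (centralizer ({a, b} : Set K)).subtype) h1
    rw [commutator_def, map_commutator, ← MonoidHom.range_eq_map, range_subtype] at h2
    exact h2
  · intro a ha b hb n c c1 hc1 c2 hc2 h1 h2 h3 h4 h5
    exact h.same a ha b hb c1 hc1 c2 hc2 c.symm h1 h2 h3 h4 fun d hd k1 k2 k3 => (h5 d hd k1 k2).1 k3
  · intro a ha b hb n c S hne hS hcl x hx h1 h2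
    obtain ⟨y, hy⟩ := hne
    obtain ⟨k1, k2, k3⟩ := hS y hy
    exact h.conn a ha b hb c.symm S (fun u hu v hv m1 m2 m3 => hcl u hu v hv m1 m2 m3) y k1 x hx k2 h1 k3
      h2 hy

/-- the whole class is rigid at each of its members -/
theorem KTrans.rig {T : Set K} (h : KTrans K T) {b : K} (hb : b ∈ T) : Rig T b where
  sq := h.sq
  bP := hb
  conj := h.conj
  one _ hx := h.trans b hb _ hx
  three := h.three
  gen := h.gen
  opp c hc c' hc' n n' hd := h.sameK b hb c hc c' hc' n n' fun d h1 h2 h3 => (hd d h1 h2).1 h3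
  conn := by
    intro S hne hS hcl x hx h1
    obtain ⟨y, hy⟩ := hne
    exact h.connK b hb S (fun u hu v hv m1 m2 => hcl u hu v hv m1 m2) y (hS y hy).1 x hx (hS y hy).2 h1 hy

/-- **(cJ)** an automorphism of `K` fixing the transpositions which commute with `a` is `1` or conjugation by `a` -/
theorem KTrans.cJ {T : Set K} (h : KTrans K T) {a : K} (ha : a ∈ T) (α : MulAut K)
    (hα : ∀ c ∈ T, c * a = a * c → α c = c) : α = 1 ∨ α = MulAut.conj a := by
  rcases (h.rig ha).rigid (τ := α.toMonoidHom) α.injective hα with h1 | h1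
  · left
    ext x
    exact h1 x
  · right
    ext x
    exact h1 x

end Cfsg.Agent.OddHalf.D8.Fi22
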