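import Mathlib

/-!
# ODD half, D8, `K = Fi22`: the facts on the transpositions (helper368)

`KTrans K T`: the raw facts (k1)-(k9), (T1s), (Out) of helper956's list for a group `K ≅ Fi22` with its class
`T` of 3-transpositions. `KTrans.lean` proves `kTrans : (e : K ≃* Spor.Fi22) → KTrans K (e.symm '' T)`.
-/

set_option autoImplicit false

namespace Cfsg.Agent.OddHalf.D8.Fi22

/-- The facts on the transpositions of `Fi22`. -/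
structure KTrans (K : Type*) [Group K] (T : Set K) : Prop where
  /-- (k1) -/
  sq : ∀ x ∈ T, x * x = 1
  ne1 : ∀ x ∈ T, x ≠ 1
  conj : ∀ g : K, ∀ x ∈ T, g * x * g⁻¹ ∈ T
  three : ∀ x ∈ T, ∀ y ∈ T, x * y = y * x ∨ x * y * x = y * x * y
  gen : Subgroup.closure T = ⊤
  aut : ∀ α : K ≃* K, ∀ x ∈ T, α x ∈ T
  trans : ∀ x ∈ T, ∀ y ∈ T, ∃ g : K, g * x * g⁻¹ = y
  /-- (k2) -/
  trans2 : ∀ a ∈ T, ∀ b ∈ T, ∀ a' ∈ T, ∀ b' ∈ T, a ≠ b → a' ≠ b' → a * b = b * a →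
    a' * b' = b' * a' → ∃ g : K, g * a * g⁻¹ = a' ∧ g * b * g⁻¹ = b'
  transN : ∀ a ∈ T, ∀ b ∈ T, ∀ a' ∈ T, ∀ b' ∈ T, a * b ≠ b * a → a' * b' ≠ b' * a' →
    ∃ g : K, g * a * g⁻¹ = a' ∧ g * b * g⁻¹ = b'
  trans3 : ∀ a ∈ T, ∀ b ∈ T, ∀ d ∈ T, ∀ a' ∈ T, ∀ b' ∈ T, ∀ d' ∈ T, a ≠ b → a ≠ d → b ≠ d →
    a' ≠ b' → a' ≠ d' → b' ≠ d' → a * b = b * a → a * d = d * a → b * d = d * b →
    a' * b' = b' * a' → a' * d' = d' * a' → b' * d' = d' * b' →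
    ∃ g : K, g * a * g⁻¹ = a' ∧ g * b * g⁻¹ = b' ∧ g * d * g⁻¹ = d'
  nonempty : ∃ x, x ∈ T
  /-- there are two different commuting transpositions -/
  pair : ∃ a ∈ T, ∃ b ∈ T, a ≠ b ∧ a * b = b * a
  /-- (k3) -/
  nb : ∀ x ∈ T, ∀ y ∈ T, ∃ c ∈ T, c ≠ x ∧ c ≠ y ∧ c * x = x * c ∧ c * y = y * c
  /-- (k4) -/
  uniq : ∀ x ∈ T, ∀ y ∈ T, ∀ u ∈ T, ∀ v ∈ T, x ≠ y → x * y = y * x → u * v = v * u → x * y = u * v →
    u = x ∨ u = y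
  /-- (k5), generation -/
  cent : ∀ a ∈ T, Subgroup.closure {x : K | x ∈ T ∧ x * a = a * x} = Subgroup.centralizer ({a} : Set K)
  cent' : ∀ a ∈ T, Subgroup.closure {x : K | x ∈ T ∧ x * a = a * x ∧ x ≠ a} =
    Subgroup.centralizer ({a} : Set K)
  /-- (k7) -/
  same : ∀ a ∈ T, ∀ b ∈ T, ∀ c ∈ T, ∀ c' ∈ T, b * a = a * b → c * a = a * c → c' * a = a * c' →
    c * b ≠ b * c → c' * b ≠ b * c' →
    (∀ d ∈ T, d * a = a * d → d * b = b * d → d * c = c * d → d * c' = c' * d) →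
    c' = c ∨ c' = b * c * b
  /-- (k8) -/
  conn : ∀ a ∈ T, ∀ b ∈ T, b * a = a * b → ∀ S : Set K,
    (∀ c ∈ S, ∀ d ∈ T, d * a = a * d → d * b ≠ b * d → c * d = d * c → d ∈ S) →
    ∀ c ∈ T, ∀ c' ∈ T, c * a = a * c → c' * a = a * c' → c * b ≠ b * c → c' * b ≠ b * c' →
    c ∈ S → c' ∈ S
  /-- (k9) -/
  sameK : ∀ b ∈ T, ∀ c ∈ T, ∀ c' ∈ T, c * b ≠ b * c → c' * b ≠ b * c' →
    (∀ d ∈ T, d * b = b * d → d * c = c * d → d * c' = c' * d) → c' = c ∨ c' = b * c * b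
  connK : ∀ b ∈ T, ∀ S : Set K,
    (∀ c ∈ S, ∀ d ∈ T, d * b ≠ b * d → c * d = d * c → d ∈ S) →
    ∀ c ∈ T, ∀ c' ∈ T, c * b ≠ b * c → c' * b ≠ b * c' → c ∈ S → c' ∈ S
  /-- every involution is a product of at most three commuting transpositions -/
  inv : ∀ f : K, f * f = 1 → f = 1 ∨ f ∈ T ∨ (∃ a ∈ T, ∃ b ∈ T, a ≠ b ∧ a * b = b * a ∧ f = a * b) ∨
    ∃ a ∈ T, ∃ b ∈ T, ∃ c ∈ T, a ≠ b ∧ a ≠ c ∧ b ≠ c ∧ a * b = b * a ∧ a * c = c * a ∧ b * c = c * b ∧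
      f = a * b * c
  /-- (T1s): an automorphism centralising a Sylow 2-subgroup is inner -/
  t1s : ∀ (S : Sylow 2 K) (α : MulAut K), (∀ x ∈ S, α x = x) → ∃ k : K, α = MulAut.conj k
  /-- (Out): `|Out(K)| ≤ 2` -/
  out : ∀ α β : MulAut K, (∀ x : K, α ≠ MulAut.conj x) → (∀ x : K, β ≠ MulAut.conj x) →
    ∃ x : K, α * β = MulAut.conj x
  /-- `|K|_2 = 2 ^ 17` -/
  card : Nat.card K = 64561751654400

end Cfsg.Agent.OddHalf.D8.Fi22
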