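import Cfsg.Agent.OddHalf.D8.Fi22.KDefs
import Cfsg.Agent.OddHalf.D8.Fi22.Opp
import Cfsg.Agent.OddHalf.D8.Fi22.SylAut
import Cfsg.Agent.StdFi22.MainFi22Aux

/-!
# ODD half, D8, `K = Fi22`: proof of the facts on the transpositions (helper368)
-/

set_option autoImplicit false

namespace Cfsg.Agent.OddHalf.D8.Fi22

open Cfsg Cfsg.Agent.R01 Cfsg.Agent.R01.FiFusion Cfsg.Agent.R01.FiFacts Cfsg.Agent.StdFi22

theorem transN : Opp.TransN R08.AutT.T := by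
  intro a ha b hb a' ha' b' hb' h h'
  exact Fi22Facts.trans_noncommuting a ha b hb a' ha' b' hb' (fun h1 => h h1) (fun h1 => h' h1)

/-- The facts for `Spor.Fi22` itself. -/
theorem kTrans0 : KTrans Spor.Fi22 Fi22Facts.T where
  sq _ hx := MainFi22.bas.sq hx
  ne1 _ hx := MainFi22.bas.ne_one hx
  conj g _ hx := MainFi22.bas.conjT g hx
  three _ hx _ hy := MainFi22.bas.three hx hy
  gen := Fi22Facts.isThreeTranspositionClass_T.2.2
  aut α _ hx := R08.AutT.aut_mem α hx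
  trans := R08.AutT.tFacts.trans
  trans2 := by
    intro a ha b hb a' ha' b' hb' n n' h h'
    exact KeyFi22.trans_pairs R08.AutT.tFacts.conj Fi22Facts.loc R08.AutT.tFacts.trans a ha b hb a' ha'
      b' hb' n n' h h'
  transN := transN
  trans3 := KeyFi22.trans_triples R08.AutT.tFacts.conj Fi22Facts.loc R08.AutT.tFacts.trans
  nonempty := ⟨_, Fi22Facts.gen_mem .a⟩
  pair := by
    obtain ⟨b, c, h⟩ := MainFi22.bas.exists_tri (Fi22Facts.gen_mem .a)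
    exact ⟨_, h.mx, _, h.my, h.xy, h.cxy⟩
  nb _ hx _ hy := Opp.common_nb MainFi22.bas transN hx hy
  uniq x hx y hy u hu v hv n c c' h := MainFi22.bas.uniq hx hy hu hv n c c' h
  cent _ ha := Opp.closure_cent MainFi22.bas ha
  cent' _ ha := Opp.closure_link MainFi22.bas ha
  same _ ha _ hb _ hc _ hc' ba ca ca' cb cb' h := Opp.same_nb MainFi22.bas ha hb hc hc' ba ca ca' cb cb' h
  conn _ ha _ hb ba S hS _ hc _ hc' ca ca' cb cb' hcS :=
    Opp.connected MainFi22.bas ha hb ba S hS hcS hc hc' ca ca' cb cb'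
  sameK _ hb _ hc _ hc' cb cb' h := Opp.same_nb_top MainFi22.bas transN hb hc hc' cb cb' h
  connK _ hb S hS _ hc _ hc' cb cb' hcS :=
    Opp.connected_top MainFi22.bas transN hb S hS hcS hc hc' cb cb'
  inv := by
    intro f hf
    rcases R08.AutT.tFacts.inv f hf (R08.AutT.hfix f hf) with h | h | h | ⟨a, b, c, h, e⟩
    · exact Or.inl h
    · exact Or.inr (Or.inl h)
    · exact Or.inr (Or.inr (Or.inl h))
    · exact Or.inr (Or.inr (Or.inr ⟨a, h.mx, b, h.my, c, h.mw, h.xy, h.xw, h.yw, h.cxy, h.cxw, h.cyw, e⟩))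
  t1s S α h := SylAut.inner_of_sylow S α h
  out := Table.OutFi22.mul_outer
  card := Fi22Facts.card

section transport

variable {K : Type*} [Group K] {K' : Type*} [Group K'] {T : Set K}

/-- The facts are invariant under isomorphisms. -/
theorem KTrans.map (h : KTrans K T) (e : K ≃* K') : KTrans K' (e '' T) := by
  have inj : ∀ {x y : K}, e x = e y ↔ x = y := e.injective.eq_iff
  have cm : ∀ {x y : K}, e x * e y = e y * e x ↔ x * y = y * x := by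
    intro x y
    rw [← map_mul, ← map_mul, inj]
  have mem : ∀ {x : K}, e x ∈ e '' T ↔ x ∈ T := e.injective.mem_set_image
  have cj : ∀ g x : K, e g * e x * (e g)⁻¹ = e (g * x * g⁻¹) := by
    intro g x
    rw [map_mul, map_mul, map_inv]
  have set1 : ∀ a : K, {x : K' | x ∈ e '' T ∧ x * e a = e a * x} =
      e '' {x : K | x ∈ T ∧ x * a = a * x} := by
    intro a
    ext x
    constructor
    · rintro ⟨⟨y, hy, rfl⟩, h1⟩
      exact ⟨y, ⟨hy, cm.1 h1⟩, rfl⟩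
    · rintro ⟨y, ⟨hy, h1⟩, rfl⟩
      exact ⟨⟨y, hy, rfl⟩, cm.2 h1⟩
  have set2 : ∀ a : K, {x : K' | x ∈ e '' T ∧ x * e a = e a * x ∧ x ≠ e a} =
      e '' {x : K | x ∈ T ∧ x * a = a * x ∧ x ≠ a} := by
    intro a
    ext x
    constructor
    · rintro ⟨⟨y, hy, rfl⟩, h1, h2⟩
      exact ⟨y, ⟨hy, cm.1 h1, fun h3 => h2 (by rw [h3])⟩, rfl⟩
    · rintro ⟨y, ⟨hy, h1, h2⟩, rfl⟩
      exact ⟨⟨y, hy, rfl⟩, cm.2 h1, fun h3 => h2 (inj.1 h3)⟩
  have cen : ∀ a : K, (Subgroup.centralizer ({a} : Set K)).map e.toMonoidHom =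
      Subgroup.centralizer ({e a} : Set K') := by
    intro a
    ext x
    constructor
    · rintro ⟨y, hy, rfl⟩
      have h1 : y * a = a * y := Subgroup.mem_centralizer_singleton_iff.1 hy
      exact Subgroup.mem_centralizer_singleton_iff.2 (cm.2 h1)
    · intro hx
      obtain ⟨y, rfl⟩ := e.surjective x
      exact ⟨y, Subgroup.mem_centralizer_singleton_iff.2
        (cm.1 (Subgroup.mem_centralizer_singleton_iff.1 hx)), rfl⟩
  -- conjugation of automorphisms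
  have cg : ∀ x : K, MulAut.congr e (MulAut.conj x) = MulAut.conj (e x) := by
    intro x
    ext y
    show e (x * e.symm y * x⁻¹) = e x * y * (e x)⁻¹
    rw [map_mul, map_mul, map_inv, e.apply_symm_apply]
  have cg' : ∀ α : MulAut K', ∃ β : MulAut K, MulAut.congr e β = α := fun α =>
    (MulAut.congr e).surjective α
  have out1 : ∀ β : MulAut K, (∀ x : K', MulAut.congr e β ≠ MulAut.conj x) →
      ∀ x : K, β ≠ MulAut.conj x := by
    intro β hβ x hx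
    exact hβ (e x) (by rw [hx, cg])
  constructor
  case sq =>
    rintro _ ⟨x, hx, rfl⟩
    rw [← map_mul, h.sq x hx, map_one]
  case ne1 =>
    rintro _ ⟨x, hx, rfl⟩ h1
    exact h.ne1 x hx (e.injective (by rw [h1, map_one]))
  case conj =>
    rintro g _ ⟨x, hx, rfl⟩
    obtain ⟨g, rfl⟩ := e.surjective g
    rw [cj, mem]
    exact h.conj g x hx
  case three =>
    rintro _ ⟨x, hx, rfl⟩ _ ⟨y, hy, rfl⟩
    rcases h.three x hx y hy with h1 | h1
    · exact Or.inl (cm.2 h1)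
    · right
      rw [← map_mul, ← map_mul, ← map_mul, ← map_mul, h1]
  case gen =>
    have h1 := congrArg (Subgroup.map e.toMonoidHom) h.gen
    rw [MonoidHom.map_closure, ← MonoidHom.range_eq_map, MonoidHom.range_eq_top.2 e.surjective] at h1
    exact h1
  case aut =>
    rintro α _ ⟨x, hx, rfl⟩
    have h1 := h.aut ((e.trans α).trans e.symm) x hx
    have h2 : ((e.trans α).trans e.symm) x = e.symm (α (e x)) := rfl
    rw [h2] at h1
    exact ⟨_, h1, e.apply_symm_apply _⟩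
  case trans =>
    rintro _ ⟨x, hx, rfl⟩ _ ⟨y, hy, rfl⟩
    obtain ⟨g, hg⟩ := h.trans x hx y hy
    exact ⟨e g, by rw [cj, hg]⟩
  case trans2 =>
    rintro _ ⟨a, ha, rfl⟩ _ ⟨b, hb, rfl⟩ _ ⟨a', ha', rfl⟩ _ ⟨b', hb', rfl⟩ n n' c c'
    obtain ⟨g, h1, h2⟩ := h.trans2 a ha b hb a' ha' b' hb' (fun h => n (by rw [h]))
      (fun h => n' (by rw [h])) (cm.1 c) (cm.1 c')
    exact ⟨e g, by rw [cj, h1], by rw [cj, h2]⟩
  case transN =>
    rintro _ ⟨a, ha, rfl⟩ _ ⟨b, hb, rfl⟩ _ ⟨a', ha', rfl⟩ _ ⟨b', hb', rfl⟩ c c'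
    obtain ⟨g, h1, h2⟩ := h.transN a ha b hb a' ha' b' hb' (fun h => c (cm.2 h)) (fun h => c' (cm.2 h))
    exact ⟨e g, by rw [cj, h1], by rw [cj, h2]⟩
  case trans3 =>
    rintro _ ⟨a, ha, rfl⟩ _ ⟨b, hb, rfl⟩ _ ⟨d, hd, rfl⟩ _ ⟨a', ha', rfl⟩ _ ⟨b', hb', rfl⟩ _
      ⟨d', hd', rfl⟩ n1 n2 n3 n4 n5 n6 c1 c2 c3 c4 c5 c6
    obtain ⟨g, h1, h2, h3⟩ := h.trans3 a ha b hb d hd a' ha' b' hb' d' hd' (fun h => n1 (by rw [h]))
      (fun h => n2 (by rw [h])) (fun h => n3 (by rw [h])) (fun h => n4 (by rw [h]))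
      (fun h => n5 (by rw [h])) (fun h => n6 (by rw [h])) (cm.1 c1) (cm.1 c2) (cm.1 c3) (cm.1 c4)
      (cm.1 c5) (cm.1 c6)
    exact ⟨e g, by rw [cj, h1], by rw [cj, h2], by rw [cj, h3]⟩
  case nonempty =>
    obtain ⟨x, hx⟩ := h.nonempty
    exact ⟨e x, x, hx, rfl⟩
  case pair =>
    obtain ⟨a, ha, b, hb, n, c⟩ := h.pair
    exact ⟨e a, ⟨a, ha, rfl⟩, e b, ⟨b, hb, rfl⟩, fun h => n (inj.1 h), cm.2 c⟩
  case nb =>
    rintro _ ⟨x, hx, rfl⟩ _ ⟨y, hy, rfl⟩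
    obtain ⟨c, hc, n1, n2, h1, h2⟩ := h.nb x hx y hy
    exact ⟨e c, ⟨c, hc, rfl⟩, fun h => n1 (inj.1 h), fun h => n2 (inj.1 h), cm.2 h1, cm.2 h2⟩
  case uniq =>
    rintro _ ⟨x, hx, rfl⟩ _ ⟨y, hy, rfl⟩ _ ⟨u, hu, rfl⟩ _ ⟨v, hv, rfl⟩ n c c' h1
    rw [← map_mul, ← map_mul, inj] at h1
    rcases h.uniq x hx y hy u hu v hv (fun h => n (by rw [h])) (cm.1 c) (cm.1 c') h1 with h2 | h2
    · exact Or.inl (by rw [h2])
    · exact Or.inr (by rw [h2])
  case cent =>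
    rintro _ ⟨a, ha, rfl⟩
    rw [set1, ← cen, ← h.cent a ha, MonoidHom.map_closure]
    rfl
  case cent' =>
    rintro _ ⟨a, ha, rfl⟩
    rw [set2, ← cen, ← h.cent' a ha, MonoidHom.map_closure]
    rfl
  case same =>
    rintro _ ⟨a, ha, rfl⟩ _ ⟨b, hb, rfl⟩ _ ⟨c, hc, rfl⟩ _ ⟨c', hc', rfl⟩ ba ca ca' cb cb' hd
    have := h.same a ha b hb c hc c' hc' (cm.1 ba) (cm.1 ca) (cm.1 ca') (fun h => cb (cm.2 h))
      (fun h => cb' (cm.2 h)) (fun d hd' h1 h2 h3 =>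
        cm.1 (hd (e d) ⟨d, hd', rfl⟩ (cm.2 h1) (cm.2 h2) (cm.2 h3)))
    rcases this with h1 | h1
    · exact Or.inl (by rw [h1])
    · exact Or.inr (by rw [h1, map_mul, map_mul])
  case conn =>
    rintro _ ⟨a, ha, rfl⟩ _ ⟨b, hb, rfl⟩ ba S hS _ ⟨c, hc, rfl⟩ _ ⟨c', hc', rfl⟩ ca ca' cb cb' hcS
    exact h.conn a ha b hb (cm.1 ba) (e ⁻¹' S) (fun x hx d hd h1 h2 h3 =>
      hS (e x) hx (e d) ⟨d, hd, rfl⟩ (cm.2 h1) (fun h => h2 (cm.1 h)) (cm.2 h3)) c hc c' hc' (cm.1 ca)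
      (cm.1 ca') (fun h => cb (cm.2 h)) (fun h => cb' (cm.2 h)) hcS
  case sameK =>
    rintro _ ⟨b, hb, rfl⟩ _ ⟨c, hc, rfl⟩ _ ⟨c', hc', rfl⟩ cb cb' hd
    have := h.sameK b hb c hc c' hc' (fun h => cb (cm.2 h))
      (fun h => cb' (cm.2 h)) (fun d hd' h2 h3 =>
        cm.1 (hd (e d) ⟨d, hd', rfl⟩ (cm.2 h2) (cm.2 h3)))
    rcases this with h1 | h1
    · exact Or.inl (by rw [h1])
    · exact Or.inr (by rw [h1, map_mul, map_mul])
  case connK =>
    rintro _ ⟨b, hb, rfl⟩ S hS _ ⟨c, hc, rfl⟩ _ ⟨c', hc', rfl⟩ cb cb' hcS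
    exact h.connK b hb (e ⁻¹' S) (fun x hx d hd h2 h3 =>
      hS (e x) hx (e d) ⟨d, hd, rfl⟩ (fun h => h2 (cm.1 h)) (cm.2 h3)) c hc c' hc'
      (fun h => cb (cm.2 h)) (fun h => cb' (cm.2 h)) hcS
  case inv =>
    intro f hf
    obtain ⟨f, rfl⟩ := e.surjective f
    have hf' : f * f = 1 := e.injective (by rw [map_mul, hf, map_one])
    rcases h.inv f hf' with h1 | h1 | ⟨a, ha, b, hb, n, c, rfl⟩ |
      ⟨a, ha, b, hb, c, hc, n1, n2, n3, c1, c2, c3, rfl⟩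
    · exact Or.inl (by rw [h1, map_one])
    · exact Or.inr (Or.inl (mem.2 h1))
    · exact Or.inr (Or.inr (Or.inl ⟨e a, mem.2 ha, e b, mem.2 hb, fun h => n (inj.1 h), cm.2 c,
        map_mul _ _ _⟩))
    · exact Or.inr (Or.inr (Or.inr ⟨e a, mem.2 ha, e b, mem.2 hb, e c, mem.2 hc, fun h => n1 (inj.1 h),
        fun h => n2 (inj.1 h), fun h => n3 (inj.1 h), cm.2 c1, cm.2 c2, cm.2 c3, by
          rw [map_mul, map_mul]⟩))
  case t1s =>
    intro S α hα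
    obtain ⟨β, rfl⟩ := cg' α
    obtain ⟨k, hk⟩ := h.t1s (S.comapOfInjective e.toMonoidHom e.injective (by
      intro x _
      exact ⟨e.symm x, e.apply_symm_apply x⟩)) β (by
      intro x hx
      have h1 : e x ∈ S := hx
      have h2 : e (β (e.symm (e x))) = e x := hα _ h1
      rw [e.symm_apply_apply] at h2
      exact e.injective h2)
    exact ⟨e k, by rw [hk, cg]⟩
  case out =>
    intro α β hα hβ
    obtain ⟨α, rfl⟩ := cg' α
    obtain ⟨β, rfl⟩ := cg' β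
    obtain ⟨x, hx⟩ := h.out α β (out1 α hα) (out1 β hβ)
    exact ⟨e x, by rw [← map_mul, hx, cg]⟩
  case card =>
    rw [← Nat.card_congr e.toEquiv]
    exact h.card

end transport

/-- **The facts on the transpositions of a group isomorphic to `Fi22`.** -/
theorem kTrans {K : Type*} [Group K] (e : K ≃* Spor.Fi22) : KTrans K (e.symm '' Fi22Facts.T) :=
  kTrans0.map e.symm

theorem exists_kTrans {K : Type*} [Group K] (h : Spor.IsoFi22 K) : ∃ T : Set K, KTrans K T := by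
  obtain ⟨e⟩ := h
  exact ⟨_, kTrans e⟩

end Cfsg.Agent.OddHalf.D8.Fi22
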