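import Cfsg.Agent.OddHalf.Front.OfSheet
import Cfsg.Agent.OddHalf.D8.Fi22.OutIdx
import Cfsg.Agent.OddHalf.D8.WreathOut

/-!
# ODD half, D8, `K = Fi22`: the end of the swapped case (helper921)

From the wreath configuration `Wr t K E`, `|Out K| ≤ 2` and `|K|₂ = 2^17`: a homomorphism `G → {±1}` mapping `t`
to `-1`.
-/

set_option autoImplicit false

namespace Cfsg.Agent.OddHalf.D8.Fi22.Kill

open Subgroup Cfsg.Agent.OddHalf.Front.FE Cfsg.Agent.OddHalf.D8.GlueE
open Cfsg.Agent.OddHalf.D8.Wreath Cfsg.Agent.OddHalf.D8.WreathOut Cfsg.Agent.StdEven.Syl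

universe u

variable {G : Type u} [Group G] {K : Subgroup G} {t q : G}

/-- the product of two elements of `C(t)` inducing outer automorphisms of `K` lies in `QK` -/
theorem mul_mem_QK (st : Start K t q) (hm : OutIdx.MulOuter K) {a b : G} (ha : a * t = t * a)
    (hb : b * t = t * b) (haM : a ∉ zpowers q ⊔ K) (hbM : b ∉ zpowers q ⊔ K) :
    a * b ∈ zpowers q ⊔ K := by
  have hab : a * b * t = t * (a * b) := by
    calc a * b * t = a * (b * t) := by group
      _ = (a * t) * b := by rw [hb]; group
      _ = t * (a * b) := by rw [ha]; group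
  have hout : ∀ g : G, ∀ hg : g * t = t * g, g ∉ zpowers q ⊔ K →
      ∀ x : K, K.normalizerMonoidHom ⟨g, st.nK g hg⟩ ≠ MulAut.conj x := by
    intro g hg hgM x hx
    exact hgM (Front.OfSheet.mem_of_inn st hg ⟨x, hx.symm⟩)
  obtain ⟨x, hx⟩ := hm _ _ (hout a ha haM) (hout b hb hbM)
  apply Front.OfSheet.mem_of_inn st hab
  refine ⟨x, ?_⟩
  rw [← hx, ← map_mul]
  rfl

theorem mem_QK (st : Start K t q) (Q2 : ∀ y ∈ zpowers q, y = 1 ∨ y = t) {y : G} :
    y ∈ zpowers q ⊔ K ↔ y ∈ K ∨ t * y ∈ K := by
  constructor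
  · intro hy
    obtain ⟨a, ha, k, hk, rfl⟩ := (Front.Cyclic.mem_M st.toStart0).1 hy
    rcases Q2 a ha with rfl | rfl
    · left; rwa [one_mul]
    · right
      rwa [← mul_assoc, st.tt, one_mul]
  · rintro (h | h)
    · exact (le_sup_right : K ≤ zpowers q ⊔ K) h
    · have h1 : y = t * (t * y) := by rw [← mul_assoc, st.tt, one_mul]
      rw [h1]
      exact mul_mem ((le_sup_left : zpowers q ≤ zpowers q ⊔ K) st.tQ)
        ((le_sup_right : K ≤ zpowers q ⊔ K) h)

theorem tK (st : Start K t q) : t ∉ K := fun h1 => st.t1 (st.cen t h1 fun y hy => st.Kt y hy)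

theorem card_of_index_two {H L : Subgroup G} (hle : H ≤ L) (a : G) (ha : a ∈ L)
    (h : ∀ b ∈ L, Xor (b * a ∈ H) (b ∈ H)) : Nat.card L = Nat.card H * 2 := by
  have h1 : (H.subgroupOf L).index = 2 := by
    rw [index_eq_two_iff]
    exact ⟨⟨a, ha⟩, fun b => h b b.2⟩
  rw [← card_mul_index (H.subgroupOf L), h1, Nat.card_congr (subgroupOfEquivOfLe hle).toEquiv]

/-- `|C(t)| = 4 |K|` if there is an outer part -/
theorem card_C (st : Start K t q) (Q2 : ∀ y ∈ zpowers q, y = 1 ∨ y = t) (hm : OutIdx.MulOuter K)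
    {s : G} (hs : s * t = t * s) (hsM : s ∉ zpowers q ⊔ K) :
    Nat.card (centralizer ({t} : Set G)) = Nat.card K * 2 * 2 := by
  have hMC : zpowers q ⊔ K ≤ centralizer ({t} : Set G) :=
    sup_le (fun y hy => mem_centralizer_singleton_iff.2 (st.Qt y hy))
      (fun y hy => mem_centralizer_singleton_iff.2 (st.Kt y hy))
  have hsi : s⁻¹ * t = t * s⁻¹ := by
    calc s⁻¹ * t = s⁻¹ * (t * s) * s⁻¹ := by group
      _ = s⁻¹ * (s * t) * s⁻¹ := by rw [hs]
      _ = t * s⁻¹ := by group
  have hsiM : s⁻¹ ∉ zpowers q ⊔ K := fun h => hsM (by simpa using inv_mem h)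
  rw [card_of_index_two hMC s (mem_centralizer_singleton_iff.2 hs)]
  · congr 1
    refine card_of_index_two le_sup_right t ((le_sup_left : zpowers q ≤ _) st.tQ) ?_
    intro b hb
    have hbt : b * t = t * b := mem_centralizer_singleton_iff.1 (hMC hb)
    rcases (mem_QK st Q2).1 hb with h | h
    · right
      refine ⟨h, fun h2 => tK st ?_⟩
      have := mul_mem (inv_mem h) h2
      rwa [inv_mul_cancel_left] at this
    · left
      rw [← hbt] at h
      refine ⟨h, fun h2 => tK st ?_⟩
      have := mul_mem (inv_mem h2) h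
      rwa [inv_mul_cancel_left] at this
  · intro b hb
    have hbt := mem_centralizer_singleton_iff.1 hb
    by_cases hbM : b ∈ zpowers q ⊔ K
    · right
      refine ⟨hbM, fun h2 => hsM ?_⟩
      have := mul_mem (inv_mem hbM) h2
      rwa [inv_mul_cancel_left] at this
    · left
      exact ⟨mul_mem_QK st hm hbt hs hbM hsM, hbM⟩

/-- **the end** -/
theorem exists_hom [Finite G] (st : Start K t q) (Q2 : ∀ y ∈ zpowers q, y = 1 ∨ y = t) {z : G}
    {T : Subgroup G} (fr : TR.Frame t z T) (hm : OutIdx.MulOuter K)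
    (hcard : Nat.card K = 64561751654400) {E : Subgroup G} (wr : Wr t K E)
    (nor : ∀ c, c * t = t * c → c ∈ normalizer (E : Set G) ∨ t * c ∈ normalizer (E : Set G))
    (inv : ∃ k ∈ K, k ≠ 1 ∧ k * k = 1) : ∃ f : G →* ℤˣ, f t = -1 := by
  by_cases hout : ∀ g : G, g * t = t * g → g ∈ zpowers q ⊔ K
  · exact wr.exists_hom fun g hg => (mem_QK st Q2).1 (hout g hg)
  push Not at hout
  obtain ⟨s, hs, hsM⟩ := hout
  have hC := card_C st Q2 hm hs hsM
  have hti : t⁻¹ = t := inv_eq_of_mul_eq_one_right st.tt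
  have htN : t ∉ normalizer (E : Set G) := by
    intro h1
    apply wr.t_nmem_E
    intro u hu
    have := (mem_normalizer_iff.1 h1 u).1 hu
    rwa [hti] at this
  have hKN : K ≤ normalizer (E : Set G) := by
    intro k hk
    rcases nor k (st.Kt k hk) with h | h
    · exact h
    · -- `K` is perfect; but it is enough: `K ≤ E E^t`
      obtain ⟨u, hu, v, hv, rfl⟩ := wr.K_le hk
      refine mul_mem (le_normalizer hu) ?_
      rw [mem_normalizer_iff]
      intro w
      have key : ∀ w ∈ E, t * v * t * w * (t * v * t)⁻¹ = w := by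
        intro w hw
        rw [← wr.comm w hw v hv, mul_inv_cancel_right]
      have key' : ∀ w ∈ E, (t * v * t)⁻¹ * w * (t * v * t) = w := by
        intro w hw
        rw [mul_assoc, wr.comm w hw v hv, inv_mul_cancel_left]
      constructor
      · intro hw
        rw [key w hw]; exact hw
      · intro hw
        have h2 := key' _ hw
        have e : (t * v * t)⁻¹ * (t * v * t * w * (t * v * t)⁻¹) * (t * v * t) = w := by group
        rw [e] at h2
        rw [h2]; exact hw
  have hsyl : IsSyl T (centralizer ({t} : Set G)) :=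
    { le := fun x hx => mem_centralizer_singleton_iff.2 (fr.tc x hx)
      two := fr.pT
      max := fun X hX hXC hTX => le_antisymm
        (fr.max X hX hTX fun x hx => mem_centralizer_singleton_iff.1 (hXC hx)) hTX }
  apply Outer.exists_hom (K := K) (E := E)
  refine
    { wr := wr
      nor := nor
      two := ?_
      inv := inv
      om := ?_
      par := ?_ }
  · intro a b ha hb haN hbN haK hbK
    have hnot : ∀ c : G, c ∈ normalizer (E : Set G) → c ∉ K → c ∉ zpowers q ⊔ K := by
      intro c hcN hcK hc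
      rcases (mem_QK st Q2).1 hc with h | h
      · exact hcK h
      · apply htN
        have := mul_mem (hKN h) (inv_mem hcN)
        rwa [mul_inv_cancel_right] at this
    by_contra hab
    exact hnot (a * b) (mul_mem haN hbN) hab
      (mul_mem_QK st hm ha hb (hnot a haN haK) (hnot b hbN hbK))
  · intro T' hT' e he f hf hee hff hec hfc he1 het hf1 hft
    obtain ⟨g, hg, hgT⟩ := hsyl.exists_conj hT'.two hT'.le
    have hgt : g * t = t * g := mem_centralizer_singleton_iff.1 hg
    have hgt' : g⁻¹ * t * g = t := by rw [mul_assoc, ← hgt]; group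
    have hN : g ∈ normalizer ((centralizer ({t} : Set G) : Subgroup G) : Set G) := le_normalizer hg
    have h1 := hT'.conj hN
    have h2 : T = T'.map (MulAut.conj g).toMonoidHom := h1.max T fr.pT hsyl.le (by
      rintro _ ⟨x, hx, rfl⟩
      exact hgT x hx)
    have hback : ∀ x ∈ T, g⁻¹ * x * g ∈ T' := by
      intro x hx
      rw [h2] at hx
      obtain ⟨y, hy, rfl⟩ := hx
      have : g⁻¹ * (MulAut.conj g).toMonoidHom y * g = y := by
        show g⁻¹ * (g * y * g⁻¹) * g = y
        group
      rw [this]; exact hy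
    have key : ∀ c ∈ T', c * c = 1 → (∀ x ∈ T', x * c = c * x) → c ≠ 1 → c ≠ t →
        g * c * g⁻¹ = z ∨ g * c * g⁻¹ = t * z := by
      intro c hc hcc hcx hc1 hct
      rcases fr.om (g * c * g⁻¹) (hgT c hc) (by
        intro x hx
        have h3 := hcx _ (hback x hx)
        calc x * (g * c * g⁻¹) = g * ((g⁻¹ * x * g) * c) * g⁻¹ := by group
          _ = g * (c * (g⁻¹ * x * g)) * g⁻¹ := by rw [h3]
          _ = g * c * g⁻¹ * x := by group) (by
        calc g * c * g⁻¹ * (g * c * g⁻¹) = g * (c * c) * g⁻¹ := by group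
          _ = 1 := by rw [hcc]; group) with h3 | h3 | h3 | h3
      · exact (TR.Frame.conj_ne_one hc1 h3).elim
      · exfalso
        apply hct
        rw [← hgt', ← h3]; group
      · exact Or.inl h3
      · exact Or.inr h3
    have hti2 : ∀ a b : G, g * a * g⁻¹ = t * (g * b * g⁻¹) → a = t * b := by
      intro a b h
      calc a = g⁻¹ * (g * a * g⁻¹) * g := by group
        _ = g⁻¹ * (t * (g * b * g⁻¹)) * g := by rw [h]
        _ = (g⁻¹ * t * g) * b := by group
        _ = t * b := by rw [hgt']
    rcases key e he hee hec he1 het with h3 | h3 <;> rcases key f hf hff hfc hf1 hft with h4 | h4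
    · left; exact TR.Frame.conj_inj (h3.trans h4.symm)
    · right
      apply hti2
      rw [h3, h4, ← mul_assoc, st.tt, one_mul]
    · right
      apply hti2
      rw [h3, h4]
    · left; exact TR.Frame.conj_inj (h3.trans h4.symm)
  · intro T' hT' b hb
    have hc1 : Nat.card T' = Nat.card hT'.toSylow := by
      rw [show Nat.card hT'.toSylow = Nat.card (T'.subgroupOf (centralizer ({t} : Set G))) by
        rw [← hT'.coe_toSylow]]
      exact (Nat.card_congr (subgroupOfEquivOfLe hT'.le).toEquiv).symm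
    have : Fact (Nat.Prime 2) := ⟨Nat.prime_two⟩
    rw [hT'.toSylow.card_eq_multiplicity, hC, hcard] at hc1
    have h19 : (64561751654400 * 2 * 2).factorization 2 = 19 := by
      rw [show (64561751654400 * 2 * 2 : ℕ) = 2 ^ 19 * 492567075 by norm_num,
        Nat.factorization_mul (by norm_num) (by norm_num), Finsupp.add_apply,
        Nat.Prime.factorization_pow Nat.prime_two, Finsupp.single_eq_same,
        Nat.factorization_eq_zero_of_not_dvd (by norm_num)]
    rw [h19, hb] at hc1
    have h1 : b ≤ 724 ∨ 725 ≤ b := by omega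
    rcases h1 with h1 | h1 <;> nlinarith

end Cfsg.Agent.OddHalf.D8.Fi22.Kill
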