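import Cfsg.Agent.OddHalf.D8.Fi22.Ord
import Cfsg.Agent.MTwelveType.SylowModel
import Cfsg.Agent.SporadicA.MathieuRecog
import Cfsg.Agent.S1694
import Cfsg.Agent.S1619
import Cfsg.Agent.S1627
import Cfsg.Agent.S0399
import Cfsg.Agent.R01.Fi22Facts
import Cfsg.Agent.KFacts.HS.Base

/-!
# ODD half, D8, `K = Fi₂₂`: orders of the alternating and of some sporadic groups (helper368)

`Bad (Nat.card X)` is impossible for the alternating groups and for the sporadic groups with even Schur multiplier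
(the Baby Monster is in `OrdB.lean`).
-/

set_option autoImplicit false

namespace Cfsg.Agent.OddHalf.D8.Fi22.Ord

open Cfsg

theorem not_bad_of_not_dvd {c : ℕ} (h : ¬ n0 ∣ c) : ¬ Bad c := fun hb => h hb.1

theorem not_bad_of_lt {c : ℕ} (h : N0 < c) : ¬ Bad c := fun hb => absurd hb.2.1 (not_le.2 h)

universe u

variable {X : Type u} [Group X]

theorem m12 (h : Spor.IsoM12 X) : ¬ Bad (Nat.card X) := by
  obtain ⟨e⟩ := h
  rw [Nat.card_congr e.toEquiv, MTwelveType.SylowModel.card_M12]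
  exact not_bad_of_not_dvd (by norm_num)

theorem m22 (h : Spor.IsoM22 X) : ¬ Bad (Nat.card X) := by
  obtain ⟨e⟩ := h
  rw [Nat.card_congr e.toEquiv, SporadicA.MathieuRecog.card_M22]
  exact not_bad_of_not_dvd (by norm_num)

theorem j2 (h : Spor.IsoJ2 X) : ¬ Bad (Nat.card X) := by
  obtain ⟨e⟩ := h
  rw [Nat.card_congr e.toEquiv, S1619.result.2.2.2]
  exact not_bad_of_not_dvd (by norm_num)

theorem hs (h : Spor.IsoHS X) : ¬ Bad (Nat.card X) := by
  rw [KFacts.HS.card h]
  exact not_bad_of_not_dvd (by norm_num)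

theorem suz (h : Spor.IsoSuz X) : ¬ Bad (Nat.card X) := by
  obtain ⟨e⟩ := h
  rw [Nat.card_congr e.toEquiv, S1694.result.2]
  exact not_bad_of_not_dvd (by norm_num)

theorem ru (h : Spor.IsoRu X) : ¬ Bad (Nat.card X) := by
  obtain ⟨e⟩ := h
  rw [Nat.card_congr e.toEquiv, S1627.result.2.1]
  exact not_bad_of_not_dvd (by norm_num)

theorem fi22 (h : Spor.IsoFi22 X) : ¬ Bad (Nat.card X) := by
  obtain ⟨e⟩ := h
  rw [Nat.card_congr e.toEquiv, R01.Fi22Facts.card]
  exact not_bad_of_lt (by norm_num)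

theorem co1 (h : Spor.IsoCo1 X) : ¬ Bad (Nat.card X) := by
  obtain ⟨e⟩ := h
  rw [Nat.card_congr e.toEquiv, S0399.result.2]
  exact not_bad_of_lt (by norm_num)

theorem not_bad_factorial {n : ℕ} (h5 : 5 ≤ n) : ¬ Bad (n.factorial / 2) := by
  intro h
  rcases Nat.lt_or_ge n 17 with hn | hn
  · have h1 := h.1
    interval_cases n <;> revert h1 <;> decide
  · have h1 : (17).factorial ≤ n.factorial := Nat.factorial_le hn
    have h2 : (17).factorial / 2 ≤ n.factorial / 2 := Nat.div_le_div_right h1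
    have h3 : N0 < (17).factorial / 2 := by decide
    have h4 := h.2.1
    omega

/-- alternating groups -/
theorem alt (h : IsAlternating X) : ¬ Bad (Nat.card X) := by
  obtain ⟨n, hn, ⟨e⟩⟩ := h
  have : Nontrivial (Fin n) := ⟨⟨0, by omega⟩, ⟨1, by omega⟩, by simp⟩
  have h1 := Nat.card_congr e.toEquiv
  rw [nat_card_alternatingGroup, Nat.card_fin] at h1
  rw [h1]
  exact not_bad_factorial hn

end Cfsg.Agent.OddHalf.D8.Fi22.Ord
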