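import Cfsg.Agent.OddHalf.D8.Fi22.PumpAbs
import Cfsg.Agent.OddHalf.D8.Fi22.OrdEven
import Cfsg.Agent.OddHalf.D8.Fi22.OrdSpor

/-!
# ODD half, D8, `K = Fi₂₂`: the order facts (helper921)
-/

set_option autoImplicit false

namespace Cfsg.Agent.OddHalf.D8.Fi22.OrdFacts

open Subgroup Cfsg Cfsg.Agent.OddHalf.D9.Cut Cfsg.Agent.OddHalf.D8.Fi22.Ord

universe u

/-- everything except the Baby Monster -/
theorem of_b (hb : ∀ (X : Type u) [Group X], Spor.IsoB X → ¬ Bad (Nat.card X)) : PumpAbs.OrdFacts.{u} where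
  alt _ _ h hb := Ord.alt h hb
  exc2 X _ h hB := by
    rcases h with h | h | h | h | h | h | h | h | h | h | h | h | h | h
    · exact OrdEven.card_u62 h
    · exact (OrdEven.not_sp62 h hB).elim
    · exact (OrdEven.not_o82 h hB).elim
    · exact (OrdEven.not_g24 h hB).elim
    · exact (OrdEven.not_f42 h hB).elim
    · exact (OrdEven.not_2e62 h hB).elim
    · exact (Ord.m12 h hB).elim
    · exact (Ord.j2 h hB).elim
    · exact (Ord.hs h hB).elim
    · exact (Ord.suz h hB).elim
    · exact (Ord.ru h hB).elim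
    · exact (Ord.fi22 h hB).elim
    · exact (Ord.co1 h hB).elim
    · exact (hb X h hB).elim
  exc4 X _ h hB := by
    rcases h with h | h
    · exact OrdEven.not_l34 h hB
    · exact Ord.m22 h hB
  sz _ _ h hB := OrdEven.not_sz h hB

end Cfsg.Agent.OddHalf.D8.Fi22.OrdFacts
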