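import Cfsg.Agent.OddHalf.D8.Fi22.Ord
import Cfsg.Agent.S1069
import Cfsg.Prelude.Def_LieTypeChar

/-!
# ODD half, D8, `K = Fi₂₂`: orders of the groups of Lie type in odd characteristic (helper957)
-/

set_option autoImplicit false

namespace Cfsg.Agent.OddHalf.D8.Fi22.Ord

open Subgroup Cfsg

/-! ### Arithmetic -/

theorem pw (q a b : ℕ) : q ^ (a + b) - q ^ a = q ^ a * (q ^ b - 1) := by
  rw [pow_add, Nat.mul_sub, mul_one]

theorem cancel {g c x m : ℕ} (hx : 0 < x) (h : g * (x * c) = x * m) : g * c = m := by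
  apply Nat.eq_of_mul_eq_mul_left hx
  rw [← h]; ring

theorem big {c x m : ℕ} (h : Bad c) (hx : 0 < x) (he : x * m ≤ x * c) (hm : N0 < m) : False :=
  absurd ((Nat.le_of_mul_le_mul_left he hx).trans h.2.1) (not_le.2 hm)

section Families

variable {F : Type} [Field F] [Fintype F] {q : ℕ}

theorem psl (hF : Fintype.card F = q) (hq : Odd q) (h3 : 3 ≤ q) (n : ℕ) (hn : 2 ≤ n)
    (h : Bad (Nat.card (Matrix.ProjectiveSpecialLinearGroup (Fin n) F))) : False := by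
  have he := S0243.result hF n hn
  set c := Nat.card (Matrix.ProjectiveSpecialLinearGroup (Fin n) F) with hc
  have hgn : Nat.gcd n (q - 1) ≤ n := Nat.gcd_le_left _ (by omega)
  have hgq : Nat.gcd n (q - 1) ≤ q - 1 := Nat.gcd_le_right _ (by omega)
  have hq1 : 0 < q - 1 := by omega
  have p1 : q - 1 = q ^ 1 - 1 := by rw [pow_one]
  obtain rfl | rfl | rfl | rfl | h6 : n = 2 ∨ n = 3 ∨ n = 4 ∨ n = 5 ∨ 6 ≤ n := by omega
  · apply l2 hq h3 h hgn (cancel hq1 ?_)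
    rw [he, Fin.prod_univ_two]
    show (q ^ 2 - q ^ 0) * (q ^ 2 - q ^ 1) = _
    have e1 := pw q 1 1
    norm_num at e1 ⊢
    rw [e1]; ring
  · apply l3 hq h3 h hgn (cancel hq1 ?_)
    rw [he, Fin.prod_univ_three]
    show (q ^ 3 - q ^ 0) * (q ^ 3 - q ^ 1) * (q ^ 3 - q ^ 2) = _
    have e1 := pw q 1 2
    have e2 := pw q 2 1
    norm_num at e1 e2 ⊢
    rw [e1, e2]; ring
  · apply l4 hq h3 h hgn (cancel hq1 ?_)
    rw [he, Fin.prod_univ_four]
    show (q ^ 4 - q ^ 0) * (q ^ 4 - q ^ 1) * (q ^ 4 - q ^ 2) * (q ^ 4 - q ^ 3) = _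
    have e1 := pw q 1 3
    have e2 := pw q 2 2
    have e3 := pw q 3 1
    norm_num at e1 e2 e3 ⊢
    rw [e1, e2, e3]; ring
  · apply l5 hq h3 h hgn (cancel hq1 ?_)
    rw [he, Fin.prod_univ_five]
    show (q ^ 5 - q ^ 0) * (q ^ 5 - q ^ 1) * (q ^ 5 - q ^ 2) * (q ^ 5 - q ^ 3) * (q ^ 5 - q ^ 4) = _
    have e1 := pw q 1 4
    have e2 := pw q 2 3
    have e3 := pw q 3 2
    have e4 := pw q 4 1
    norm_num at e1 e2 e3 e4 ⊢
    rw [e1, e2, e3, e4]; ring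
  · -- `(q-1)² c ≥ (q^(n-1) (q-1))^n`
    have h7 : (q ^ (n - 1) * (q - 1)) ^ n ≤ ∏ i : Fin n, (q ^ n - q ^ (i : ℕ)) := by
      calc (q ^ (n - 1) * (q - 1)) ^ n = ∏ _i : Fin n, (q ^ (n - 1) * (q - 1)) := by
            rw [Finset.prod_const, Finset.card_univ, Fintype.card_fin]
        _ ≤ ∏ i : Fin n, (q ^ n - q ^ (i : ℕ)) := by
            apply Finset.prod_le_prod'
            intro i _
            have e1 := pw q (n - 1) 1
            rw [pow_one, show n - 1 + 1 = n by omega] at e1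
            rw [← e1]
            apply Nat.sub_le_sub_left
            exact Nat.pow_le_pow_right (by omega) (by have := i.2; omega)
    rw [← he] at h7
    have h8 : (q - 1) ^ 2 * (q ^ (n - 1)) ^ n ≤ (q - 1) ^ 2 * c := by
      calc (q - 1) ^ 2 * (q ^ (n - 1)) ^ n ≤ (q - 1) ^ n * (q ^ (n - 1)) ^ n := by
            gcongr
        _ = (q ^ (n - 1) * (q - 1)) ^ n := by rw [mul_pow]; ring
        _ ≤ Nat.gcd n (q - 1) * ((q - 1) * c) := h7
        _ ≤ (q - 1) * ((q - 1) * c) := by gcongr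
        _ = (q - 1) ^ 2 * c := by ring
    refine big h (by positivity) h8 ?_
    calc N0 < 3 ^ 30 := by norm_num
      _ ≤ q ^ 30 := by gcongr
      _ ≤ q ^ ((n - 1) * n) := by
          apply Nat.pow_le_pow_right (by omega)
          have : 5 * 6 ≤ (n - 1) * n := Nat.mul_le_mul (by omega) h6
          omega
      _ = (q ^ (n - 1)) ^ n := by rw [pow_mul]

theorem psu (hF : Fintype.card F = q ^ 2) (hq : Odd q) (h3 : 3 ≤ q) (n : ℕ) (hn : 3 ≤ n)
    (h : Bad (Nat.card (PSU n F q))) : False := by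
  have he := S0280.result hF n (by omega)
  set c := Nat.card (PSU n F q) with hc
  have hgn : Nat.gcd n (q + 1) ≤ n := Nat.gcd_le_left _ (by omega)
  have hgq : Nat.gcd n (q + 1) ≤ q + 1 := Nat.gcd_le_right _ (by omega)
  have hq1 : 0 < q + 1 := by omega
  obtain rfl | rfl | rfl | h6 : n = 3 ∨ n = 4 ∨ n = 5 ∨ 6 ≤ n := by omega
  · apply u3 hq h3 h hgn (cancel hq1 ?_)
    rw [he]
    simp only [Finset.prod_range_succ, Finset.prod_range_zero]
    norm_num [show ¬ Even 1 by decide, show Even 2 by decide]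
    ring
  · apply u4 hq h3 h hgn (cancel hq1 ?_)
    rw [he]
    simp only [Finset.prod_range_succ, Finset.prod_range_zero]
    norm_num [show ¬ Even 1 by decide, show Even 2 by decide, show ¬ Even 3 by decide]
    ring
  · apply u5 hq h3 h hgn (cancel hq1 ?_)
    rw [he]
    simp only [Finset.prod_range_succ, Finset.prod_range_zero]
    norm_num [show ¬ Even 1 by decide, show Even 2 by decide, show ¬ Even 3 by decide,
      show Even 4 by decide]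
    ring
  · have h7 : ∏ i ∈ Finset.range 6, (if Even i then q ^ (i + 1) + 1 else q ^ (i + 1) - 1) ≤
        ∏ i ∈ Finset.range n, (if Even i then q ^ (i + 1) + 1 else q ^ (i + 1) - 1) := by
      apply Finset.prod_le_prod_of_subset_of_one_le' (Finset.range_subset_range.2 h6)
      intro i _ _
      have h8 : 3 ≤ q ^ (i + 1) := h3.trans (Nat.le_self_pow (by omega) q)
      split_ifs <;> omega
    have h8 : ∏ i ∈ Finset.range 6, (if Even i then q ^ (i + 1) + 1 else q ^ (i + 1) - 1) =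
        (q + 1) * (q ^ 2 - 1) * (q ^ 3 + 1) * (q ^ 4 - 1) * (q ^ 5 + 1) * (q ^ 6 - 1) := by
      simp only [Finset.prod_range_succ, Finset.prod_range_zero]
      norm_num [show ¬ Even 1 by decide, show Even 2 by decide, show ¬ Even 3 by decide,
        show Even 4 by decide, show ¬ Even 5 by decide]
    rw [h8] at h7
    have h9 : q ^ 15 ≤ q ^ (n * (n - 1) / 2) := by
      apply Nat.pow_le_pow_right (by omega)
      rw [Nat.le_div_iff_mul_le (by norm_num)]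
      have : 6 * 5 ≤ n * (n - 1) := Nat.mul_le_mul h6 (by omega)
      omega
    have h10 : q ^ 2 - 1 = (q + 1) * (q - 1) := by
      have := Nat.sq_sub_sq q 1
      rwa [one_pow] at this
    have h11 : (q + 1) ^ 2 * (q ^ 15 * (q - 1) * (q ^ 3 + 1) * (q ^ 4 - 1) * (q ^ 5 + 1) * (q ^ 6 - 1)) ≤
        (q + 1) ^ 2 * c := by
      calc (q + 1) ^ 2 * (q ^ 15 * (q - 1) * (q ^ 3 + 1) * (q ^ 4 - 1) * (q ^ 5 + 1) * (q ^ 6 - 1))
          = q ^ 15 * ((q + 1) * (q ^ 2 - 1) * (q ^ 3 + 1) * (q ^ 4 - 1) * (q ^ 5 + 1) * (q ^ 6 - 1)) := by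
            rw [h10]; ring
        _ ≤ Nat.gcd n (q + 1) * ((q + 1) * c) := by rw [he]; exact Nat.mul_le_mul h9 h7
        _ ≤ (q + 1) * ((q + 1) * c) := by gcongr
        _ = (q + 1) ^ 2 * c := by ring
    refine big h (by positivity) h11 ?_
    calc N0 < 3 ^ 15 * (3 - 1) * (3 ^ 3 + 1) * (3 ^ 4 - 1) * (3 ^ 5 + 1) * (3 ^ 6 - 1) := by norm_num
      _ ≤ _ := by gcongr

/-- `∏_{i<k} (q^(2(i+1)) - 1)` is monotone in `k` -/
theorem prod_mono (h3 : 3 ≤ q) {k m : ℕ} (hkm : k ≤ m) :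
    ∏ i ∈ Finset.range k, (q ^ (2 * (i + 1)) - 1) ≤ ∏ i ∈ Finset.range m, (q ^ (2 * (i + 1)) - 1) := by
  apply Finset.prod_le_prod_of_subset_of_one_le' (Finset.range_subset_range.2 hkm)
  intro i _ _
  have h8 : 3 ≤ q ^ (2 * (i + 1)) := h3.trans (Nat.le_self_pow (by omega) q)
  omega

theorem prod_two : ∏ i ∈ Finset.range 2, (q ^ (2 * (i + 1)) - 1) = (q ^ 2 - 1) * (q ^ 4 - 1) := by
  simp only [Finset.prod_range_succ, Finset.prod_range_zero]
  norm_num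

theorem prod_three : ∏ i ∈ Finset.range 3, (q ^ (2 * (i + 1)) - 1) =
    (q ^ 2 - 1) * (q ^ 4 - 1) * (q ^ 6 - 1) := by
  simp only [Finset.prod_range_succ, Finset.prod_range_zero]
  norm_num

theorem prod_four : ∏ i ∈ Finset.range 4, (q ^ (2 * (i + 1)) - 1) =
    (q ^ 2 - 1) * (q ^ 4 - 1) * (q ^ 6 - 1) * (q ^ 8 - 1) := by
  simp only [Finset.prod_range_succ, Finset.prod_range_zero]
  norm_num

/-- the formula for `PSp_{2m}(q)` and `PΩ_{2m+1}(q)` -/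
theorem sp_num (hq : Odd q) (h3 : 3 ≤ q) (m : ℕ) (hm : 2 ≤ m) {c g : ℕ} (hg : g ≤ 2)
    (he : g * c = q ^ (m ^ 2) * ∏ i ∈ Finset.range m, (q ^ (2 * (i + 1)) - 1)) (h : Bad c) : False := by
  obtain rfl | rfl | h4 : m = 2 ∨ m = 3 ∨ 4 ≤ m := by omega
  · rw [prod_two] at he
    exact s4 hq h3 h hg (by rw [he]; ring)
  · rw [prod_three] at he
    exact s6 hq h3 h hg (by rw [he]; ring)
  · have h5 := prod_mono h3 h4
    rw [prod_four] at h5
    have h6 : q ^ 16 ≤ q ^ (m ^ 2) := Nat.pow_le_pow_right (by omega) (by nlinarith)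
    have h7 := Nat.mul_le_mul h6 h5
    rw [← he] at h7
    have h8 : g * c ≤ 2 * N0 := Nat.mul_le_mul hg h.2.1
    have h9 : 3 ^ 16 * ((3 ^ 2 - 1) * (3 ^ 4 - 1) * (3 ^ 6 - 1) * (3 ^ 8 - 1)) ≤
        q ^ 16 * ((q ^ 2 - 1) * (q ^ 4 - 1) * (q ^ 6 - 1) * (q ^ 8 - 1)) := by gcongr
    have h10 := (h9.trans h7).trans h8
    norm_num at h10

theorem psp (hF : Fintype.card F = q) (hq : Odd q) (h3 : 3 ≤ q) (m : ℕ) (hm : 2 ≤ m)
    (h : Bad (Nat.card (PSp m F))) : False := by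
  have he := S0245.result hF m
  rw [Cfsg.Agent.ClassicalGeometry.AutPSpCount.card_sp (by omega), hF] at he
  exact sp_num hq h3 m hm (Nat.gcd_le_left _ (by norm_num)) he h

theorem poOdd (hF : Fintype.card F = q) (hq : Odd q) (h3 : 3 ≤ q) (m : ℕ) (hm : 3 ≤ m)
    (h : Bad (Nat.card (POmega F (quadFormOdd m F)))) : False :=
  sp_num hq h3 m (by omega) le_rfl (S0292.result hF hq m hm) h

/-- `g c = q^(m(m-1)) r ∏_{i<m-1} (q^(2(i+1)) - 1)`, `m ≥ 5`: too large -/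
theorem o_big (h3 : 3 ≤ q) (m : ℕ) (hm : 5 ≤ m) {c g r : ℕ} (hg : g ≤ 4) (hr : 1 ≤ r)
    (he : g * c = q ^ (m * (m - 1)) * r * ∏ i ∈ Finset.range (m - 1), (q ^ (2 * (i + 1)) - 1))
    (h : Bad c) : False := by
  have h5 := prod_mono h3 (show 4 ≤ m - 1 by omega)
  rw [prod_four] at h5
  have h6 : q ^ 20 ≤ q ^ (m * (m - 1)) := by
    apply Nat.pow_le_pow_right (by omega)
    have : 5 * 4 ≤ m * (m - 1) := Nat.mul_le_mul hm (by omega)
    omega
  have h7 := Nat.mul_le_mul (Nat.mul_le_mul h6 hr) h5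
  rw [← he] at h7
  have h8 : g * c ≤ 4 * N0 := Nat.mul_le_mul hg h.2.1
  have h9 : 3 ^ 20 * 1 * ((3 ^ 2 - 1) * (3 ^ 4 - 1) * (3 ^ 6 - 1) * (3 ^ 8 - 1)) ≤
      q ^ 20 * 1 * ((q ^ 2 - 1) * (q ^ 4 - 1) * (q ^ 6 - 1) * (q ^ 8 - 1)) := by gcongr
  have h10 := (h9.trans h7).trans h8
  norm_num at h10

theorem poPlus (hF : Fintype.card F = q) (hq : Odd q) (h3 : 3 ≤ q) (m : ℕ) (hm : 4 ≤ m)
    (h : Bad (Nat.card (POmega F (quadFormPlus m F)))) : False := by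
  have he := S0293.result hF m hm
  have hg : Nat.gcd 4 (q ^ m - 1) ≤ 4 := Nat.gcd_le_left _ (by norm_num)
  obtain rfl | h5 : m = 4 ∨ 5 ≤ m := by omega
  · rw [show 4 - 1 = 3 by norm_num, prod_three] at he
    exact o8p hq h3 h hg (by rw [he])
  · have h6 : 3 ≤ q ^ m := h3.trans (Nat.le_self_pow (by omega) q)
    exact o_big h3 m h5 hg (by omega) he h

theorem poMinus (hF : Fintype.card F = q) (hq : Odd q) (h3 : 3 ≤ q) (m : ℕ) (hm : 4 ≤ m) (a b : F)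
    (hab : ∀ z₁ z₂ : F, z₁ ^ 2 + a * z₁ * z₂ + b * z₂ ^ 2 = 0 → z₁ = 0 ∧ z₂ = 0)
    (h : Bad (Nat.card (POmega F (quadFormMinus (m - 1) F a b)))) : False := by
  have he := S0294.result hF m hm a b hab
  have hg : Nat.gcd 4 (q ^ m + 1) ≤ 4 := Nat.gcd_le_left _ (by norm_num)
  obtain rfl | h5 : m = 4 ∨ 5 ≤ m := by omega
  · rw [show 4 - 1 = 3 by norm_num, prod_three] at he
    exact o8m hq h3 h hg (by rw [he])
  · exact o_big h3 m h5 hg (by omega) he h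

theorem cG2 (hF : Fintype.card F = q) (hq : Odd q) (h3 : 3 ≤ q)
    (h : Bad (Nat.card ↥(Lie.chevG2.group F))) : False :=
  g2 hq h3 h (S1059.result hF)

theorem cF4 (hF : Fintype.card F = q) (h3 : 3 ≤ q) (h : Bad (Nat.card ↥(Lie.chevF4.group F))) : False := by
  have he := S1062.result hF
  have h1 := h.2.1
  rw [he] at h1
  have h9 : 3 ^ 24 * (3 ^ 2 - 1) * (3 ^ 6 - 1) * (3 ^ 8 - 1) * (3 ^ 12 - 1) ≤
    q ^ 24 * (q ^ 2 - 1) * (q ^ 6 - 1) * (q ^ 8 - 1) * (q ^ 12 - 1) := by gcongr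
  have h10 := h9.trans h1
  norm_num at h10

theorem cE6 (hF : Fintype.card F = q) (h3 : 3 ≤ q) (h : Bad (Nat.card ↥(Lie.chevE6.group F))) : False := by
  have he := S1063.result hF
  have h1 : Nat.gcd 3 (q - 1) * Nat.card ↥(Lie.chevE6.group F) ≤ 3 * N0 :=
    Nat.mul_le_mul (Nat.gcd_le_left _ (by norm_num)) h.2.1
  rw [he] at h1
  have h9 : 3 ^ 36 * (3 ^ 2 - 1) * (3 ^ 5 - 1) * (3 ^ 6 - 1) * (3 ^ 8 - 1) * (3 ^ 9 - 1) * (3 ^ 12 - 1) ≤
    q ^ 36 * (q ^ 2 - 1) * (q ^ 5 - 1) * (q ^ 6 - 1) * (q ^ 8 - 1) * (q ^ 9 - 1) * (q ^ 12 - 1) := by gcongr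
  have h10 := h9.trans h1
  norm_num at h10

theorem cE7 (hF : Fintype.card F = q) (h3 : 3 ≤ q) (h : Bad (Nat.card ↥(Lie.chevE7.group F))) : False := by
  have he := S1064.result hF
  have h1 : Nat.gcd 2 (q - 1) * Nat.card ↥(Lie.chevE7.group F) ≤ 2 * N0 :=
    Nat.mul_le_mul (Nat.gcd_le_left _ (by norm_num)) h.2.1
  rw [he] at h1
  have h9 : 3 ^ 63 * (3 ^ 2 - 1) * (3 ^ 6 - 1) * (3 ^ 8 - 1) * (3 ^ 10 - 1) * (3 ^ 12 - 1) * (3 ^ 14 - 1) *
      (3 ^ 18 - 1) ≤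
    q ^ 63 * (q ^ 2 - 1) * (q ^ 6 - 1) * (q ^ 8 - 1) * (q ^ 10 - 1) * (q ^ 12 - 1) * (q ^ 14 - 1) *
      (q ^ 18 - 1) := by gcongr
  have h10 := h9.trans h1
  norm_num at h10

theorem cE8 (hF : Fintype.card F = q) (h3 : 3 ≤ q) (h : Bad (Nat.card ↥(Lie.chevE8.group F))) : False := by
  have he := S1065.result hF
  have h1 := h.2.1
  rw [he] at h1
  have h9 : 3 ^ 120 * (3 ^ 2 - 1) * (3 ^ 8 - 1) * (3 ^ 12 - 1) * (3 ^ 14 - 1) * (3 ^ 18 - 1) * (3 ^ 20 - 1) *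
      (3 ^ 24 - 1) * (3 ^ 30 - 1) ≤
    q ^ 120 * (q ^ 2 - 1) * (q ^ 8 - 1) * (q ^ 12 - 1) * (q ^ 14 - 1) * (q ^ 18 - 1) * (q ^ 20 - 1) *
      (q ^ 24 - 1) * (q ^ 30 - 1) := by gcongr
  have h10 := h9.trans h1
  norm_num at h10

theorem tE6 (hF : Fintype.card F = q ^ 2) (hpp : IsPrimePow q) (h3 : 3 ≤ q)
    (h : Bad (Nat.card ↥(Lie.twistedE6 F q))) : False := by
  have he := S1066.result hpp hF
  have h1 : Nat.gcd 3 (q + 1) * Nat.card ↥(Lie.twistedE6 F q) ≤ 3 * N0 :=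
    Nat.mul_le_mul (Nat.gcd_le_left _ (by norm_num)) h.2.1
  rw [he] at h1
  have h9 : 3 ^ 36 * (3 ^ 2 - 1) * (3 ^ 5 + 1) * (3 ^ 6 - 1) * (3 ^ 8 - 1) * (3 ^ 9 + 1) * (3 ^ 12 - 1) ≤
    q ^ 36 * (q ^ 2 - 1) * (q ^ 5 + 1) * (q ^ 6 - 1) * (q ^ 8 - 1) * (q ^ 9 + 1) * (q ^ 12 - 1) := by gcongr
  have h10 := h9.trans h1
  norm_num at h10

theorem tD4 (hF : Fintype.card F = q ^ 3) (hpp : IsPrimePow q) (hq : Odd q) (h3 : 3 ≤ q)
    (h : Bad (Nat.card ↥(Lie.twistedD4 F q))) : False :=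
  d4t hq h3 h (S1067.result hpp hF)

theorem ree {m : ℕ} (hF : Fintype.card F = 3 ^ (2 * m + 1))
    (h : Bad (Nat.card ↥(Lie.twistedG2 F (3 ^ m)))) : False := by
  have he := S1069.result hF
  have h1 : 16 ∣ Nat.card ↥(Lie.twistedG2 F (3 ^ m)) := (by norm_num : (16 : ℕ) ∣ n0).trans h.1
  rw [he] at h1
  -- `q ≡ 3, 11 mod 16`
  have h2 : 3 ^ (2 * m + 1) % 16 = 3 ∨ 3 ^ (2 * m + 1) % 16 = 11 := by
    clear he h1 h hF
    induction m with
    | zero => left; norm_num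
    | succ m ih =>
      have e : 3 ^ (2 * (m + 1) + 1) = 3 ^ (2 * m + 1) * 9 := by ring
      rw [e]
      generalize 3 ^ (2 * m + 1) = r at ih ⊢
      omega
  set r := 3 ^ (2 * m + 1) with hr
  obtain ⟨k, hk⟩ : ∃ k, r = 16 * k + 3 ∨ r = 16 * k + 11 := ⟨r / 16, by omega⟩
  have hmod : r ^ 3 * (r - 1) * (r ^ 3 + 1) % 16 = 8 := by
    rcases hk with hk | hk
    · rw [hk, show 16 * k + 3 - 1 = 16 * k + 2 by omega]
      simp [Nat.mul_mod, Nat.pow_mod, Nat.add_mod]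
    · rw [hk, show 16 * k + 11 - 1 = 16 * k + 10 by omega]
      simp [Nat.mul_mod, Nat.pow_mod, Nat.add_mod]
  have := Nat.mod_eq_zero_of_dvd h1
  omega

end Families

/-- the cardinality of a finite field of odd characteristic is odd and at least 3 -/
theorem card_odd {F : Type} [Field F] [Fintype F] {p : ℕ} (hp : p.Prime) (h2 : p ≠ 2) [CharP F p] :
    Odd (Fintype.card F) ∧ 3 ≤ Fintype.card F := by
  have := Fact.mk hp
  obtain ⟨n, -, hn⟩ := FiniteField.card F p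
  have hodd : Odd (Fintype.card F) := by
    rw [hn]
    exact (hp.odd_of_ne_two h2).pow
  refine ⟨hodd, ?_⟩
  have h1 : 1 < Fintype.card F := Fintype.one_lt_card
  obtain ⟨k, hk⟩ := hodd
  omega

/-- **No simple group of Lie type in odd characteristic has a bad order.** -/
theorem lieOdd {X : Type*} [Group X] (hX : ∃ p : ℕ, p.Prime ∧ p ≠ 2 ∧ IsLieTypeChar p X)
    (h : Bad (Nat.card X)) : False := by
  obtain ⟨p, hp, hp2, hX⟩ := hX
  have hc : ∀ {Y : Type} [Group Y], Nonempty (X ≃* Y) → Bad (Nat.card Y) := by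
    rintro Y _ ⟨e⟩
    rw [← Nat.card_congr e.toEquiv]
    exact h
  rcases hX with hX | hX | hX | hX | hX | hX | hX | hX | hX | hX | hX
  · obtain ⟨F, _, _, _, n, h1, -, f⟩ := hX
    obtain ⟨ho, h3⟩ := card_odd (F := F) hp hp2
    exact psl rfl ho h3 n h1 (hc f)
  · obtain ⟨F, _, _, _, m, h1, -, f⟩ := hX
    obtain ⟨ho, h3⟩ := card_odd (F := F) hp hp2
    exact psp rfl ho h3 m h1 (hc f)
  · obtain ⟨F, _, _, _, n, q, h1, h2, -, f⟩ := hX
    obtain ⟨ho, h3⟩ := card_odd (F := F) hp hp2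
    rw [h1] at ho h3
    have hq : Odd q := (Nat.odd_pow_iff (by norm_num)).1 ho
    have h4 : 3 ≤ q := by
      by_contra hcon
      interval_cases q
      · norm_num at h3
      · norm_num at h3
      · exact absurd hq (by decide)
    exact psu h1 hq h4 n h2 (hc f)
  · obtain ⟨F, _, _, _, m, h1, h2, f⟩ := hX
    obtain ⟨ho, h3⟩ := card_odd (F := F) hp hp2
    exact poOdd rfl ho h3 m h1 (hc f)
  · obtain ⟨F, _, _, _, m, h1, f⟩ := hX
    obtain ⟨ho, h3⟩ := card_odd (F := F) hp hp2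
    exact poPlus rfl ho h3 m h1 (hc f)
  · obtain ⟨F, _, _, _, m, a, b, h1, h2, f⟩ := hX
    obtain ⟨ho, h3⟩ := card_odd (F := F) hp hp2
    exact poMinus rfl ho h3 m h1 a b h2 (hc f)
  · obtain ⟨F, _, _, _, hX⟩ := hX
    obtain ⟨ho, h3⟩ := card_odd (F := F) hp hp2
    rcases hX with ⟨-, f⟩ | f | f | f | f
    · exact cG2 rfl ho h3 (hc f)
    · exact cF4 rfl h3 (hc f)
    · exact cE6 rfl h3 (hc f)
    · exact cE7 rfl h3 (hc f)
    · exact cE8 rfl h3 (hc f)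
  · obtain ⟨F, _, _, _, q, hpp, hX⟩ := hX
    obtain ⟨ho, h3⟩ := card_odd (F := F) hp hp2
    rcases hX with ⟨h1, f⟩ | ⟨h1, f⟩
    · rw [h1] at ho h3
      have hq : Odd q := (Nat.odd_pow_iff (by norm_num)).1 ho
      have h4 : 3 ≤ q := by
        have := hpp.two_le
        obtain ⟨k, hk⟩ := hq
        omega
      exact tE6 h1 hpp h4 (hc f)
    · rw [h1] at ho h3
      have hq : Odd q := (Nat.odd_pow_iff (by norm_num)).1 ho
      have h4 : 3 ≤ q := by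
        have := hpp.two_le
        obtain ⟨k, hk⟩ := hq
        omega
      exact tD4 h1 hpp hq h4 (hc f)
  · exact hp2 hX.1
  · exact hp2 hX.1
  · obtain ⟨-, F, _, _, m, -, h1, f⟩ := hX
    exact ree h1 (hc f)

end Cfsg.Agent.OddHalf.D8.Fi22.Ord
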