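import Cfsg.Agent.OddHalf.Known
import Cfsg.Agent.OddHalf.D8.Fi22.OrdOdd
import Cfsg.Agent.OddHalf.D8.Fi22.CycQuot
import Cfsg.Agent.OddHalf.D6.PumpDown
import Cfsg.Agent.SignalizersComponents.PLayerAut

/-!
# ODD half, D8, `K = Fi₂₂`: the pump-up of `2.U₆(2)` by orders (helper957)

`a` an involution, `D` a component of `C(a)`, `J < D` perfect with centre `{1, a}` and `|J| = 2 |U₆(2)|`.
As `a ∈ Z(D)` and `|D| ≤ |K|`, the order of `X = D/Z(D)` is divisible by `|U₆(2)|`, different from it and at
most `|Fi₂₂| / 2`; there is no such known simple group with even multiplier.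
-/

set_option autoImplicit false

namespace Cfsg.Agent.OddHalf.D8.Fi22.PumpAbs

open scoped commutatorElement
open Subgroup Cfsg Cfsg.Agent.OddHalf.Iface Cfsg.Agent.OddHalf.D8.Fi22.Ord Cfsg.Agent.OddHalf.D9.Cut

universe u

/-- the orders of the groups with even multiplier and of the alternating groups -/
structure OrdFacts : Prop where
  alt : ∀ (X : Type u) [Group X], IsAlternating X → Bad (Nat.card X) → False
  exc2 : ∀ (X : Type u) [Group X], Exc2 X → Bad (Nat.card X) → Nat.card X = n0
  exc4 : ∀ (X : Type u) [Group X], Exc4 X → Bad (Nat.card X) → False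
  sz : ∀ (X : Type u) [Group X], XSz X → Bad (Nat.card X) → False

/-- the group theory: `|X|` is bad and different from `|U₆(2)|` -/
theorem bad_of {D : Type*} [Group D] [Finite D] (hp : commutator D = ⊤) {a : D} (ha : a ∈ center D)
    (ha2 : orderOf a = 2) {J : Subgroup D} (hne : J ≠ ⊤) (haJ : a ∈ J) (hJp : ⁅J, J⁆ = J)
    (hJz : ∀ x ∈ J, (∀ y ∈ J, x * y = y * x) → x = 1 ∨ x = a) (hJc : Nat.card J = 18393661440)
    (hc : Nat.card D ≤ 64561751654400) :
    Bad (Nat.card (D ⧸ center D)) ∧ Nat.card (D ⧸ center D) ≠ n0 := by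
  classical
  -- `|D| = |Z(D)| |X|`
  have h1 := Subgroup.card_eq_card_quotient_mul_card_subgroup (center D)
  have h2 : 2 ∣ Nat.card (center D) := by
    have h3 : orderOf (⟨a, ha⟩ : center D) = 2 := by rw [orderOf_mk, ha2]
    rw [← h3]
    exact orderOf_dvd_natCard _
  have hZ0 : 0 < Nat.card (center D) := Nat.card_pos
  have hX0 : 0 < Nat.card (D ⧸ center D) := Nat.card_pos
  have hle : Nat.card (D ⧸ center D) ≤ N0 := by
    have h4 : 2 ≤ Nat.card (center D) := Nat.le_of_dvd hZ0 h2
    have h5 : Nat.card (D ⧸ center D) * 2 ≤ Nat.card D := by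
      rw [h1]; exact Nat.mul_le_mul_left _ h4
    have h6 := h5.trans hc
    show _ ≤ 32280875827200
    omega
  -- the image of `J`
  set f : J →* D ⧸ center D := (QuotientGroup.mk' (center D)).comp J.subtype with hf
  have hker : (f.ker : Set J) = {1, ⟨a, haJ⟩} := by
    ext x
    constructor
    · intro hx
      have hx' : (x : D) ∈ center D := by
        have : f x = 1 := hx
        rwa [hf, MonoidHom.comp_apply, QuotientGroup.mk'_apply, QuotientGroup.eq_one_iff] at this
      rcases hJz x x.2 (fun y _ => ((mem_center_iff.1 hx') y).symm) with h | h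
      · left; exact Subtype.ext h
      · right; exact Subtype.ext h
    · rintro (rfl | rfl)
      · exact one_mem _
      · show f ⟨a, haJ⟩ = 1
        rw [hf, MonoidHom.comp_apply, QuotientGroup.mk'_apply, QuotientGroup.eq_one_iff]
        exact ha
  have hkc : Nat.card f.ker = 2 := by
    have hne' : (1 : J) ≠ ⟨a, haJ⟩ := by
      intro h
      have : a = 1 := (congrArg Subtype.val h).symm
      rw [this, orderOf_one] at ha2
      omega
    have : Nat.card f.ker = Set.ncard (f.ker : Set J) := rfl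
    rw [this, hker, Set.ncard_pair hne']
  have hrange : Nat.card f.range = n0 := by
    have h3 := Subgroup.card_eq_card_quotient_mul_card_subgroup f.ker
    rw [hkc, hJc, Nat.card_congr (QuotientGroup.quotientKerEquivRange f).toEquiv] at h3
    show _ = 9196830720
    omega
  have hd : n0 ∣ Nat.card (D ⧸ center D) := by
    rw [← hrange]
    exact Subgroup.card_subgroup_dvd_card f.range
  refine ⟨⟨hd, hle, hX0⟩, fun heq => hne ?_⟩
  -- equality: `D = J Z(D)`
  have htop : f.range = ⊤ := by
    apply Subgroup.eq_top_of_card_eq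
    rw [hrange, heq]
  have hsup : ∀ d : D, ∃ j ∈ J, ∃ z ∈ center D, d = j * z := by
    intro d
    have h3 : (QuotientGroup.mk d : D ⧸ center D) ∈ f.range := by rw [htop]; exact mem_top _
    obtain ⟨j, hj⟩ := h3
    have h4 : (QuotientGroup.mk (j : D) : D ⧸ center D) = QuotientGroup.mk d := hj
    rw [QuotientGroup.eq] at h4
    exact ⟨j, j.2, _, h4, by group⟩
  have hcomm : commutator D ≤ J := by
    rw [commutator_def, commutator_le]
    intro x _ y _
    obtain ⟨j, hj, z, hz, rfl⟩ := hsup x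
    obtain ⟨k, hk, w, hw, rfl⟩ := hsup y
    have hz' := mem_center_iff.1 hz
    have hw' := mem_center_iff.1 hw
    have h5 : ⁅j * z, k * w⁆ = ⁅j, k⁆ := by
      rw [commutatorElement_def, commutatorElement_def]
      calc j * z * (k * w) * (j * z)⁻¹ * (k * w)⁻¹
          = j * (z * k) * w * (z⁻¹ * j⁻¹) * (w⁻¹ * k⁻¹) := by group
        _ = j * (k * z) * w * (z⁻¹ * j⁻¹) * (w⁻¹ * k⁻¹) := by rw [← hz' k]
        _ = j * k * (z * w) * z⁻¹ * j⁻¹ * w⁻¹ * k⁻¹ := by group
        _ = j * k * (w * z) * z⁻¹ * j⁻¹ * w⁻¹ * k⁻¹ := by rw [hw' z]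
        _ = j * k * (w * j⁻¹) * w⁻¹ * k⁻¹ := by group
        _ = j * k * (j⁻¹ * w) * w⁻¹ * k⁻¹ := by rw [← hw' j⁻¹]
        _ = j * k * j⁻¹ * k⁻¹ := by group
    rw [h5, ← hJp]
    exact commutator_mem_commutator hj hk
  rw [eq_top_iff, ← hp]
  exact hcomm

/-- a quasisimple group modulo its centre is not commutative -/
theorem quo_na {D : Type*} [Group D] (h : IsQuasisimple D) : ¬ IsMulCommutative (D ⧸ center D) := by
  intro hc
  have h1 : commutator D ≤ center D := by
    rw [commutator_def, commutator_le]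
    intro x _ y _
    rw [← QuotientGroup.eq_one_iff]
    have h2 := hc.is_comm.comm (QuotientGroup.mk x : D ⧸ center D) (QuotientGroup.mk y)
    show (QuotientGroup.mk (x * y * x⁻¹ * y⁻¹) : D ⧸ center D) = 1
    have h3 : (QuotientGroup.mk (x * y * x⁻¹ * y⁻¹) : D ⧸ center D) =
        QuotientGroup.mk x * QuotientGroup.mk y * (QuotientGroup.mk x)⁻¹ * (QuotientGroup.mk y)⁻¹ := rfl
    rw [h3, h2]
    group
  rw [h.1.commutator_eq_top] at h1
  have := h.2
  obtain ⟨x, hx⟩ := exists_ne (1 : D ⧸ center D)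
  apply hx
  obtain ⟨d, rfl⟩ := QuotientGroup.mk_surjective x
  rw [QuotientGroup.eq_one_iff]
  exact h1 (mem_top d)

/-- **The pump-up of `2.U₆(2)`**, from the multiplier facts and the orders. -/
theorem pump (M : Mult.{u}) (O : OrdFacts.{u}) : ∀ (G : Type u) [Group G], Ctx G → ∀ K : Subgroup G,
    Std G K → Nat.card K = 64561751654400 → ∀ (a : G) (D J : Subgroup G), orderOf a = 2 → CompOf a D →
    J ≤ D → J ≠ D → a ∈ J → ⁅J, J⁆ = J → (∀ x ∈ J, (∀ y ∈ J, x * y = y * x) → x = 1 ∨ x = a) →
    Nat.card J = 18393661440 → False := by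
  intro G _ C K S hK a D J ha hD hJD hne haJ hJp hJz hJc
  have := C.fin
  have haD : a ∈ D := hJD haJ
  have hDa : ∀ x ∈ D, x * a = a * x := fun x hx => mem_centralizer_singleton_iff.1 (hD.1 hx)
  have hq : IsQuasisimple D :=
    Cfsg.Agent.SignalizersComponents.PLayerAut.isQuasisimple_of_equiv (subgroupOfEquivOfLe hD.1) hD.2.2
  set a' : D := ⟨a, haD⟩ with ha'
  have haz : a' ∈ center D := by
    rw [mem_center_iff]
    intro x
    exact Subtype.ext (hDa x x.2)
  have ha2 : orderOf a' = 2 := by rw [ha', orderOf_mk, ha]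
  set J' : Subgroup D := J.subgroupOf D with hJ'
  have hmap : J'.map D.subtype = J := by
    rw [hJ', subgroupOf_map_subtype, inf_of_le_left hJD]
  have hJ'ne : J' ≠ ⊤ := by
    intro h
    apply hne
    apply le_antisymm hJD
    rw [hJ', subgroupOf_eq_top] at h
    exact h
  have hJ'p : ⁅J', J'⁆ = J' := by
    apply Subgroup.map_injective D.subtype_injective
    rw [Subgroup.map_commutator, hmap, hJp]
  have hJ'z : ∀ x ∈ J', (∀ y ∈ J', x * y = y * x) → x = 1 ∨ x = a' := by
    intro x hx hy
    rcases hJz x (mem_subgroupOf.1 hx) (fun y hy' => by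
      have := hy ⟨y, hJD hy'⟩ (mem_subgroupOf.2 hy')
      exact congrArg Subtype.val this) with h | h
    · exact Or.inl (Subtype.ext h)
    · exact Or.inr (Subtype.ext h)
  have hJ'c : Nat.card J' = 18393661440 := by
    rw [← hJc]
    exact Nat.card_congr (subgroupOfEquivOfLe hJD).toEquiv
  have hcard : Nat.card D ≤ 64561751654400 := by
    rw [← hK]
    refine S.max a D ha hD fun h => ?_
    -- `D` is not simple
    exfalso
    have hs : IsSimpleGroup D := D6.PumpDown.IsL2o.simple h
    rcases (inferInstance : (center D).Normal).eq_bot_or_eq_top with h2 | h2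
    · rw [h2, mem_bot] at haz
      rw [haz, orderOf_one] at ha2
      omega
    · apply quo_na hq
      refine ⟨⟨fun x y => ?_⟩⟩
      obtain ⟨x, rfl⟩ := QuotientGroup.mk_surjective x
      obtain ⟨y, rfl⟩ := QuotientGroup.mk_surjective y
      rw [← QuotientGroup.mk_mul, ← QuotientGroup.mk_mul]
      have hy : y ∈ center D := h2 ▸ mem_top y
      rw [mem_center_iff.1 hy x]
  obtain ⟨hbad, hn0⟩ := bad_of hq.1.commutator_eq_top haz ha2 hJ'ne (mem_subgroupOf.2 haJ) hJ'p hJ'z
    hJ'c hcard
  have hna := quo_na hq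
  have hDne : D ≠ ⊤ := by
    intro h
    -- `a` would be central in `G`
    have := C.simple
    have h1 : a ∈ center G := by
      rw [mem_center_iff]
      intro x
      exact hDa x (h ▸ mem_top x)
    rcases (inferInstance : (center G).Normal).eq_bot_or_eq_top with h2 | h2
    · rw [h2, mem_bot] at h1
      rw [h1, orderOf_one] at ha
      omega
    · apply C.na
      refine ⟨⟨fun x y => ?_⟩⟩
      have hx : y ∈ center G := h2 ▸ mem_top y
      exact mem_center_iff.1 hx x
  have hknown : IsKnownSimple' (D ⧸ center D) :=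
    Known.known_quotient C.kproper D hDne (center D) hq.2 hna
  -- the quotient with cyclic centre
  obtain ⟨B, _, -, -, hQ, hcen, ⟨e⟩⟩ := CycQuot.exists_quo hq haz ha2
  set Y := (D ⧸ B) ⧸ center (D ⧸ B) with hY
  have hcY : Nat.card Y = Nat.card (D ⧸ center D) := Nat.card_congr e.toEquiv
  have hbY : Bad (Nat.card Y) := hcY ▸ hbad
  have hnY : Nat.card Y ≠ n0 := hcY ▸ hn0
  have hkY : IsKnownSimple' Y := Known.isKnownSimple'_congr e.symm hna hknown
  have hnaY : ¬ IsMulCommutative Y := quo_na hQ.2.1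
  rcases Known.classify hnaY hkY with h | h | h | h
  · exact O.alt Y h hbY
  · exact Ord.lieOdd h hbY
  · by_cases h1 : IsAlternating Y
    · exact O.alt Y h1 hbY
    by_cases h2 : LieOdd Y
    · exact Ord.lieOdd h2 hbY
    by_cases h3 : Exc2 Y
    · exact hnY (O.exc2 Y h3 hbY)
    by_cases h4 : Exc4 Y
    · exact O.exc4 Y h4 hbY
    by_cases h5 : XSz Y
    · exact O.sz Y h5 hbY
    exact hcen (M.lie (D ⧸ B) hQ ⟨h, h1, h2⟩ h3 h4 h5)
  · by_cases h3 : Exc2 Y
    · exact hnY (O.exc2 Y h3 hbY)
    by_cases h4 : Exc4 Y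
    · exact O.exc4 Y h4 hbY
    exact hcen (M.spor (D ⧸ B) hQ h h3 h4)

end Cfsg.Agent.OddHalf.D8.Fi22.PumpAbs
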