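import Cfsg.Agent.OddHalf.D8.Fi22.EltY
import Cfsg.Agent.OddHalf.D8.Fi22.Diag
import Cfsg.Agent.OddHalf.D8.Fi22.KAll

/-!
# ODD half, D8, `K = Fi22`: the swapped case as a structure `Dg` (helper921)
-/

set_option autoImplicit false

namespace Cfsg.Agent.OddHalf.D8.Fi22.ToDg

open Subgroup Cfsg Cfsg.Agent.OddHalf.D8.GlueE Cfsg.Agent.OddHalf.D3

universe u

variable {G : Type u} [Group G] {K D : Subgroup G} {t q : G} {d d' : K} {R : Subgroup K} {T : Set K}

theorem kf (h : All K T d d' R) : KF K (K.subtype '' T) := by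
  have h1 := KF.of_geo h.geo K.subtype K.subtype_injective
  rwa [range_subtype] at h1

/-- **the swapped case** -/
theorem dg (h : All K T d d' R) (E : Emb K t q (d * d') (centralizer ({d, d'} : Set K)))
    (hD : Comp (d : G) D) (hne : cj t D ≠ D) (h1 : ∀ m ∈ D, m * (t * m * t⁻¹) ∈ EltY.J d)
    (h2 : ∀ l ∈ EltY.J d, ∃ m ∈ D, l = m * (t * m * t⁻¹)) :
    Dg t (d : G) K D (K.subtype '' T) := by
  have htt := E.st.tt
  have hti : t⁻¹ = t := inv_eq_of_mul_eq_one_right htt
  have htd : t * (d : G) = d * t := (E.st.Kt d d.2).symm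
  have hDt : Comp (d : G) (cj t D) := hD.conj_of_comm htd
  have hcomm := hD.comm hDt fun e => hne e.symm
  refine
    { kf := kf h
      tw := ⟨htt, ?_⟩
      Kt := E.st.Kt
      aT := ⟨d, h.d_mem, rfl⟩
      Da := fun m hm => mem_cs.1 (hD.le hm)
      perf := hD.perfect
      diag := ?_
      surj := ?_
      comps := ?_ }
  · intro x hx y hy
    have h3 : t * y * t ∈ cj t D := by
      have := conj_mem_cj (g := t) hy
      rwa [hti] at this
    exact comm_elt hcomm hx h3
  · intro m hm
    have h3 := h1 m hm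
    rw [hti] at h3
    exact (EltY.mem_J.1 h3).1
  · intro k hk hka
    obtain ⟨m, hm, hmk⟩ := h2 k (EltY.mem_J.2 ⟨hk, hka⟩)
    rw [hti] at hmk
    exact ⟨m, hm, hmk.symm⟩
  · intro g hg
    have hDg : Comp (d : G) (cj g D) := hD.conj_of_comm hg
    by_cases h3 : cj g D = D
    · exact Or.inl (mem_normalizer_iff_cj.2 h3)
    · by_cases h4 : cj g D = cj t D
      · right; left
        apply mem_normalizer_iff_cj.2
        have h5 : cj (t * g) D = cj t (cj g D) := (cj_cj t g D).symm
        rw [h5, h4, cj_cj, htt, cj_one]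
      · right; right
        intro m hm n hn
        refine ⟨comm_elt (hDg.comm hD h3) (conj_mem_cj hm) hn, ?_⟩
        have h5 : t * n * t ∈ cj t D := by
          have := conj_mem_cj (g := t) hn
          rwa [hti] at this
        exact comm_elt (hDg.comm hDt h4) (conj_mem_cj hm) h5

end Cfsg.Agent.OddHalf.D8.Fi22.ToDg
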