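import Cfsg.Agent.OddHalf.D8.Rows
import Cfsg.Agent.OddHalf.D8.Fi22.ToDg
import Cfsg.Agent.OddHalf.D8.Fi22.Kill
import Cfsg.Agent.OddHalf.D8.Fi22.DiagThree
import Cfsg.Agent.R01.Assembly

/-!
# ODD half, D8: the row `K = Fi22` (helper921)

`row_of`: the row of `Fi22` from the pump-up of `2.U6(2)` (`PumpSt`, helper957).
-/

set_option autoImplicit false

namespace Cfsg.Agent.OddHalf.D8.Fi22.Row

open Subgroup Cfsg Cfsg.Agent.OddHalf.D8.GlueE Cfsg.Agent.OddHalf.D3 Cfsg.Agent.OddHalf.Iface
open Cfsg.Agent.OddHalf.D8.Wreath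

universe u

/-- the pump-up of `J = 2.U6(2)` -/
def PumpSt : Prop := ∀ (G : Type u) [Group G], Ctx G → ∀ K : Subgroup G, Std G K →
  Nat.card K = 64561751654400 → ∀ (a : G) (D J : Subgroup G), orderOf a = 2 → CompOf a D → J ≤ D → J ≠ D →
  a ∈ J → ⁅J, J⁆ = J → (∀ x ∈ J, (∀ y ∈ J, x * y = y * x) → x = 1 ∨ x = a) →
  Nat.card J = 18393661440 → False

variable {K : Type u} [Group K] {d d' : K} {R : Subgroup K}

theorem card_cent (F : KFacts.FiTT.Facts K d d' R) :
    Nat.card (centralizer ({d} : Set K)) = 18393661440 := by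
  obtain ⟨F4, _, _, hF, ⟨e⟩⟩ := F.quo
  have hd : d ∈ centralizer ({d} : Set K) := mem_centralizer_singleton_iff.2 rfl
  have hcen : (center (centralizer ({d} : Set K)) : Set (centralizer ({d} : Set K))) = {1, ⟨d, hd⟩} := by
    ext x
    rw [SetLike.mem_coe, mem_center_iff, Set.mem_insert_iff, Set.mem_singleton_iff]
    constructor
    · intro h
      rcases F.cc x (fun y hy => (congrArg Subtype.val (h ⟨y, mem_centralizer_singleton_iff.2 hy⟩)).symm)
        with h1 | h1
      · exact Or.inl (Subtype.ext h1)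
      · exact Or.inr (Subtype.ext h1)
    · rintro (h | h) y
      · rw [h]; simp
      · rw [h]
        exact Subtype.ext (mem_centralizer_singleton_iff.1 y.2)
  have h2 : Nat.card (center (centralizer ({d} : Set K))) = 2 := by
    have h3 : Nat.card (center (centralizer ({d} : Set K))) =
        (center (centralizer ({d} : Set K)) : Set (centralizer ({d} : Set K))).ncard := rfl
    rw [h3, hcen, Set.ncard_pair]
    intro h
    exact F.d_ne (congrArg Subtype.val h).symm
  rw [card_eq_card_quotient_mul_card_subgroup (center (centralizer ({d} : Set K))), h2,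
    Nat.card_congr e.toEquiv, R01.Assembly.card_PSU (by rw [hF]; norm_num)]

/-- rigidity of `K` over `C(a)` -/
theorem rig {T : Set K} (h : KTrans K T) {a : K} (ha : a ∈ T) : Rig T a where
  sq := h.sq
  bP := ha
  conj := h.conj
  one := fun x hx => h.trans a ha x hx
  three := h.three
  gen := h.gen
  opp := fun c hc c' hc' h1 h2 h3 => h.sameK a ha c hc c' hc' h1 h2 fun d hd hda hdc => (h3 d hd hda).1 hdc
  conn := fun S ⟨c0, hc0⟩ hS hcl c hc hca =>
    h.connK a ha S (fun x hx d hd hda hxd => hcl x hx d hd hda hxd) c0 (hS c0 hc0).1 c hc (hS c0 hc0).2 hca hc0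

/-- **the row `Fi22`** -/
theorem row_of (hpump : PumpSt.{u}) : Rows.Row.{u} (fun K _ => Spor.IsoFi22 K) := by
  intro G _ C K S hcyc hK
  have := C.fin
  obtain ⟨T, d, d', R, A⟩ := exists_all hK
  have F := A.facts
  have hcen : center ↥K = ⊥ := by
    rw [eq_bot_iff]
    intro x hx
    rw [mem_center_iff] at hx
    rw [mem_bot]
    rcases F.cc x (fun y _ => (hx y).symm) with h | h
    · exact h
    · exfalso
      obtain ⟨p, hp, -⟩ := F.swap
      have h1 := hx p
      rw [h] at h1
      apply F.ne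
      rw [← hp, h1]; group
  obtain ⟨t, q, TT, SS, x, P⟩ := Front.OfSheet.front C S hcyc hcen A.basic
  have E := P.toEmb
  have hd2 : orderOf (d : G) = 2 := orderOf_eq_prime (by rw [pow_two]; exact congrArg Subtype.val F.dd)
    fun h => F.d_ne (Subtype.ext h)
  obtain ⟨D, hD, h | ⟨hne, h1, h2⟩⟩ := EltY.pump22 F E P.xt P.xz (C.bal d hd2)
  · refine hpump G C K S F.card (d : G) D (EltY.J d) hd2 ⟨hD.le, hD.comp⟩ h.1.le h.1.ne EltY.d_mem_J
      ?_ ?_ ?_
    · exact isPerfect_iff.1 (EltY.quasi F).1
    · intro y hy hyc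
      exact EltY.cen_J F (EltY.mem_J.1 hy).1 hyc
    · rw [← card_cent F]
      exact (Nat.card_congr (equivMapOfInjective (centralizer ({d} : Set K)) K.subtype
        K.subtype_injective).toEquiv).symm
  · have hdg := ToDg.dg A E hD hne h1 h2
    have hcK : ∀ g, g * t = t * g → (∀ k ∈ K, g * k = k * g) → g = 1 ∨ g = t := fun g hg hgK =>
      P.Q2 g (E.st.cK g hg fun k hk => (hgK k hk).symm)
    have htd : t * (d : G) = d * t := (E.st.Kt d d.2).symm
    have hdd : (d : G) * d = 1 := congrArg Subtype.val F.dd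
    have cJ : ∀ g : G, g * t = t * g → (∀ j ∈ K, j * (d : G) = d * j → g * j = j * g) →
        g = 1 ∨ g = t ∨ g = d ∨ g = t * d := by
      intro g hg hj
      set τ : K ≃* K := K.normalizerMonoidHom ⟨g, E.st.nK g hg⟩ with hτ
      have hτa : ∀ x : K, ((τ x : K) : G) = g * x * g⁻¹ := fun x => nmh_apply (E.st.nK g hg) x
      rcases (rig A.kt A.d_mem).rigid (τ := τ.toMonoidHom) τ.injective (by
        intro c _ hcd
        apply Subtype.ext
        have h3 := hj c c.2 (congrArg Subtype.val hcd)
        show ((τ c : K) : G) = c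
        rw [hτa, h3]; group) with h3 | h3
      · have h4 : ∀ k ∈ K, g * k = k * g := by
          intro k hk
          have h5 : ((τ ⟨k, hk⟩ : K) : G) = k := congrArg Subtype.val (h3 ⟨k, hk⟩)
          rw [hτa] at h5
          exact mul_inv_eq_iff_eq_mul.1 h5
        rcases hcK g hg h4 with h5 | h5
        · exact Or.inl h5
        · exact Or.inr (Or.inl h5)
      · have h4 : ∀ k ∈ K, (d : G)⁻¹ * g * k = k * ((d : G)⁻¹ * g) := by
          intro k hk
          have h5 : ((τ ⟨k, hk⟩ : K) : G) = d * k * (d : G)⁻¹ := congrArg Subtype.val (h3 ⟨k, hk⟩)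
          rw [hτa] at h5
          calc (d : G)⁻¹ * g * k = (d : G)⁻¹ * (g * k * g⁻¹) * g := by group
            _ = (d : G)⁻¹ * (d * k * (d : G)⁻¹) * g := by rw [← h5]
            _ = k * ((d : G)⁻¹ * g) := by group
        have hdi : (d : G)⁻¹ = d := inv_eq_of_mul_eq_one_right hdd
        have h6 : (d : G)⁻¹ * g * t = t * ((d : G)⁻¹ * g) := by
          rw [hdi]
          calc (d : G) * g * t = d * (g * t) := by group
            _ = (d * t) * g := by rw [hg]; group
            _ = t * (d * g) := by rw [← htd]; group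
        rcases hcK _ h6 h4 with h5 | h5
        · right; right; left
          rw [inv_mul_eq_one] at h5
          exact h5.symm
        · right; right; right
          rw [inv_mul_eq_iff_eq_mul] at h5
          rw [h5, htd]
    obtain ⟨W, wr, -, nor'⟩ := hdg.exists_wr hcK cJ
    have nor : ∀ c, c * t = t * c → c ∈ normalizer (W : Set G) ∨ t * c ∈ normalizer (W : Set G) := by
      intro g hg
      apply nor' g hg
      rintro _ ⟨c, hc, rfl⟩
      refine ⟨K.normalizerMonoidHom ⟨g, E.st.nK g hg⟩ c, A.kt.aut _ c hc, ?_⟩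
      exact nmh_apply (E.st.nK g hg) c
    obtain ⟨f, hf⟩ := Kill.exists_hom E.st P.Q2 P.frame A.kt.out F.card wr nor
      ⟨d, d.2, fun e => F.d_ne (Subtype.ext e), congrArg Subtype.val F.dd⟩
    have hone := TR.Frame.hom_eq_one (Front.FE.index_ne_two C) f t
    rw [hone] at hf
    exact absurd hf (by decide)

end Cfsg.Agent.OddHalf.D8.Fi22.Row
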