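import Cfsg.Agent.OddHalf.D8.Fi22.Row
import Cfsg.Agent.OddHalf.D8.Fi22.OrdFacts

/-!
# ODD half, D8: the row `K = Fi₂₂` from the multiplier facts (helper921)
-/

set_option autoImplicit false

namespace Cfsg.Agent.OddHalf.D8.Fi22.RowOf

open Subgroup Cfsg Cfsg.Agent.OddHalf.D9.Cut Cfsg.Agent.OddHalf.D8.Fi22.Ord

universe u

theorem row_of_b (M : Mult.{u}) (hb : ∀ (X : Type u) [Group X], Spor.IsoB X → ¬ Bad (Nat.card X)) :
    Rows.Row.{u} (fun K _ => Spor.IsoFi22 K) :=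
  Row.row_of (PumpAbs.pump M (OrdFacts.of_b hb))

end Cfsg.Agent.OddHalf.D8.Fi22.RowOf
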